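/-
The Gram matrices behind a tensor decomposition of the symplectic form.
-/
import Mathlib
import Cfsg.Agent.Aschbacher.Sp.Tensor

set_option autoImplicit false
set_option linter.style.haveILetI false

namespace Cfsg.Agent.Aschbacher

open Matrix
open Cfsg.Geo
open scoped Kronecker

variable {F : Type*} [Field F] [Fintype F] {m : ℕ}

local notation "ι" => Fin m ⊕ Fin m

lemma exists_gram_of_tensor_structure {n₁ n₂ : ℕ} {e : ι ≃ Fin n₁ × Fin n₂} {P : GL ι F}
    {f₁ : (Fin n₁ → F) → (Fin n₁ → F) → F} {f₂ : (Fin n₂ → F) → (Fin n₂ → F) → F}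
    (h1 : IsSymplecticForm f₁) (h2 : IsSymmetricForm f₂)
    (hs : IsTensorFormStructure id (Cfsg.sympForm m F) f₁ f₂ e P) :
    ∃ (G : Matrix (Fin n₁) (Fin n₁) F) (S : Matrix (Fin n₂) (Fin n₂) F), IsUnit G.det ∧ IsUnit S.det ∧
      Gᵀ = -G ∧ Sᵀ = S ∧ (∀ i, G i i = 0) ∧ f₂ = sesqForm (RingHom.id F) S ∧
      (sympData m F).pull e P = G ⊗ₖ S := by
  obtain ⟨T, rfl⟩ := exists_sesqForm_of_bilinear h1.bilinear
  obtain ⟨S, rfl⟩ := exists_sesqForm_of_bilinear h2.bilinear
  obtain ⟨c, hc, hcs⟩ := hs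
  have hT : Tᵀ = -T := by
    refine sesqForm_inj (RingHom.id F) fun u v => ?_
    rw [← sesqForm_id_transpose, h1.skew, ← neg_one_smul F T, sesqForm_smul, neg_one_mul]
  have hTd : ∀ i, T i i = 0 := fun i => by
    rw [← sesqForm_single (RingHom.id F) T i i]
    exact h1.alternating _
  have hS : Sᵀ = S := by
    refine sesqForm_inj (RingHom.id F) fun u v => ?_
    rw [← sesqForm_id_transpose, h2.symm]
  refine ⟨c • T, S, ?_, isUnit_det_of_nondegenerate _ h2.nondegenerate, ?_, hS,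
    fun i => by rw [Matrix.smul_apply, hTd, smul_zero], rfl, ?_⟩
  · rw [Matrix.det_smul]
    exact ((IsUnit.mk0 c hc).pow _).mul (isUnit_det_of_nondegenerate _ h1.nondegenerate)
  · rw [Matrix.transpose_smul, hT, smul_neg]
  · refine sesqForm_inj (RingHom.id F) fun x y => ?_
    have h := hcs x y
    rw [gramMatrix_sesqForm, gramMatrix_sesqForm, formOfGram_id] at h
    rw [Matrix.smul_kronecker, sesqForm_smul]
    exact ((sympData m F).form_pull e P x y).symm.trans h

end Cfsg.Agent.Aschbacher
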