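/-
Over the field of three elements a tensor decomposition with a three-dimensional orthogonal factor lies in the
stabiliser of a decomposition into three non-degenerate subspaces.
-/
import Mathlib
import Cfsg.Agent.Aschbacher.Sp.Lists.TensorData

set_option autoImplicit false
set_option linter.style.haveILetI false

namespace Cfsg.Agent.Aschbacher

open Matrix
open Cfsg.Geo
open scoped Kronecker

variable {F : Type*} [Field F] [Fintype F]

lemma sq_eq_one_three (hq : Fintype.card F = 3) {x : F} (hx : x ≠ 0) : x * x = 1 := by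
  have := FiniteField.pow_card_sub_one_eq_one x hx
  rwa [hq, show 3 - 1 = 2 from rfl, sq] at this

lemma three_eq_zero_of_card (hq : Fintype.card F = 3) : (3 : F) = 0 := by
  have := Nat.cast_card_eq_zero F
  rw [hq] at this
  exact_mod_cast this

/-- A non-degenerate symmetric form in dimension three over three elements has an orthonormal basis up to sign. -/
lemma exists_congr_scalar_three (hq : Fintype.card F = 3) {S : Matrix (Fin 3) (Fin 3) F} (hS : IsUnit S.det)
    (hsymm : Sᵀ = S) :
    ∃ (C : Matrix (Fin 3) (Fin 3) F) (c : F), c ≠ 0 ∧ IsUnit C.det ∧ Cᵀ * S * C = c • 1 := by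
  have h3 := three_eq_zero_of_card hq
  haveI : Invertible (2 : F) := invertibleOfNonzero fun h => one_ne_zero (α := F) (by linear_combination h3 - h)
  let B : LinearMap.BilinForm F (Fin 3 → F) := Matrix.toBilin' S
  obtain ⟨v, hv⟩ := LinearMap.BilinForm.exists_orthogonal_basis (B := B) ⟨fun x y => by
    simp only [B, Matrix.toBilin'_apply', RingHom.id_apply]
    rw [Matrix.dotProduct_mulVec, ← Matrix.mulVec_transpose, hsymm, dotProduct_comm]⟩
  have hn : Module.finrank F (Fin 3 → F) = 3 := by simp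
  let w : Module.Basis (Fin 3) F (Fin 3 → F) := v.reindex (finCongr hn)
  set C : Matrix (Fin 3) (Fin 3) F := Matrix.of fun i j => w j i with hC
  have hCu : IsUnit C.det := by
    have : C = (Pi.basisFun F (Fin 3)).toMatrix w := by ext i j; simp [hC, Module.Basis.toMatrix_apply]
    rw [this]
    exact Matrix.isUnit_det_of_right_inverse (Module.Basis.toMatrix_mul_toMatrix_flip (Pi.basisFun F (Fin 3)) w)
  set d : Fin 3 → F := fun i => (Cᵀ * S * C) i i with hd
  have hdiag : Cᵀ * S * C = Matrix.diagonal d := by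
    ext i j
    by_cases h : i = j
    · subst h; simp [hd]
    · rw [Matrix.diagonal_apply_ne _ h]
      have : (Cᵀ * S * C) i j = B (w i) (w j) := by
        rw [Matrix.toBilin'_apply', Matrix.mul_assoc, Matrix.mul_apply', dotProduct]
        rfl
      rw [this]
      simp only [w, Module.Basis.reindex_apply]
      exact hv (fun he => h ((finCongr hn).symm.injective he))
  have hd0 : ∀ i, d i ≠ 0 := fun i h => by
    have h1 : IsUnit (Matrix.diagonal d).det := by
      rw [← hdiag, Matrix.det_mul, Matrix.det_mul, Matrix.det_transpose]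
      exact (hCu.mul hS).mul hCu
    rw [Matrix.det_diagonal] at h1
    exact h1.ne_zero (Finset.prod_eq_zero (Finset.mem_univ i) h)
  have hsign : ∀ i j, d i = d j ∨ d i = -d j := fun i j =>
    mul_self_eq_mul_self_iff.1 ((sq_eq_one_three hq (hd0 i)).trans (sq_eq_one_three hq (hd0 j)).symm)
  suffices ∃ (M : Matrix (Fin 3) (Fin 3) F) (c : F), c ≠ 0 ∧ Mᵀ * Matrix.diagonal d * M = c • 1 by
    obtain ⟨M, c, hc, hM⟩ := this
    have h : (C * M)ᵀ * S * (C * M) = c • 1 := by
      rw [← hM, ← hdiag, Matrix.transpose_mul]; simp only [Matrix.mul_assoc]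
    refine ⟨C * M, c, hc, isUnit_iff_ne_zero.2 fun h0 => ?_, h⟩
    have h1 := congrArg Matrix.det h
    rw [Matrix.det_mul, h0, mul_zero, Matrix.det_smul, Matrix.det_one, mul_one] at h1
    exact pow_ne_zero _ hc h1.symm
  rcases hsign 1 0 with h1 | h1
  · rcases hsign 2 0 with h2 | h2
    · refine ⟨1, d 0, hd0 0, ?_⟩
      rw [Matrix.transpose_one, one_mul, mul_one, Matrix.smul_one_eq_diagonal]
      congr 1
      funext i
      fin_cases i <;> simp [h1, h2]
    · refine ⟨!![1, 1, 0; 1, -1, 0; 0, 0, 1], -d 0, neg_ne_zero.2 (hd0 0), ?_⟩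
      ext i j
      fin_cases i <;> fin_cases j <;>
        simp [Matrix.mul_apply, Fin.sum_univ_three, h1, h2] <;> linear_combination (d 0) * h3
  · rcases hsign 2 0 with h2 | h2
    · refine ⟨!![1, 1, 0; 0, 0, 1; 1, -1, 0], -d 0, neg_ne_zero.2 (hd0 0), ?_⟩
      ext i j
      fin_cases i <;> fin_cases j <;>
        simp [Matrix.mul_apply, Fin.sum_univ_three, h1, h2] <;> linear_combination (d 0) * h3
    · refine ⟨!![0, 0, 1; 1, 1, 0; 1, -1, 0], d 0, hd0 0, ?_⟩
      ext i j
      fin_cases i <;> fin_cases j <;>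
        simp [Matrix.mul_apply, Fin.sum_univ_three, h1, h2] <;> linear_combination -(d 0) * h3

/-- Orthogonal matrices of degree three over three elements are monomial. -/
lemma exists_perm_of_orthogonal_three (hq : Fintype.card F = 3) {B : Matrix (Fin 3) (Fin 3) F}
    (h : Bᵀ * B = 1) : ∃ σ : Equiv.Perm (Fin 3), ∀ i j, B i j ≠ 0 → i = σ j := by
  have h3 := three_eq_zero_of_card hq
  have hval : ∀ x : F, x = 0 ∨ x * x = 1 := fun x => by
    by_cases hx : x = 0
    · exact Or.inl hx
    · exact Or.inr (sq_eq_one_three hq hx)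
  have hcol : ∀ j, ∃ i, B i j ≠ 0 ∧ ∀ k, B k j ≠ 0 → k = i := by
    intro j
    have hj := congrFun (congrFun h j) j
    simp only [Matrix.mul_apply, Fin.sum_univ_three, Matrix.transpose_apply, Matrix.one_apply_eq] at hj
    rcases hval (B 0 j) with a | a <;> rcases hval (B 1 j) with b | b <;> rcases hval (B 2 j) with c | c
    · simp [a, b, c] at hj
    · refine ⟨2, fun e => one_ne_zero (α := F) (by rw [← c, e, zero_mul]), fun k hk => ?_⟩
      fin_cases k <;> simp_all
    · refine ⟨1, fun e => one_ne_zero (α := F) (by rw [← b, e, zero_mul]), fun k hk => ?_⟩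
      fin_cases k <;> simp_all
    · rw [a, b, c] at hj
      exact absurd (show (1 : F) = 0 by linear_combination hj) one_ne_zero
    · refine ⟨0, fun e => one_ne_zero (α := F) (by rw [← a, e, zero_mul]), fun k hk => ?_⟩
      fin_cases k <;> simp_all
    · rw [a, b, c] at hj
      exact absurd (show (1 : F) = 0 by linear_combination hj) one_ne_zero
    · rw [a, b, c] at hj
      exact absurd (show (1 : F) = 0 by linear_combination hj) one_ne_zero
    · rw [a, b, c] at hj
      exact absurd (show (1 : F) = 0 by linear_combination h3 - hj) one_ne_zero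
  choose s hs hs' using hcol
  have hinj : Function.Injective s := by
    intro j k hjk
    by_contra hne
    have h1 := congrFun (congrFun h j) k
    rw [Matrix.one_apply_ne hne, Matrix.mul_apply, Finset.sum_eq_single (s j) (fun l _ hl => ?_) (by simp)] at h1
    · rw [Matrix.transpose_apply] at h1
      exact mul_ne_zero (hs j) (hjk ▸ hs k) h1
    · rw [Matrix.transpose_apply]
      by_contra hne'
      exact hl (hs' j l (left_ne_zero_of_mul hne'))
  exact ⟨Equiv.ofBijective s ((Fintype.bijective_iff_injective_and_card _).2 ⟨hinj, rfl⟩), fun i j hij => hs' j i hij⟩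

variable {m : ℕ}

local notation "ι" => Fin m ⊕ Fin m

theorem exists_decomposition_of_tensor_three (hm : 1 ≤ m) (hq : Fintype.card F = 3) {n : ℕ}
    {e : ι ≃ Fin n × Fin 3} {P : GL ι F} {G : Matrix (Fin n) (Fin n) F} {S : Matrix (Fin 3) (Fin 3) F}
    (hG : IsUnit G.det) (hS : IsUnit S.det) (hsymm : Sᵀ = S)
    (hpull : (sympData m F).pull e P = G ⊗ₖ S) :
    ∃ E : Fin 3 → Submodule F (ι → F), IsNondegenerateMDecomposition (Cfsg.sympForm m F) n E ∧
      tensorProductSubgroup n 3 e P ⊓ Cfsg.spGL m F ≤ decompositionStabilizer E := by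
  classical
  haveI : Nonempty ι := ⟨Sum.inl ⟨0, hm⟩⟩
  obtain ⟨i₀, -⟩ : Fin n × Fin 3 := e (Sum.inl ⟨0, hm⟩)
  have hn : 0 < n := i₀.pos
  set D := sympData m F with hD
  obtain ⟨C, c, hc, hCu, hC⟩ := exists_congr_scalar_three hq hS hsymm
  set K : Matrix (Fin n × Fin 3) (Fin n × Fin 3) F := (1 : Matrix (Fin n) (Fin n) F) ⊗ₖ C with hK
  set Ki : Matrix (Fin n × Fin 3) (Fin n × Fin 3) F := (1 : Matrix (Fin n) (Fin n) F) ⊗ₖ C⁻¹ with hKi
  have hKKi : K * Ki = 1 := by
    rw [hK, hKi, ← Matrix.mul_kronecker_mul, one_mul, Matrix.mul_nonsing_inv _ hCu, Matrix.one_kronecker_one]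
  have hKiK : Ki * K = 1 := mul_eq_one_comm.1 hKKi
  let Φ : (Fin n × Fin 3 → F) ≃ₗ[F] (ι → F) :=
    { toFun := fun x => (P : Matrix ι ι F) *ᵥ ((K *ᵥ x) ∘ e)
      invFun := fun v => Ki *ᵥ ((((P⁻¹ : GL ι F) : Matrix ι ι F) *ᵥ v) ∘ e.symm)
      map_add' := fun x y => by rw [← Matrix.mulVec_add, Matrix.mulVec_add K]; rfl
      map_smul' := fun a x => by
        rw [RingHom.id_apply, ← Matrix.mulVec_smul, Matrix.mulVec_smul K]; rfl
      left_inv := fun x => by
        dsimp only
        rw [Matrix.mulVec_mulVec _ ((P⁻¹ : GL ι F) : Matrix ι ι F), Units.inv_mul, Matrix.one_mulVec,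
          Function.comp_assoc, Equiv.self_comp_symm, Function.comp_id, Matrix.mulVec_mulVec, hKiK, Matrix.one_mulVec]
      right_inv := fun v => by
        dsimp only
        rw [Matrix.mulVec_mulVec _ K, hKKi, Matrix.one_mulVec,
          Function.comp_assoc, Equiv.symm_comp_self, Function.comp_id, Matrix.mulVec_mulVec, Units.mul_inv,
          Matrix.one_mulVec] }
  have hΦ : ∀ x y, D.form (Φ x) (Φ y) = x ⬝ᵥ (c • (G ⊗ₖ (1 : Matrix (Fin 3) (Fin 3) F))) *ᵥ y := by
    intro x y
    show D.form ((P : Matrix ι ι F) *ᵥ ((K *ᵥ x) ∘ e)) ((P : Matrix ι ι F) *ᵥ ((K *ᵥ y) ∘ e)) = _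
    rw [D.form_pull, hpull, show (⇑D.τ ∘ (K *ᵥ y)) = K *ᵥ y from rfl, Matrix.mulVec_mulVec,
      ← Matrix.vecMul_transpose, ← Matrix.dotProduct_mulVec, Matrix.mulVec_mulVec, hK,
      ← Matrix.kroneckerMap_transpose, Matrix.transpose_one, ← Matrix.mul_kronecker_mul,
      ← Matrix.mul_kronecker_mul, one_mul, mul_one, ← mul_assoc, hC, Matrix.kronecker_smul]
  let part : Fin 3 → (Fin n × Fin 3 → F) → (Fin n × Fin 3 → F) := fun i x p => if p.2 = i then x p else 0
  let W : Fin 3 → Submodule F (Fin n × Fin 3 → F) := fun i =>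
    { carrier := {x | ∀ p, p.2 ≠ i → x p = 0}
      add_mem' := fun {a b} ha hb p hp => by rw [Pi.add_apply, ha p hp, hb p hp, add_zero]
      zero_mem' := fun p _ => rfl
      smul_mem' := fun a x hx p hp => by rw [Pi.smul_apply, hx p hp, smul_zero] }
  let W' : Fin 3 → Submodule F (Fin n × Fin 3 → F) := fun i =>
    { carrier := {x | ∀ p, p.2 = i → x p = 0}
      add_mem' := fun {a b} ha hb p hp => by rw [Pi.add_apply, ha p hp, hb p hp, add_zero]
      zero_mem' := fun p _ => rfl
      smul_mem' := fun a x hx p hp => by rw [Pi.smul_apply, hx p hp, smul_zero] }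
  have hpart : ∀ i x, part i x ∈ W i := fun i x p hp => if_neg hp
  have hrank : ∀ i, Module.finrank F (W i) = n := by
    intro i
    let L : W i ≃ₗ[F] (Fin n → F) :=
      { toFun := fun x a => (x : Fin n × Fin 3 → F) (a, i)
        map_add' := fun x y => rfl
        map_smul' := fun a x => rfl
        invFun := fun z => ⟨fun p => if p.2 = i then z p.1 else 0, fun p hp => if_neg hp⟩
        left_inv := fun x => Subtype.ext (funext fun p => by
          by_cases h : p.2 = i
          · simp [← h]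
          · simp [h, x.2 p h])
        right_inv := fun z => funext fun a => if_pos rfl }
    rw [L.finrank_eq, Module.finrank_fintype_fun_eq_card, Fintype.card_fin]
  have horth : ∀ i j, i ≠ j → ∀ x ∈ W i, ∀ y ∈ W j, D.form (Φ x) (Φ y) = 0 := by
    intro i j hij x hx y hy
    rw [hΦ, dotProduct]
    refine Finset.sum_eq_zero fun p _ => ?_
    by_cases hp : p.2 = i
    · rw [Matrix.mulVec, dotProduct, Finset.sum_eq_zero (fun q _ => ?_), mul_zero]
      by_cases hq' : q.2 = j
      · simp [Matrix.one_apply, hp, hq', hij]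
      · rw [hy q hq', mul_zero]
    · rw [hx p hp, zero_mul]
  set E : Fin 3 → Submodule F (ι → F) := fun i => (W i).map (Φ : (Fin n × Fin 3 → F) →ₗ[F] (ι → F)) with hE
  have hsum : ∀ x, x = part 0 x + part 1 x + part 2 x := by
    intro x
    funext p
    obtain ⟨a, i⟩ := p
    fin_cases i <;> simp [part]
  refine ⟨E, ⟨⟨by norm_num, hn, fun i => ?_, ?_, ?_⟩, fun i w hw hw0 => ?_, ?_⟩, ?_⟩
  · rw [hE, LinearEquiv.finrank_map_eq, hrank]
  · rw [iSupIndep_def]
    intro i
    have hle : ⨆ (j) (_ : j ≠ i), E j ≤ (W' i).map (Φ : (Fin n × Fin 3 → F) →ₗ[F] (ι → F)) :=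
      iSup₂_le fun j hj => Submodule.map_mono fun x hx p hp => hx p (by rw [hp]; exact fun h => hj h.symm)
    rw [Submodule.disjoint_def]
    intro v hv hv'
    obtain ⟨x, hx, rfl⟩ := hv
    obtain ⟨y, hy, hxy⟩ := hle hv'
    obtain rfl : y = x := Φ.injective hxy
    have : y = 0 := funext fun p => by
      by_cases h : p.2 = i
      · exact hy p h
      · exact hx p h
    rw [this, map_zero]
  · rw [eq_top_iff]
    intro v _
    obtain ⟨x, rfl⟩ := Φ.surjective v
    rw [hsum x, map_add, map_add]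
    exact add_mem (add_mem (Submodule.mem_iSup_of_mem 0 ⟨_, hpart _ _, rfl⟩)
      (Submodule.mem_iSup_of_mem 1 ⟨_, hpart _ _, rfl⟩)) (Submodule.mem_iSup_of_mem 2 ⟨_, hpart _ _, rfl⟩)
  · obtain ⟨x, hx, rfl⟩ := hw
    obtain ⟨z, hz⟩ := (D.nondegenerate _ hw0).2
    obtain ⟨y, rfl⟩ := Φ.surjective z
    have hkey : D.form (Φ x) (Φ (part i y)) = D.form (Φ x) (Φ y) := by
      conv_rhs => rw [hsum y]
      rw [map_add, map_add, D.form_add_right, D.form_add_right]
      fin_cases i
      · rw [horth _ _ (by decide) x hx _ (hpart 1 y), horth _ _ (by decide) x hx _ (hpart 2 y), add_zero, add_zero]; rfl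
      · rw [horth _ _ (by decide) x hx _ (hpart 0 y), horth _ _ (by decide) x hx _ (hpart 2 y), zero_add, add_zero]; rfl
      · rw [horth _ _ (by decide) x hx _ (hpart 0 y), horth _ _ (by decide) x hx _ (hpart 1 y), zero_add, zero_add]; rfl
    refine ⟨⟨Φ (part i y), ⟨_, hpart i y, rfl⟩, fun h => hz ?_⟩, Φ (part i y), ⟨_, hpart i y, rfl⟩, fun h => hz ?_⟩
    · exact hkey ▸ D.form_eq_zero_comm h
    · exact hkey ▸ h
  · rintro i j hij _ ⟨x, hx, rfl⟩ _ ⟨y, hy, rfl⟩
    exact horth i j hij x hx y hy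
  · intro g hg
    obtain ⟨a, b, d, hd, hab, ha, hb⟩ := exists_factor_similitudes (H := tensorProductSubgroup n 3 e P ⊓ Cfsg.spGL m F)
      e P hm hG hS hpull inf_le_right inf_le_left hg
    set B : Matrix (Fin 3) (Fin 3) F := C⁻¹ * (b : Matrix (Fin 3) (Fin 3) F) * C with hB
    have hBB : Bᵀ * B = (d⁻¹ : F) • (1 : Matrix (Fin 3) (Fin 3) F) := by
      have h1 : Bᵀ * (Cᵀ * S * C) * B = d⁻¹ • (Cᵀ * S * C) := by
        have hCC : C * C⁻¹ = 1 := Matrix.mul_nonsing_inv _ hCu
        calc Bᵀ * (Cᵀ * S * C) * B = (C * B)ᵀ * S * (C * B) := by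
              rw [Matrix.transpose_mul C B]; simp only [Matrix.mul_assoc]
          _ = ((b : Matrix (Fin 3) (Fin 3) F) * C)ᵀ * S * ((b : Matrix (Fin 3) (Fin 3) F) * C) := by
              rw [show C * B = (b : Matrix (Fin 3) (Fin 3) F) * C by
                rw [hB, ← Matrix.mul_assoc C, ← Matrix.mul_assoc C, hCC, one_mul]]
          _ = Cᵀ * ((b : Matrix (Fin 3) (Fin 3) F)ᵀ * S * b) * C := by
              rw [Matrix.transpose_mul]; simp only [Matrix.mul_assoc]
          _ = _ := by rw [hb, Matrix.mul_smul, Matrix.smul_mul]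
      rw [hC, Matrix.mul_smul, mul_one, Matrix.smul_mul, smul_comm] at h1
      exact smul_right_injective _ hc h1
    have hd1 : d⁻¹ = 1 := by
      have h1 := congrArg Matrix.det hBB
      rw [Matrix.det_mul, Matrix.det_transpose, Matrix.det_smul, Matrix.det_one, mul_one, Fintype.card_fin] at h1
      have hB0 : B.det ≠ 0 := fun h0 => by
        rw [h0, mul_zero] at h1
        exact pow_ne_zero 3 (inv_ne_zero hd) h1.symm
      rw [sq_eq_one_three hq hB0, pow_succ, sq, sq_eq_one_three hq (inv_ne_zero hd), one_mul] at h1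
      exact h1.symm
    rw [hd1, one_smul] at hBB
    obtain ⟨σ, hσ⟩ := exists_perm_of_orthogonal_three hq hBB
    refine ⟨σ, fun i => Submodule.eq_of_le_of_finrank_le ?_ ?_⟩
    · rintro _ ⟨_, ⟨x, hx, rfl⟩, rfl⟩
      refine ⟨((a : Matrix (Fin n) (Fin n) F) ⊗ₖ B) *ᵥ x, fun p hp => ?_, ?_⟩
      · rw [Matrix.mulVec, dotProduct]
        refine Finset.sum_eq_zero fun q _ => ?_
        by_cases hq' : q.2 = i
        · rw [Matrix.kroneckerMap_apply, hq']
          by_cases hb0 : B p.2 i = 0
          · rw [hb0, mul_zero, zero_mul]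
          · exact absurd (hσ _ _ hb0) hp
        · rw [hx q hq', mul_zero]
      · show Φ _ = Matrix.toLin' (g : Matrix ι ι F) (Φ x)
        rw [Matrix.toLin'_apply]
        show (P : Matrix ι ι F) *ᵥ ((K *ᵥ _) ∘ e) = (g : Matrix ι ι F) *ᵥ ((P : Matrix ι ι F) *ᵥ ((K *ᵥ x) ∘ e))
        rw [← glCoord_mulVec e P g, hab, Matrix.mulVec_mulVec, Matrix.mulVec_mulVec, hK, hB,
          ← Matrix.mul_kronecker_mul, ← Matrix.mul_kronecker_mul, one_mul, mul_one, ← mul_assoc,
          ← mul_assoc, Matrix.mul_nonsing_inv _ hCu, one_mul]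
    · rw [← (Submodule.equivMapOfInjective (Matrix.toLin' (g : Matrix ι ι F)) (fun u v h => ?_) (E i)).finrank_eq]
      · rw [hE, LinearEquiv.finrank_map_eq, LinearEquiv.finrank_map_eq, hrank, hrank]
      · have := congrArg (fun z => ((g⁻¹ : GL ι F) : Matrix ι ι F) *ᵥ z) h
        simpa [Matrix.toLin'_apply, Matrix.mulVec_mulVec] using this

end Cfsg.Agent.Aschbacher
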