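/-
A tensor product of an alternating plane and a four-dimensional symmetric form of plus type is a tensor cube.
-/
import Mathlib
import Cfsg.Agent.Aschbacher.Sp.Lists.TensorData

set_option autoImplicit false
set_option linter.style.haveILetI false

namespace Cfsg.Agent.Aschbacher

open Matrix
open Cfsg.Geo
open scoped Kronecker

variable {F : Type*} [Field F]

/-- The plus-type symmetric form on pairs. -/
def hypFour (F : Type*) [Field F] : Matrix (Fin 2 × Fin 2) (Fin 2 × Fin 2) F := altTwo F ⊗ₖ altTwo F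

/-- The interchange of the two factors. -/
def swapFour (F : Type*) [Field F] : Matrix (Fin 2 × Fin 2) (Fin 2 × Fin 2) F :=
  (1 : Matrix (Fin 2 × Fin 2) (Fin 2 × Fin 2) F).submatrix Prod.swap id

lemma swapFour_mul_self : swapFour F * swapFour F = 1 := by
  ext ⟨i, j⟩ ⟨k, l⟩
  fin_cases i <;> fin_cases j <;> fin_cases k <;> fin_cases l <;>
    simp [swapFour, Matrix.mul_apply, Fintype.sum_prod_type, Fin.sum_univ_two, Matrix.one_apply]

lemma swapFour_congr : (swapFour F)ᵀ * hypFour F * swapFour F = hypFour F := by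
  ext ⟨i, j⟩ ⟨k, l⟩
  fin_cases i <;> fin_cases j <;> fin_cases k <;> fin_cases l <;>
    simp [swapFour, hypFour, altTwo, Matrix.mul_apply, Fintype.sum_prod_type, Fin.sum_univ_two, Matrix.one_apply]

lemma swapFour_kronecker (a b : Matrix (Fin 2) (Fin 2) F) :
    swapFour F * (a ⊗ₖ b) = (b ⊗ₖ a) * swapFour F := by
  ext ⟨i, j⟩ ⟨k, l⟩
  fin_cases i <;> fin_cases j <;> fin_cases k <;> fin_cases l <;>
    simp [swapFour, Matrix.mul_apply, Fintype.sum_prod_type, Fin.sum_univ_two, Matrix.one_apply] <;> ring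

/-- Similitudes of the plus-type form fixing the first basis vector. -/
lemma exists_of_fix_corner {M : Matrix (Fin 2 × Fin 2) (Fin 2 × Fin 2) F} {μ : F} (hμ : μ ≠ 0)
    (h2 : (2 : F) ≠ 0) (h : Mᵀ * hypFour F * M = μ • hypFour F)
    (hc : ∀ p, M p (0, 0) = if p = (0, 0) then 1 else 0) :
    ∃ a b : Matrix (Fin 2) (Fin 2) F, M = a ⊗ₖ b ∨ M = swapFour F * (a ⊗ₖ b) := by
  suffices key : ∀ N : Matrix (Fin 2 × Fin 2) (Fin 2 × Fin 2) F, Nᵀ * hypFour F * N = μ • hypFour F →
      (∀ p, N p (0, 0) = if p = (0, 0) then 1 else 0) → N (1, 0) (0, 1) = 0 →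
      ∃ a b : Matrix (Fin 2) (Fin 2) F, N = a ⊗ₖ b by
    have e : ∀ p q, (Mᵀ * hypFour F * M) p q = (μ • hypFour F) p q := fun p q => by rw [h]
    have h11 := e (0, 0) (0, 1)
    have hiso := e (0, 1) (0, 1)
    simp [hypFour, altTwo, Matrix.mul_apply, Fintype.sum_prod_type, Fin.sum_univ_two, hc] at h11 hiso
    rw [h11] at hiso
    have hz : M (0, 1) (0, 1) * M (1, 0) (0, 1) = 0 := by
      apply mul_left_cancel₀ h2
      linear_combination -hiso
    rcases mul_eq_zero.1 hz with hz | hz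
    · obtain ⟨a, b, hab⟩ := key (swapFour F * M) (by
        rw [Matrix.transpose_mul, ← h]
        conv_rhs => rw [← swapFour_congr (F := F)]
        simp only [Matrix.mul_assoc]) (fun p => by
          obtain ⟨i, j⟩ := p
          fin_cases i <;> fin_cases j <;>
            simp [swapFour, Matrix.mul_apply, Fintype.sum_prod_type, Fin.sum_univ_two, Matrix.one_apply, hc])
        (by simp [swapFour, Matrix.mul_apply, Fintype.sum_prod_type, Fin.sum_univ_two, Matrix.one_apply, hz])
      exact ⟨a, b, Or.inr (by rw [← hab, ← Matrix.mul_assoc, swapFour_mul_self, one_mul])⟩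
    · obtain ⟨a, b, hab⟩ := key M h hc hz
      exact ⟨a, b, Or.inl hab⟩
  intro N hN hNc hz
  have e : ∀ p q, (Nᵀ * hypFour F * N) p q = (μ • hypFour F) p q := fun p q => by rw [hN]
  have e1 := e (0, 0) (0, 1)
  have e2 := e (0, 0) (1, 0)
  have e3 := e (0, 0) (1, 1)
  have e5 := e (1, 0) (1, 0)
  have e6 := e (0, 1) (1, 0)
  have e7 := e (0, 1) (1, 1)
  have e8 := e (1, 0) (1, 1)
  have e9 := e (1, 1) (1, 1)
  simp [hypFour, altTwo, Matrix.mul_apply, Fintype.sum_prod_type, Fin.sum_univ_two, hNc, hz] at e1 e2 e3 e5 e6 e7 e8 e9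
  rw [e1] at e6 e7
  rw [e2] at e5 e6 e8
  rw [e3] at e7 e8 e9
  set α := N (0, 0) (0, 1)
  set β := N (0, 1) (0, 1)
  set p := N (0, 0) (1, 0)
  set q := N (0, 1) (1, 0)
  set r := N (1, 0) (1, 0)
  have hβr : β * r = μ := by linear_combination -e6
  have hr : r ≠ 0 := right_ne_zero_of_mul (hβr ▸ hμ)
  have hβ : β ≠ 0 := left_ne_zero_of_mul (hβr ▸ hμ)
  have hq : q = 0 := by
    have h5 : q * r = 0 := mul_left_cancel₀ h2 (by linear_combination -e5)
    exact (mul_eq_zero.1 h5).resolve_right hr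
  rw [hq] at e8
  have h10 : N (1, 0) (1, 1) = α * r := by
    apply mul_left_cancel₀ hβ
    linear_combination -e7 - α * hβr
  have h01 : N (0, 1) (1, 1) = p * β := by
    apply mul_left_cancel₀ hr
    linear_combination -e8 - p * hβr
  have h00 : N (0, 0) (1, 1) = α * p := by
    apply mul_left_cancel₀ (mul_ne_zero h2 hμ)
    rw [h10, h01] at e9
    linear_combination e9 + 2 * α * p * hβr
  refine ⟨!![1, p; 0, r], !![1, α; 0, β], ?_⟩
  ext ⟨i, j⟩ ⟨k, l⟩
  fin_cases i <;> fin_cases j <;> fin_cases k <;> fin_cases l <;>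
    simp [hNc, e1, e2, e3, hz, hq, h10, h01, h00, α, β, p, r, q, ← hβr, mul_comm]

/-- Similitudes of the plus-type form are tensor products, possibly after the interchange. -/
theorem exists_of_hyp_similitude (h2 : (2 : F) ≠ 0) {M : Matrix (Fin 2 × Fin 2) (Fin 2 × Fin 2) F} {μ : F}
    (hμ : μ ≠ 0) (h : Mᵀ * hypFour F * M = μ • hypFour F) :
    ∃ a b : Matrix (Fin 2) (Fin 2) F, M = a ⊗ₖ b ∨ M = swapFour F * (a ⊗ₖ b) := by
  classical
  set u : Fin 2 × Fin 2 → F := fun p => M p (0, 0) with hu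
  have hiso : u (0, 0) * u (1, 1) = u (0, 1) * u (1, 0) := by
    have e := congrFun (congrFun h (0, 0)) (0, 0)
    simp [hypFour, altTwo, Matrix.mul_apply, Fintype.sum_prod_type, Fin.sum_univ_two] at e
    apply mul_left_cancel₀ h2
    linear_combination e
  have hdetH : (hypFour F).det ≠ 0 := by
    rw [hypFour, Matrix.det_kronecker]
    simp [altTwo, Matrix.det_fin_two]
  have hMu : M.det ≠ 0 := fun h0 => by
    have h1 := congrArg Matrix.det h
    rw [Matrix.det_mul, h0, mul_zero, Matrix.det_smul] at h1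
    exact mul_ne_zero (pow_ne_zero _ hμ) hdetH h1.symm
  have hu0 : u ≠ 0 := fun h0 => hMu (Matrix.det_eq_zero_of_column_eq_zero (0, 0) fun p => congrFun h0 p)
  obtain ⟨a, b, ha, hb, hab⟩ : ∃ a b : Matrix (Fin 2) (Fin 2) F, a.det ≠ 0 ∧ b.det ≠ 0 ∧
      ∀ p, (a ⊗ₖ b) p (0, 0) = u p := by
    obtain ⟨x, y, hxy⟩ : ∃ x y : Fin 2 → F, ∀ i j, x i * y j = u (i, j) := by
      by_cases hfirst : u (0, 0) = 0 ∧ u (0, 1) = 0
      · exact ⟨![0, 1], ![u (1, 0), u (1, 1)], fun i j => by
          fin_cases i <;> fin_cases j <;> simp [hfirst.1, hfirst.2]⟩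
      by_cases h00 : u (0, 0) = 0
      · have h01 : u (0, 1) ≠ 0 := fun h => hfirst ⟨h00, h⟩
        have h10 : u (1, 0) = 0 := by
          rw [h00, zero_mul, eq_comm] at hiso
          exact (mul_eq_zero.1 hiso).resolve_left h01
        exact ⟨![1, u (1, 1) / u (0, 1)], ![0, u (0, 1)], fun i j => by
          fin_cases i <;> fin_cases j <;> simp [h00, h10, h01]⟩
      · exact ⟨![1, u (1, 0) / u (0, 0)], ![u (0, 0), u (0, 1)], fun i j => by
          fin_cases i <;> fin_cases j <;> simp [h00]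
          field_simp
          linear_combination -hiso⟩
    have hext : ∀ x : Fin 2 → F, x ≠ 0 → ∃ a : Matrix (Fin 2) (Fin 2) F, a.det ≠ 0 ∧ ∀ i, a i 0 = x i := by
      intro x hx
      by_cases h0 : x 0 = 0
      · have h1 : x 1 ≠ 0 := fun h1 => hx (funext fun i => by fin_cases i <;> assumption)
        exact ⟨!![x 0, 1; x 1, 0], by simp [Matrix.det_fin_two, h1], fun i => by fin_cases i <;> simp⟩
      · exact ⟨!![x 0, 0; x 1, 1], by simp [Matrix.det_fin_two, h0], fun i => by fin_cases i <;> simp⟩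
    obtain ⟨a, ha, hax⟩ := hext x fun h0 => hu0 (funext fun p => by rw [← hxy p.1 p.2, h0]; simp)
    obtain ⟨b, hb, hby⟩ := hext y fun h0 => hu0 (funext fun p => by rw [← hxy p.1 p.2, h0]; simp)
    exact ⟨a, b, ha, hb, fun p => by rw [Matrix.kroneckerMap_apply, hax, hby, hxy]⟩
  have hinv : (a ⊗ₖ b) * (a⁻¹ ⊗ₖ b⁻¹) = 1 := by
    rw [← Matrix.mul_kronecker_mul, Matrix.mul_nonsing_inv _ (isUnit_iff_ne_zero.2 ha),
      Matrix.mul_nonsing_inv _ (isUnit_iff_ne_zero.2 hb), Matrix.one_kronecker_one]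
  set N := (a⁻¹ ⊗ₖ b⁻¹) * M with hN
  have hMN : M = (a ⊗ₖ b) * N := by rw [hN, ← Matrix.mul_assoc, hinv, one_mul]
  have hcongr : (a ⊗ₖ b)ᵀ * hypFour F * (a ⊗ₖ b) = (a.det * b.det) • hypFour F := by
    rw [hypFour, ← Matrix.kroneckerMap_transpose, ← Matrix.mul_kronecker_mul, ← Matrix.mul_kronecker_mul,
      altTwo_congr, altTwo_congr, Matrix.smul_kronecker, Matrix.kronecker_smul, smul_smul]
  have hd : a.det * b.det ≠ 0 := mul_ne_zero ha hb
  obtain ⟨c, d, hcd⟩ := exists_of_fix_corner (M := N) (μ := μ / (a.det * b.det)) (div_ne_zero hμ hd) h2 (by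
    have h1 : (a.det * b.det) • (Nᵀ * hypFour F * N) = μ • hypFour F := by
      rw [← h, hMN, ← Matrix.smul_mul, ← Matrix.mul_smul, ← hcongr, Matrix.transpose_mul (a ⊗ₖ b) N]
      simp only [Matrix.mul_assoc]
    rw [div_eq_inv_mul, ← smul_smul, ← h1, smul_smul, inv_mul_cancel₀ hd, one_smul]) (fun p => by
      have h1 : N.mulVec (Pi.single (0, 0) 1) = Pi.single (0, 0) 1 := by
        rw [hN, ← Matrix.mulVec_mulVec]
        have h3 : M *ᵥ Pi.single (0, 0) 1 = (a ⊗ₖ b) *ᵥ Pi.single (0, 0) 1 := by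
          rw [Matrix.mulVec_single_one, Matrix.mulVec_single_one]
          funext p
          exact (hab p).symm
        rw [h3, Matrix.mulVec_mulVec, mul_eq_one_comm.1 hinv, Matrix.one_mulVec]
      have h3 := congrFun h1 p
      rw [Matrix.mulVec_single_one] at h3
      simpa [Pi.single_apply] using h3)
  rcases hcd with h1 | h1
  · exact ⟨a * c, b * d, Or.inl (by rw [hMN, h1, Matrix.mul_kronecker_mul])⟩
  · exact ⟨b * c, a * d, Or.inr (by
      rw [hMN, h1, ← Matrix.mul_assoc, ← swapFour_kronecker, Matrix.mul_assoc, ← Matrix.mul_kronecker_mul])⟩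

/-- A four-dimensional symmetric form of plus type is congruent to the product of two alternating planes. -/
theorem exists_congr_plus (h2 : (2 : F) ≠ 0) {S : Matrix (Fin 4) (Fin 4) F} (hS : IsUnit S.det) (hsymm : Sᵀ = S)
    (hplus : IsPlusTypeOn (fun v : Fin 4 → F => sesqForm (RingHom.id F) S v v) ⊤) :
    ∃ C : Matrix (Fin 4) (Fin 2 × Fin 2) F, Cᵀ * S * C = hypFour F := by
  classical
  obtain ⟨U, -, hU, hrank⟩ := hplus
  rw [finrank_top, Module.finrank_fintype_fun_eq_card, Fintype.card_fin] at hrank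
  set B : (Fin 4 → F) → (Fin 4 → F) → F := sesqForm (RingHom.id F) S with hB
  have hsym : ∀ x y, B x y = B y x := fun x y => by
    simp only [hB]; rw [sesqForm_id_transpose, hsymm]
  have hbil := isBilinearForm_sesqForm S
  rw [← hB] at hbil
  have hUU : ∀ x ∈ U, ∀ y ∈ U, B x y = 0 := fun x hx y hy => by
    have h1 : B (x + y) (x + y) = 0 := hU _ (add_mem hx hy)
    have h3 : B x x = 0 := hU _ hx
    have h4 : B y y = 0 := hU _ hy
    rw [hbil.add_left, hbil.add_right, hbil.add_right, h3, h4, hsym y x] at h1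
    apply mul_left_cancel₀ h2
    linear_combination h1
  let v := Module.finBasisOfFinrankEq F U (n := 2) (by omega)
  let L : (Fin 4 → F) →ₗ[F] (Fin 2 → F) :=
    { toFun := fun x i => B (v i) x
      map_add' := fun x y => funext fun i => hbil.add_right _ _ _
      map_smul' := fun c x => funext fun i => hbil.smul_right _ _ _ }
  have hsurj : Function.Surjective L := by
    rw [← LinearMap.range_eq_top]
    by_contra hne
    obtain ⟨f, hf0, hf⟩ := Submodule.exists_dual_map_eq_bot_of_lt_top (lt_top_iff_ne_top.2 hne) inferInstance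
    apply hf0
    set z : Fin 4 → F := ∑ i, f (Pi.single i 1) • ((v i : U) : Fin 4 → F) with hz
    have hfx : ∀ x, B z x = 0 := by
      intro x
      have h1 : f (L x) = 0 := by
        have : f (L x) ∈ (LinearMap.range L).map f := ⟨L x, ⟨x, rfl⟩, rfl⟩
        rw [hf] at this
        exact (Submodule.mem_bot F).1 this
      rw [pi_eq_sum_univ' (L x), map_sum] at h1
      rw [← h1, hz, Fin.sum_univ_two, Fin.sum_univ_two, hbil.add_left, hbil.smul_left, hbil.smul_left,
        map_smul, map_smul, smul_eq_mul, smul_eq_mul]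
      show _ = B (v 0) x * _ + B (v 1) x * _
      ring
    have hz0 : z = 0 := by
      by_contra hz0
      obtain ⟨x, hx⟩ := (isNondegenerateForm_sesqForm (RingHom.id F) hS z hz0).2
      exact hx (hfx x)
    have hli := Fintype.linearIndependent_iff.1 v.linearIndependent (fun i => f (Pi.single i 1))
      (Subtype.ext (by
        rw [AddSubmonoidClass.coe_finsetSum, ZeroMemClass.coe_zero, ← hz0, hz]
        rfl))
    apply LinearMap.ext
    intro y
    rw [pi_eq_sum_univ' y, map_sum, LinearMap.zero_apply]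
    exact Finset.sum_eq_zero fun i _ => by rw [map_smul, hli i, smul_zero]
  obtain ⟨w₀', hw₀'⟩ := hsurj ![1, 0]
  obtain ⟨w₁', hw₁'⟩ := hsurj ![0, 1]
  set u0 : Fin 4 → F := ((v 0 : U) : Fin 4 → F) with hu0
  set u1 : Fin 4 → F := ((v 1 : U) : Fin 4 → F) with hu1
  have a0 : B u0 w₀' = 1 := by simpa [L] using congrFun hw₀' 0
  have a1 : B u1 w₀' = 0 := by simpa [L] using congrFun hw₀' 1
  have b0 : B u0 w₁' = 0 := by simpa [L] using congrFun hw₁' 0
  have b1 : B u1 w₁' = 1 := by simpa [L] using congrFun hw₁' 1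
  set w₀ : Fin 4 → F := w₀' + (-(B w₀' w₀' / 2)) • u0 with hw₀
  set w₁ : Fin 4 → F := w₁' + ((-(B w₀' w₁')) • u0 + (-(B w₁' w₁' / 2)) • u1) with hw₁
  have c00 : B u0 u0 = 0 := hUU _ (v 0).2 _ (v 0).2
  have c01 : B u0 u1 = 0 := hUU _ (v 0).2 _ (v 1).2
  have c10 : B u1 u0 = 0 := hUU _ (v 1).2 _ (v 0).2
  have c11 : B u1 u1 = 0 := hUU _ (v 1).2 _ (v 1).2
  let col : Fin 2 × Fin 2 → (Fin 4 → F) := fun p =>
    if p.1 = 0 then (if p.2 = 0 then u0 else u1) else (if p.2 = 0 then -w₁ else w₀)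
  refine ⟨Matrix.of fun i p => col p i, ?_⟩
  ext p q
  have hent : ((Matrix.of fun i p => col p i)ᵀ * S * Matrix.of fun i p => col p i) p q = B (col p) (col q) := by
    rw [hB, sesqForm, Matrix.mul_assoc, Matrix.mul_apply', dotProduct]
    rfl
  rw [hent]
  obtain ⟨i, j⟩ := p
  obtain ⟨k, l⟩ := q
  have hneg : ∀ x y, B (-x) y = -B x y := fun x y => by
    rw [← neg_one_smul F x, hbil.smul_left, neg_one_mul]
  have hneg' : ∀ x y, B x (-y) = -B x y := fun x y => by
    rw [← neg_one_smul F y, hbil.smul_right, neg_one_mul]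
  fin_cases i <;> fin_cases j <;> fin_cases k <;> fin_cases l <;>
    simp [col, hypFour, altTwo, hw₀, hw₁, hneg, hneg', hbil.add_left, hbil.add_right, hbil.smul_left,
      hbil.smul_right, a0, a1, b0, b1, c00, c01, c10, c11, hsym w₀' u0, hsym w₀' u1, hsym w₁' u0, hsym w₁' u1,
      hsym w₁' w₀'] <;> field_simp <;> ring

end Cfsg.Agent.Aschbacher
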