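/-
Coordinates from a family of vectors with an invertible Gram matrix.
-/
import Mathlib
import Cfsg.Agent.Aschbacher.Sp.Tensor

set_option autoImplicit false
set_option linter.style.haveILetI false

namespace Cfsg.Agent.Aschbacher

open Matrix
open Cfsg.Geo

variable {F : Type*} [Field F] {m : ℕ}

local notation "ι" => Fin m ⊕ Fin m

lemma exists_coord_of_gram {κ : Type} [Fintype κ] [DecidableEq κ] (e : ι ≃ κ) (col : κ → (ι → F))
    {G : Matrix κ κ F} (hG : IsUnit G.det)
    (hcol : ∀ p q, (sympData m F).form (col p) (col q) = G p q) :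
    ∃ P : GL ι F, (sympData m F).pull e P = G ∧
      ∀ p, (P : Matrix ι ι F) *ᵥ (Pi.single p 1 ∘ e) = col p := by
  classical
  set P0 : Matrix ι ι F := Matrix.of fun i x => col (e x) i with hP0
  have hsingle : ∀ p, (Pi.single p (1 : F) : κ → F) ∘ e = Pi.single (e.symm p) 1 := fun p => by
    funext x
    simp [Pi.single_apply, Equiv.eq_symm_apply]
  have hcol' : ∀ p, P0 *ᵥ (Pi.single p 1 ∘ e) = col p := fun p => by
    rw [hsingle, Matrix.mulVec_single_one]
    funext i
    simp [hP0]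
  have hmul : P0ᵀ * Matrix.J (Fin m) F * P0 = G.submatrix e e := by
    ext x y
    have h := hcol (e x) (e y)
    rw [Matrix.mul_assoc, Matrix.mul_apply', Matrix.submatrix_apply, ← h]
    rfl
  have hdet : P0.det ≠ 0 := fun h0 => by
    have h1 := congrArg Matrix.det hmul
    rw [Matrix.det_mul, h0, mul_zero, Matrix.det_submatrix_equiv_self] at h1
    exact not_isUnit_zero (h1 ▸ hG)
  refine ⟨Matrix.GeneralLinearGroup.mkOfDetNeZero P0 hdet, sesqForm_inj (RingHom.id F) fun x y => ?_, hcol'⟩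
  rw [show sesqForm (RingHom.id F) ((sympData m F).pull e _) x y =
    x ⬝ᵥ (sympData m F).pull e (Matrix.GeneralLinearGroup.mkOfDetNeZero P0 hdet) *ᵥ ((sympData m F).τ ∘ y) from rfl,
    ← FormData.form_pull]
  show (P0 *ᵥ (x ∘ e)) ⬝ᵥ Matrix.J (Fin m) F *ᵥ (P0 *ᵥ (y ∘ e)) = x ⬝ᵥ G *ᵥ y
  rw [Matrix.mulVec_mulVec, ← Matrix.vecMul_transpose, ← Matrix.dotProduct_mulVec, Matrix.mulVec_mulVec,
    ← Matrix.mul_assoc, hmul, Matrix.submatrix_mulVec_equiv, Function.comp_assoc, Equiv.self_comp_symm,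
    Function.comp_id]
  exact Fintype.sum_equiv e _ _ fun x => rfl

end Cfsg.Agent.Aschbacher
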