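/-
The coordinates of a tensor cube behind a tensor decomposition of plus type.
-/
import Mathlib
import Cfsg.Agent.Aschbacher.Sp.Lists.PlusType

set_option autoImplicit false
set_option linter.style.haveILetI false

namespace Cfsg.Agent.Aschbacher

open Matrix
open Cfsg.Geo
open scoped Kronecker

variable {F : Type*} [Field F]

lemma monTensor_mem_standard {k t : ℕ} (σ : Equiv.Perm (Fin t)) (gs : Fin t → GL (Fin k) F)
    {g : GL (Fin t → Fin k) F}
    (hg : (g : Matrix (Fin t → Fin k) (Fin t → Fin k) F) =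
      monTensor σ fun i => (gs i : Matrix (Fin k) (Fin k) F)) :
    g ∈ tensorWreathStandard k t F := by
  classical
  have hone : monTensor σ (1 : Fin t → Matrix (Fin k) (Fin k) F) * monTensor σ⁻¹ 1 = 1 := by
    rw [monTensor_mul, ← monTensor_one]
    congr 1
    · exact mul_inv_cancel σ |> fun _ => Equiv.ext fun i => by simp
    · funext i; simp
  let p : GL (Fin t → Fin k) F :=
    ⟨monTensor σ 1, monTensor σ⁻¹ 1, hone, mul_eq_one_comm.1 hone⟩
  let u : GL (Fin t → Fin k) F :=
    Units.map pureTensor (MulEquiv.piUnits.symm gs)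
  have hgu : g = u * p := by
    apply Units.ext
    rw [Units.val_mul, hg]
    show _ = pureTensor (fun i => (gs i : Matrix (Fin k) (Fin k) F)) * monTensor σ 1
    rw [← monTensor_one_left, monTensor_mul]
    congr 1
    funext i
    simp
  rw [hgu]
  refine Subgroup.mul_mem _ (Subgroup.subset_closure (Or.inl ⟨gs, fun x y => rfl⟩))
    (Subgroup.subset_closure (Or.inr ⟨σ⁻¹, fun x y => ?_⟩))
  show monTensor σ 1 x y = _
  simp only [monTensor, Matrix.of_apply, Pi.one_apply, Matrix.one_apply, Finset.prod_boole,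
    Finset.mem_univ, true_implies]
  congr 1
  apply propext
  constructor
  · intro h
    funext j
    simpa using (h (σ⁻¹ j)).symm
  · intro h i
    simp [h]

variable {m : ℕ}

local notation "ι" => Fin m ⊕ Fin m

lemma mem_tensorWreath_of_coord {k t : ℕ} {e : ι ≃ (Fin t → Fin k)} {P g : GL ι F}
    (h : glCoord e P g ∈ tensorWreathStandard k t F) : g ∈ tensorWreathSubgroup k t e P :=
  Subgroup.mem_map.2 ⟨_, Subgroup.mem_map.2 ⟨_, h, rfl⟩, conj_glReindex_glCoord e P g⟩

/-- Pairs as triples. -/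
def pairTriple : Fin 2 × Fin 4 ≃ (Fin 3 → Fin 2) where
  toFun a := ![a.1, (finProdFinEquiv.symm a.2 : Fin 2 × Fin 2).1, (finProdFinEquiv.symm a.2 : Fin 2 × Fin 2).2]
  invFun x := (x 0, finProdFinEquiv (x 1, x 2))
  left_inv a := by simp
  right_inv x := by funext i; fin_cases i <;> simp

variable [Fintype F]

/-- A plus-type tensor decomposition lies in the stabiliser of a tensor cube. -/
theorem exists_cube_of_plus (hm : 1 ≤ m) (h2 : (2 : F) ≠ 0) {e : ι ≃ Fin 2 × Fin 4} {P : GL ι F}
    {G : Matrix (Fin 2) (Fin 2) F} {S : Matrix (Fin 4) (Fin 4) F} (hG : IsUnit G.det) (hS : IsUnit S.det)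
    (hGskew : Gᵀ = -G) (hsymm : Sᵀ = S)
    (hplus : IsPlusTypeOn (fun v : Fin 4 → F => sesqForm (RingHom.id F) S v v) ⊤)
    (hpull : (sympData m F).pull e P = G ⊗ₖ S) :
    ∃ (e' : ι ≃ (Fin 3 → Fin 2)) (P' : GL ι F) (c : F), c ≠ 0 ∧
      (sympData m F).pull e' P' = c • pureTensor (fun _ : Fin 3 => altTwo F) ∧
      tensorProductSubgroup 2 4 e P ⊓ Cfsg.spGL m F ≤ tensorWreathSubgroup 2 3 e' P' := by
  classical
  set τ : Fin 4 ≃ Fin 2 × Fin 2 := (finProdFinEquiv : Fin 2 × Fin 2 ≃ Fin (2 * 2)).symm with hτ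
  obtain ⟨C₀, hC₀⟩ := exists_congr_plus h2 hS hsymm hplus
  set C : Matrix (Fin 4) (Fin 4) F := C₀.submatrix id τ with hCdef
  have hC : Cᵀ * S * C = (hypFour F).submatrix τ τ := by
    rw [← hC₀]
    rfl
  have hhyp : (hypFour F).det ≠ 0 := by
    rw [hypFour, Matrix.det_kronecker]; simp [altTwo, Matrix.det_fin_two]
  have hCu : IsUnit C.det := isUnit_iff_ne_zero.2 fun h0 => by
    have h1 := congrArg Matrix.det hC
    rw [Matrix.det_mul, h0, mul_zero, Matrix.det_submatrix_equiv_self] at h1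
    exact hhyp h1.symm
  have hGa : G = G 0 1 • altTwo F := by
    ext i j
    have h00 := diag_zero_of_skew h2 hGskew i
    have h10 : G 1 0 = -G 0 1 := congrFun (congrFun hGskew 0) 1
    fin_cases i <;> fin_cases j <;>
      simp [altTwo, diag_zero_of_skew h2 hGskew, h10]
  set c := G 0 1 with hc
  have hc0 : c ≠ 0 := fun h0 => by
    rw [hGa, h0, zero_smul, Matrix.det_zero] at hG
    exact not_isUnit_zero hG
  set K : Matrix (Fin 2 × Fin 4) (Fin 2 × Fin 4) F := (1 : Matrix (Fin 2) (Fin 2) F) ⊗ₖ C with hK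
  set Ki : Matrix (Fin 2 × Fin 4) (Fin 2 × Fin 4) F := (1 : Matrix (Fin 2) (Fin 2) F) ⊗ₖ C⁻¹ with hKi
  have hKKi : K * Ki = 1 := by
    rw [hK, hKi, ← Matrix.mul_kronecker_mul, one_mul, Matrix.mul_nonsing_inv _ hCu, Matrix.one_kronecker_one]
  let Ku : GL (Fin 2 × Fin 4) F := ⟨K, Ki, hKKi, mul_eq_one_comm.1 hKKi⟩
  set P' : GL ι F := P * Cfsg.Geo.glReindex e.symm Ku with hP'
  set e' : ι ≃ (Fin 3 → Fin 2) := e.trans pairTriple with he'
  have hpullK : (sympData m F).pull e' P' =
      (Kᵀ * (sympData m F).pull e P * K).submatrix pairTriple.symm pairTriple.symm := by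
    refine sesqForm_inj (RingHom.id F) fun x y => ?_
    show x ⬝ᵥ (sympData m F).pull e' P' *ᵥ y = x ⬝ᵥ _ *ᵥ y
    rw [show x ⬝ᵥ (sympData m F).pull e' P' *ᵥ y = x ⬝ᵥ (sympData m F).pull e' P' *ᵥ ((sympData m F).τ ∘ y) from rfl,
      ← FormData.form_pull, Matrix.submatrix_mulVec_equiv, dotProduct_comp_equiv_symm, ← Matrix.mulVec_mulVec,
      ← Matrix.mulVec_mulVec, Matrix.dotProduct_mulVec _ Kᵀ, Matrix.vecMul_transpose]
    simp only [Equiv.symm_symm]
    have hP'x : ∀ z : (Fin 3 → Fin 2) → F, (P' : Matrix ι ι F) *ᵥ (z ∘ e') =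
        (P : Matrix ι ι F) *ᵥ ((K *ᵥ (z ∘ pairTriple)) ∘ e) := by
      intro z
      rw [hP', Units.val_mul, coe_glReindex, ← Matrix.mulVec_mulVec]
      simp only [Equiv.symm_symm]
      rw [Matrix.submatrix_mulVec_equiv, he', Equiv.coe_trans, Function.comp_assoc, Function.comp_assoc,
        Equiv.self_comp_symm, Function.comp_id]
    rw [hP'x, hP'x, FormData.form_pull]
    rfl
  refine ⟨e', P', c, hc0, ?_, ?_⟩
  · rw [hpullK, hpull, hGa, hK, Matrix.smul_kronecker, Matrix.mul_smul, Matrix.smul_mul,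
      ← Matrix.kroneckerMap_transpose, ← Matrix.mul_kronecker_mul, ← Matrix.mul_kronecker_mul,
      Matrix.transpose_one, one_mul, mul_one, hC]
    ext x y
    simp [pairTriple, hypFour, hτ, pureTensor_apply, Fin.prod_univ_three, mul_assoc]
  · intro g hg
    obtain ⟨a, b, d, hd, hab, -, hb⟩ := exists_factor_similitudes
      (H := tensorProductSubgroup 2 4 e P ⊓ Cfsg.spGL m F) e P hm hG hS hpull inf_le_right inf_le_left hg
    set B : Matrix (Fin 4) (Fin 4) F := C⁻¹ * (b : Matrix (Fin 4) (Fin 4) F) * C with hB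
    have hCB : C * B = (b : Matrix (Fin 4) (Fin 4) F) * C := by
      rw [hB, ← Matrix.mul_assoc C, ← Matrix.mul_assoc C, Matrix.mul_nonsing_inv _ hCu, one_mul]
    have hBsim : (B.submatrix τ.symm τ.symm)ᵀ * hypFour F * B.submatrix τ.symm τ.symm = d⁻¹ • hypFour F := by
      have h1 : Bᵀ * (Cᵀ * S * C) * B = d⁻¹ • (Cᵀ * S * C) := by
        calc Bᵀ * (Cᵀ * S * C) * B = (C * B)ᵀ * S * (C * B) := by
              rw [Matrix.transpose_mul C B]; simp only [Matrix.mul_assoc]
          _ = ((b : Matrix (Fin 4) (Fin 4) F) * C)ᵀ * S * ((b : Matrix (Fin 4) (Fin 4) F) * C) := by rw [hCB]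
          _ = Cᵀ * ((b : Matrix (Fin 4) (Fin 4) F)ᵀ * S * b) * C := by
              rw [Matrix.transpose_mul]; simp only [Matrix.mul_assoc]
          _ = _ := by rw [hb, Matrix.mul_smul, Matrix.smul_mul]
      rw [hC] at h1
      have h3 := congrArg (fun M : Matrix (Fin 4) (Fin 4) F => M.submatrix τ.symm τ.symm) h1
      simp only [← Matrix.submatrix_mul_equiv _ _ τ.symm τ.symm τ.symm, Matrix.submatrix_smul,
        Matrix.submatrix_submatrix, Equiv.self_comp_symm, Matrix.submatrix_id_id, Matrix.transpose_submatrix,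
        Pi.smul_apply] at h3
      rw [Matrix.transpose_submatrix]
      exact h3
    obtain ⟨x, y, hxy⟩ := exists_of_hyp_similitude h2 (inv_ne_zero hd) hBsim
    have hBdet : (B.submatrix τ.symm τ.symm).det ≠ 0 := by
      intro h0
      have h1 := congrArg Matrix.det hBsim
      rw [Matrix.det_mul, h0, mul_zero, Matrix.det_smul] at h1
      exact mul_ne_zero (pow_ne_zero _ (inv_ne_zero hd)) hhyp h1.symm
    have hxu : x.det ≠ 0 ∧ y.det ≠ 0 := by
      refine ⟨fun h0 => hBdet ?_, fun h0 => hBdet ?_⟩ <;>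
        rcases hxy with h | h <;> rw [h] <;> simp [Matrix.det_mul, Matrix.det_kronecker, h0]
    let xu : GL (Fin 2) F := Matrix.GeneralLinearGroup.mkOfDetNeZero x hxu.1
    let yu : GL (Fin 2) F := Matrix.GeneralLinearGroup.mkOfDetNeZero y hxu.2
    have hcoord : (glCoord e' P' g : Matrix (Fin 3 → Fin 2) (Fin 3 → Fin 2) F) =
        ((a : Matrix (Fin 2) (Fin 2) F) ⊗ₖ B).submatrix pairTriple.symm pairTriple.symm := by
      have h1 : (glCoord e' P' g : Matrix (Fin 3 → Fin 2) (Fin 3 → Fin 2) F) =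
          (Ki * (glCoord e P g : Matrix (Fin 2 × Fin 4) (Fin 2 × Fin 4) F) * K).submatrix
            pairTriple.symm pairTriple.symm := by
        have : glCoord e' P' g = Cfsg.Geo.glReindex pairTriple (Ku⁻¹ * glCoord e P g * Ku) := by
          have hre : ∀ h : GL ι F, Cfsg.Geo.glReindex e' h =
              Cfsg.Geo.glReindex pairTriple (Cfsg.Geo.glReindex e h) := fun h => by
            apply Units.ext
            rw [coe_glReindex, coe_glReindex, coe_glReindex, Matrix.submatrix_submatrix]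
            rfl
          rw [glCoord, hre, glCoord, hP']
          congr 1
          have hroundtrip : Cfsg.Geo.glReindex e (Cfsg.Geo.glReindex e.symm Ku) = Ku := by
            apply Units.ext
            simp [coe_glReindex, Matrix.submatrix_submatrix]
          simp only [_root_.mul_inv_rev, map_mul, map_inv, hroundtrip, mul_assoc]
        rw [this, coe_glReindex, Units.val_mul, Units.val_mul]
        rfl
      rw [h1, hab, hK, hKi, ← Matrix.mul_kronecker_mul, ← Matrix.mul_kronecker_mul, one_mul, mul_one, ← hB]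
    refine mem_tensorWreath_of_coord ?_
    have hBx : B = (B.submatrix τ.symm τ.symm).submatrix τ τ := by
      simp [Matrix.submatrix_submatrix]
    rcases hxy with h | h
    · refine monTensor_mem_standard 1 ![a, xu, yu] ?_
      rw [hcoord, monTensor_one_left, hBx, h]
      ext p q
      simp [pairTriple, hτ, pureTensor_apply, Fin.prod_univ_three, xu, yu, mul_assoc]
    · refine monTensor_mem_standard (Equiv.swap 1 2) ![a, yu, xu] ?_
      rw [hcoord, hBx, h, swapFour_kronecker]
      ext p q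
      simp [pairTriple, hτ, monTensor, swapFour, Fin.prod_univ_three, xu, yu, mul_assoc, Matrix.mul_apply,
        Matrix.one_apply, Equiv.swap_apply_def]
      left
      rw [Finset.sum_eq_single (q 2, q 1)]
      · simp
      · intro j _ hj
        exact if_neg fun hh => hj (by rw [← Prod.swap_swap j, hh]; rfl)
      · simp

end Cfsg.Agent.Aschbacher
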