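/-
The quaternion group inside the linear group of the plane over three elements.
-/
import Mathlib
import Cfsg.Agent.Aschbacher.WreathTwo
import Cfsg.Agent.Aschbacher.Sp.Lists.TensorF3

set_option autoImplicit false
set_option linter.style.haveILetI false

namespace Cfsg.Agent.Aschbacher

open Matrix

variable {F : Type*} [Field F]

/-- Representatives `1, I, J, K` of the quaternion group modulo scalars. -/
def quatRep (F : Type*) [Field F] : Fin 4 → Matrix (Fin 2) (Fin 2) F :=
  ![1, altTwo F, !![1, 1; 1, -1], !![1, -1; -1, -1]]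

/-- The rotation normalising the quaternion group. -/
def quatRot (F : Type*) [Field F] : GL (Fin 2) F :=
  ⟨!![1, 1; 0, 1], !![1, -1; 0, 1],
    by ext i j; fin_cases i <;> fin_cases j <;> simp [Matrix.mul_apply, Fin.sum_univ_two],
    by ext i j; fin_cases i <;> fin_cases j <;> simp [Matrix.mul_apply, Fin.sum_univ_two]⟩

variable [Fintype F]

lemma quatRep_mul (hq : Fintype.card F = 3) (k l : Fin 4) :
    ∃ (s : F) (r : Fin 4), quatRep F k * quatRep F l = s • quatRep F r := by
  have h3 := three_eq_zero_of_card hq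
  refine ⟨![![1, 1, 1, 1], ![1, -1, 1, -1], ![1, -1, -1, 1], ![1, 1, -1, -1]] k l,
    ![![0, 1, 2, 3], ![1, 0, 3, 2], ![2, 3, 0, 1], ![3, 2, 1, 0]] k l, ?_⟩
  fin_cases k <;> fin_cases l <;> ext i j <;> fin_cases i <;> fin_cases j <;>
    simp [quatRep, altTwo, Matrix.mul_apply, Fin.sum_univ_two] <;>
    first | linear_combination h3 | linear_combination -h3

lemma quatRep_sq (hq : Fintype.card F = 3) (k : Fin 4) :
    ∃ s : F, s ≠ 0 ∧ quatRep F k * quatRep F k = s • 1 := by
  have h3 := three_eq_zero_of_card hq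
  refine ⟨![1, -1, -1, -1] k, by fin_cases k <;> simp, ?_⟩
  fin_cases k <;> ext i j <;> fin_cases i <;> fin_cases j <;>
    simp [quatRep, altTwo, Matrix.mul_apply, Fin.sum_univ_two] <;>
    first | linear_combination h3 | linear_combination -h3

/-- The scalars times the quaternion group. -/
def quatGroup (hq : Fintype.card F = 3) : Subgroup (GL (Fin 2) F) where
  carrier := {x | ∃ (c : F) (k : Fin 4), (x : Matrix (Fin 2) (Fin 2) F) = c • quatRep F k}
  mul_mem' := by
    rintro x y ⟨c, k, hx⟩ ⟨d, l, hy⟩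
    obtain ⟨s, r, h⟩ := quatRep_mul hq k l
    exact ⟨c * d * s, r, by rw [Units.val_mul, hx, hy, smul_mul_smul_comm, h, smul_smul]⟩
  one_mem' := ⟨1, 0, by simp [quatRep]⟩
  inv_mem' := by
    rintro x ⟨c, k, hx⟩
    obtain ⟨s, hs, h⟩ := quatRep_sq hq k
    have hc : c ≠ 0 := fun h0 => x.ne_zero (by rw [hx, h0, zero_smul])
    refine ⟨(c * s)⁻¹, k, ?_⟩
    have h1 : (x : Matrix (Fin 2) (Fin 2) F) * ((c * s)⁻¹ • quatRep F k) = 1 := by
      rw [hx, smul_mul_smul_comm, h, smul_smul,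
        show c * (c * s)⁻¹ * s = 1 by field_simp, one_smul]
    calc ((x⁻¹ : GL (Fin 2) F) : Matrix (Fin 2) (Fin 2) F)
        = ((x⁻¹ : GL (Fin 2) F) : Matrix (Fin 2) (Fin 2) F) *
          ((x : Matrix (Fin 2) (Fin 2) F) * ((c * s)⁻¹ • quatRep F k)) := by rw [h1, mul_one]
      _ = _ := by rw [← Matrix.mul_assoc, Units.inv_mul, one_mul]

lemma quatRep_trace_det (hq : Fintype.card F = 3) {k : Fin 4} (hk : k ≠ 0) :
    (quatRep F k).trace = 0 ∧ (quatRep F k).det = 1 := by
  have h3 := three_eq_zero_of_card hq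
  fin_cases k <;> simp [quatRep, altTwo, Matrix.trace_fin_two, Matrix.det_fin_two] at hk ⊢ <;>
    first | linear_combination h3 | linear_combination -h3

lemma mem_quatGroup_iff (hq : Fintype.card F = 3) {x : GL (Fin 2) F} :
    x ∈ quatGroup hq ↔ (∃ c : F, (x : Matrix (Fin 2) (Fin 2) F) = c • 1) ∨
      ((x : Matrix (Fin 2) (Fin 2) F).trace = 0 ∧ (x : Matrix (Fin 2) (Fin 2) F).det = 1) := by
  have h3 := three_eq_zero_of_card hq
  constructor
  · rintro ⟨c, k, hx⟩
    by_cases hk : k = 0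
    · subst hk
      exact Or.inl ⟨c, by rw [hx]; rfl⟩
    · obtain ⟨ht, hd⟩ := quatRep_trace_det hq hk
      have hc : c ≠ 0 := fun h0 => x.ne_zero (by rw [hx, h0, zero_smul])
      refine Or.inr ⟨by rw [hx, Matrix.trace_smul, ht, smul_zero], ?_⟩
      rw [hx, Matrix.det_smul, hd, mul_one, Fintype.card_fin, sq, sq_eq_one_three hq hc]
  · rintro (⟨c, hc⟩ | ⟨ht, hd⟩)
    · exact ⟨c, 0, hc⟩
    · show ∃ (c : F) (k : Fin 4), (x : Matrix (Fin 2) (Fin 2) F) = c • quatRep F k
      generalize (x : Matrix (Fin 2) (Fin 2) F) = M at ht hd ⊢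
      rw [Matrix.trace_fin_two] at ht
      rw [Matrix.det_fin_two] at hd
      have h11 : M 1 1 = -M 0 0 := by linear_combination ht
      rw [h11] at hd
      by_cases ha : M 0 0 = 0
      · have hb : M 0 1 ≠ 0 := fun hb => one_ne_zero (α := F) (by rw [← hd, ha, hb]; ring)
        have hc : M 1 0 = -M 0 1 := by
          rw [ha] at hd
          linear_combination (-M 0 1) * hd - (M 1 0) * sq_eq_one_three hq hb
        refine ⟨M 0 1, 1, ?_⟩
        ext i j
        fin_cases i <;> fin_cases j <;> simp [quatRep, altTwo, ha, hc, h11]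
      · have haa := sq_eq_one_three hq ha
        have hbc : M 0 1 * M 1 0 = 1 := by linear_combination -hd - haa - h3
        have hb : M 0 1 ≠ 0 := left_ne_zero_of_mul_eq_one hbc
        have hc : M 1 0 = M 0 1 := by
          linear_combination (M 0 1) * hbc - (M 1 0) * sq_eq_one_three hq hb
        rcases mul_self_eq_mul_self_iff.1 (haa.trans (sq_eq_one_three hq hb).symm) with h | h
        · refine ⟨M 0 0, 2, ?_⟩
          ext i j
          fin_cases i <;> fin_cases j <;> simp [quatRep, hc, h11, h]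
        · refine ⟨M 0 0, 3, ?_⟩
          ext i j
          fin_cases i <;> fin_cases j <;> simp [quatRep, hc, h11, h]

lemma conj_mem_quatGroup (hq : Fintype.card F = 3) (g : GL (Fin 2) F) {x : GL (Fin 2) F}
    (hx : x ∈ quatGroup hq) : g * x * g⁻¹ ∈ quatGroup hq := by
  rw [mem_quatGroup_iff] at hx ⊢
  rcases hx with ⟨c, hc⟩ | ⟨ht, hd⟩
  · exact Or.inl ⟨c, by rw [Units.val_mul, Units.val_mul, hc, Matrix.mul_smul, mul_one, Matrix.smul_mul,
      Units.mul_inv]⟩
  · refine Or.inr ⟨?_, ?_⟩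
    · rw [Units.val_mul, Units.val_mul, Matrix.trace_units_conj, ht]
    · rw [Units.val_mul, Units.val_mul, Matrix.det_units_conj, hd]

lemma quatRot_conj (hq : Fintype.card F = 3) {k : Fin 4} (hk : k ≠ 0) :
    ∃ d : F, d ≠ 0 ∧ (quatRot F : Matrix (Fin 2) (Fin 2) F) * quatRep F k =
      d • (quatRep F (![0, 2, 3, 1] k) * (quatRot F : Matrix (Fin 2) (Fin 2) F)) := by
  have h3 := three_eq_zero_of_card hq
  refine ⟨![1, -1, -1, 1] k, by fin_cases k <;> simp, ?_⟩
  fin_cases k <;> simp at hk <;> ext i j <;> fin_cases i <;> fin_cases j <;>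
    simp [quatRep, quatRot, altTwo, Matrix.mul_apply, Fin.sum_univ_two] <;>
    first | linear_combination h3 | linear_combination -h3

lemma quatRep_not_prop (hq : Fintype.card F = 3) {k : Fin 4} (hk : k ≠ 0) (d : F) :
    quatRep F (![0, 2, 3, 1] k) ≠ d • quatRep F k := by
  intro h
  have e0 := congrFun (congrFun h 0) 0
  have e1 := congrFun (congrFun h 0) 1
  fin_cases k <;> simp [quatRep, altTwo] at hk e0 e1
  · exact one_ne_zero (α := F) (by linear_combination e1 - e0 + three_eq_zero_of_card hq)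
  · exact one_ne_zero (α := F) (by linear_combination e1 + e0)

/-- The commutator with the rotation of a non-scalar element of the quaternion group is not scalar. -/
lemma quatRot_comm_not_scalar (hq : Fintype.card F = 3) {x : GL (Fin 2) F} (hx : x ∈ quatGroup hq)
    (hns : ¬ ∃ c : F, (x : Matrix (Fin 2) (Fin 2) F) = c • 1) :
    ¬ ∃ c : F, ((quatRot F * x * (quatRot F)⁻¹ * x⁻¹ : GL (Fin 2) F) : Matrix (Fin 2) (Fin 2) F) = c • 1 := by
  obtain ⟨b, k, hbk⟩ := hx
  have hk : k ≠ 0 := fun h => hns ⟨b, by rw [hbk, h]; rfl⟩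
  have hb : b ≠ 0 := fun h0 => x.ne_zero (by rw [hbk, h0, zero_smul])
  rintro ⟨c, hc⟩
  obtain ⟨d, hd, hrot⟩ := quatRot_conj hq hk
  have h1 : ((quatRot F * x : GL (Fin 2) F) : Matrix (Fin 2) (Fin 2) F) =
      c • ((x * quatRot F : GL (Fin 2) F) : Matrix (Fin 2) (Fin 2) F) := by
    rw [show quatRot F * x = (quatRot F * x * (quatRot F)⁻¹ * x⁻¹) * (x * quatRot F) by group,
      Units.val_mul, hc, Matrix.smul_mul, one_mul]
  rw [Units.val_mul, Units.val_mul, hbk, Matrix.mul_smul, Matrix.smul_mul, hrot, smul_smul, smul_smul,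
    ← Matrix.smul_mul, ← Matrix.smul_mul] at h1
  have h2 := (Units.mul_left_inj (quatRot F)).1 h1
  refine quatRep_not_prop hq hk ((b * d)⁻¹ * (c * b)) ?_
  rw [← smul_smul, ← h2, smul_smul, inv_mul_cancel₀ (mul_ne_zero hb hd), one_smul]

/-- A subgroup normalised by the rotation and containing the scalars and one non-scalar quaternion
element contains the quaternion group. -/
lemma quatGroup_le (hq : Fintype.card F = 3) {M : Subgroup (GL (Fin 2) F)}
    (hZ : ∀ x : GL (Fin 2) F, (∃ c : F, (x : Matrix (Fin 2) (Fin 2) F) = c • 1) → x ∈ M)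
    (hrot : ∀ x ∈ M, quatRot F * x * (quatRot F)⁻¹ ∈ M) {x : GL (Fin 2) F} (hxM : x ∈ M)
    (hx : x ∈ quatGroup hq) (hns : ¬ ∃ c : F, (x : Matrix (Fin 2) (Fin 2) F) = c • 1) :
    quatGroup hq ≤ M := by
  obtain ⟨b, k, hbk⟩ := hx
  have hk : k ≠ 0 := fun h => hns ⟨b, by rw [hbk, h]; rfl⟩
  have hb : b ≠ 0 := fun h0 => x.ne_zero (by rw [hbk, h0, zero_smul])
  have hprop : ∀ (z y : GL (Fin 2) F) (a : F), y ∈ M →
      (z : Matrix (Fin 2) (Fin 2) F) = a • (y : Matrix (Fin 2) (Fin 2) F) → z ∈ M := by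
    intro z y a hy h
    have : z = z * y⁻¹ * y := by group
    rw [this]
    refine M.mul_mem (hZ _ ⟨a, ?_⟩) hy
    rw [Units.val_mul, h, Matrix.smul_mul, Units.mul_inv]
  -- the three non-scalar classes
  have hall : ∀ l : Fin 4, l ≠ 0 → ∃ y ∈ M, ∃ a : F, a ≠ 0 ∧ (y : Matrix (Fin 2) (Fin 2) F) = a • quatRep F l := by
    have step : ∀ l : Fin 4, l ≠ 0 →
        (∃ y ∈ M, ∃ a : F, a ≠ 0 ∧ (y : Matrix (Fin 2) (Fin 2) F) = a • quatRep F l) →
        ∃ y ∈ M, ∃ a : F, a ≠ 0 ∧ (y : Matrix (Fin 2) (Fin 2) F) = a • quatRep F (![0, 2, 3, 1] l) := by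
      rintro l hl ⟨y, hy, a, ha, hya⟩
      obtain ⟨d, hd, hr⟩ := quatRot_conj hq hl
      refine ⟨_, hrot y hy, a * d, mul_ne_zero ha hd, ?_⟩
      rw [Units.val_mul, Units.val_mul, hya, Matrix.mul_smul, hr, smul_smul, Matrix.smul_mul,
        Matrix.mul_assoc, Units.mul_inv, mul_one]
    intro l hl
    have h1 := step k hk ⟨x, hxM, b, hb, hbk⟩
    have hk1 : (![0, 2, 3, 1] : Fin 4 → Fin 4) k ≠ 0 := by fin_cases k <;> simp at hk ⊢
    have h2 := step _ hk1 h1
    have : l = k ∨ l = ![0, 2, 3, 1] k ∨ l = ![0, 2, 3, 1] ((![0, 2, 3, 1] : Fin 4 → Fin 4) k) := by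
      fin_cases k <;> fin_cases l <;> simp at hk hl ⊢
    rcases this with rfl | rfl | rfl
    · exact ⟨x, hxM, b, hb, hbk⟩
    · exact h1
    · exact h2
  rintro z ⟨c, l, hz⟩
  by_cases hl : l = 0
  · exact hZ z ⟨c, by rw [hz, hl]; rfl⟩
  · obtain ⟨y, hy, a, ha, hya⟩ := hall l hl
    exact hprop z y (c * a⁻¹) hy (by rw [hz, hya, smul_smul, mul_assoc, inv_mul_cancel₀ ha, mul_one])

/-- Every matrix of the plane is a combination of the representatives. -/
lemma mem_span_quatRep (hq : Fintype.card F = 3) (x : Matrix (Fin 2) (Fin 2) F) :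
    x ∈ Submodule.span F (Set.range (quatRep F)) := by
  have h3 := three_eq_zero_of_card hq
  rw [Submodule.mem_span_range_iff_exists_fun]
  refine ⟨![-(x 0 0 + x 1 1), -(x 0 1 - x 1 0), x 0 0 - x 1 1 + (x 0 1 + x 1 0),
    x 0 0 - x 1 1 - (x 0 1 + x 1 0)], ?_⟩
  ext i j
  fin_cases i <;> fin_cases j <;> simp [Fin.sum_univ_four, quatRep, altTwo] <;>
    first
      | linear_combination (-x 1 1) * h3 + (0 : F)
      | linear_combination (-x 0 0) * h3
      | linear_combination (x 0 1) * h3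
      | linear_combination (x 1 0) * h3
      | linear_combination (x 0 0 - x 1 1) * h3
      | linear_combination (-x 0 1) * h3
      | linear_combination (-x 1 0) * h3
      | linear_combination (x 1 1) * h3

end Cfsg.Agent.Aschbacher
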