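/-
Over three elements the stabiliser of a tensor cube of planes normalises a group of symplectic type.
-/
import Mathlib
import Cfsg.Agent.Aschbacher.Sp.Lists.Cube
import Cfsg.Agent.Aschbacher.Sp.Lists.QuatThree
import Cfsg.Agent.Aschbacher.Sp.Abelian

set_option autoImplicit false
set_option linter.style.haveILetI false

namespace Cfsg.Agent.Aschbacher

open Matrix
open Cfsg.Geo

variable {F : Type*} [Field F] [Fintype F]

lemma pureTensor_smul_one {k t : ℕ} (c : Fin t → F) :
    pureTensor (fun i => c i • (1 : Matrix (Fin k) (Fin k) F)) = (∏ i, c i) • 1 := by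
  rw [pureTensor_smul]
  congr 1
  exact map_one pureTensor

variable {m : ℕ}

local notation "ι" => Fin m ⊕ Fin m

lemma mem_spGL_of_coord {κ : Type} [Fintype κ] [DecidableEq κ] (e : ι ≃ κ) (P : GL ι F) {g : GL ι F}
    (h : (glCoord e P g : Matrix κ κ F)ᵀ * (sympData m F).pull e P * (glCoord e P g : Matrix κ κ F) =
      (sympData m F).pull e P) : g ∈ Cfsg.spGL m F := by
  rw [mem_spGL]
  intro u v
  have hcoord : ∀ w : ι → F, (P : Matrix ι ι F) *ᵥ
      (((((P⁻¹ : GL ι F) : Matrix ι ι F) *ᵥ w) ∘ e.symm) ∘ e) = w := fun w => by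
    rw [Function.comp_assoc, Equiv.symm_comp_self, Function.comp_id, Matrix.mulVec_mulVec, Units.mul_inv,
      Matrix.one_mulVec]
  rw [← hcoord u, ← hcoord v, ← glCoord_mulVec, ← glCoord_mulVec, FormData.form_pull, FormData.form_pull]
  show _ ⬝ᵥ _ *ᵥ ((glCoord e P g : Matrix κ κ F) *ᵥ _) = _
  rw [Matrix.mulVec_mulVec, ← Matrix.vecMul_transpose, ← Matrix.dotProduct_mulVec, Matrix.mulVec_mulVec,
    ← Matrix.mul_assoc, h]
  rfl

/-- The stabiliser of a tensor cube of planes over three elements lies in a normaliser of symplectic type. -/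
theorem exists_symplecticType_of_cube (hm : 1 ≤ m) (hq : Fintype.card F = 3) {e : ι ≃ (Fin 3 → Fin 2)}
    {P : GL ι F} {c : F} (hc : c ≠ 0)
    (hpull : (sympData m F).pull e P = c • pureTensor (fun _ : Fin 3 => altTwo F)) :
    ∃ M, IsSpMember m F M ∧ tensorWreathSubgroup 2 3 e P ⊓ Cfsg.spGL m F ≤ M ∧
      ∃ (R : Subgroup (GL ι F)) (p k : ℕ), IsSymplecticTypeGroup 2 R ∧
        ActsAbsolutelyIrreducibly (matrixSet R) ∧ R ≤ similarityGroup (Cfsg.sympForm m F) ∧ p.Prime ∧ Odd p ∧
        Fintype.card F = p ∧ Nat.card R = 2 ^ (1 + 2 * k) ∧ Nat.card (Subgroup.center R) = 2 ∧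
        IsOfMinusType k R ∧ 2 * m = 2 ^ k ∧ M = subgroupNormalizer R := by
  classical
  haveI : Nonempty ι := ⟨Sum.inl ⟨0, hm⟩⟩
  set H := tensorWreathSubgroup 2 3 e P ⊓ Cfsg.spGL m F with hHdef
  set Ψ : (Fin 3 → GL (Fin 2) F) →* GL ι F :=
    ((MulAut.conj P).toMonoidHom.comp (Cfsg.Geo.glReindex e.symm).toMonoidHom).comp
      ((Units.map (pureTensor (F := F) (m := 2) (t := 3))).comp MulEquiv.piUnits.symm.toMonoidHom) with hΨ
  have hΨcoord : ∀ gs, (glCoord e P (Ψ gs) : Matrix (Fin 3 → Fin 2) (Fin 3 → Fin 2) F) =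
      pureTensor fun i => (gs i : Matrix (Fin 2) (Fin 2) F) := fun gs => by
    show ((glCoord e P ((MulAut.conj P) (Cfsg.Geo.glReindex e.symm
      (Units.map pureTensor (MulEquiv.piUnits.symm gs)))) : GL (Fin 3 → Fin 2) F) : Matrix (Fin 3 → Fin 2) (Fin 3 → Fin 2) F) = _
    rw [glCoord_of_reindex]
    rfl
  have hext : ∀ g h : GL ι F, (glCoord e P g : Matrix (Fin 3 → Fin 2) (Fin 3 → Fin 2) F) =
      (glCoord e P h : Matrix (Fin 3 → Fin 2) (Fin 3 → Fin 2) F) → g = h := fun g h hgh => by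
    rw [← conj_glReindex_glCoord e P g, ← conj_glReindex_glCoord e P h, Units.ext hgh]
  set Q := quatGroup (F := F) hq with hQ
  set N : Subgroup (GL ι F) := (Subgroup.pi Set.univ fun _ : Fin 3 => Q).map Ψ with hN
  have hmemN : ∀ g, g ∈ N ↔ ∃ gs : Fin 3 → GL (Fin 2) F, (∀ i, gs i ∈ Q) ∧ Ψ gs = g := fun g => by
    rw [hN, Subgroup.mem_map]
    exact exists_congr fun gs => and_congr_left' (by simp [Subgroup.mem_pi])
  set Z := scalars ι F with hZ
  have hscalcoord : ∀ a : Fˣ, (glCoord e P (scalarUnit ι F a) : Matrix (Fin 3 → Fin 2) (Fin 3 → Fin 2) F) =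
      (a : F) • 1 := fun a => by
    rw [glCoord, coe_glReindex, Units.val_mul, Units.val_mul, scalarUnit_coe, Matrix.mul_smul, mul_one,
      Matrix.smul_mul, Units.inv_mul, Matrix.submatrix_smul]
    simp
  have hscalar : ∀ u : Fin 3 → GL (Fin 2) F, (∀ i, ∃ d : F, (u i : Matrix (Fin 2) (Fin 2) F) = d • 1) →
      Ψ u ∈ Z := by
    intro u hu
    choose d hd using hu
    have hd0 : ∀ i, d i ≠ 0 := fun i h => (u i).ne_zero (by rw [hd, h, zero_smul])
    have : Ψ u = scalarUnit ι F (Units.mk0 (∏ i, d i) (Finset.prod_ne_zero_iff.2 fun i _ => hd0 i)) := by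
      refine hext _ _ ?_
      rw [hΨcoord, hscalcoord, Units.val_mk0, ← pureTensor_smul_one]
      exact congrArg pureTensor (funext hd)
    rw [this]
    exact scalarUnit_mem _
  have hZN : Z ≤ N := by
    intro z hz
    obtain ⟨a, rfl⟩ := mem_scalars_iff_scalarUnit.1 hz
    refine (hmemN _).2 ⟨Pi.mulSingle 0 (scalarUnit (Fin 2) F a), fun i => ?_, hext _ _ ?_⟩
    · by_cases hi : i = 0
      · subst hi
        rw [Pi.mulSingle_eq_same]
        exact ⟨a, 0, by rw [scalarUnit_coe]; rfl⟩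
      · rw [Pi.mulSingle_eq_of_ne hi]; exact Q.one_mem
    · rw [hΨcoord, hscalcoord,
        show (fun j => ((Pi.mulSingle 0 (scalarUnit (Fin 2) F a) : Fin 3 → GL (Fin 2) F) j :
          Matrix (Fin 2) (Fin 2) F)) = Pi.mulSingle 0 ((a : F) • (1 : Matrix (Fin 2) (Fin 2) F)) from
          funext fun j => by
            by_cases hj : j = 0
            · subst hj; simp [scalarUnit_coe]
            · simp [hj],
        ← slotHom_apply, map_smul, map_one]
  -- the isometries used
  have hcubeH : ∀ gs : Fin 3 → GL (Fin 2) F, (∀ i, (gs i : Matrix (Fin 2) (Fin 2) F).det = 1) → Ψ gs ∈ H := by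
    intro gs hgs
    refine ⟨mem_tensorWreath_of_coord (monTensor_mem_standard 1 gs (hΨcoord gs)), mem_spGL_of_coord e P ?_⟩
    rw [hΨcoord, hpull, Matrix.mul_smul, Matrix.smul_mul, ← monTensor_one_left, monTensor_congr]
    congr 2
    funext i
    simp [altTwo_congr, hgs]
  have hperm : ∀ σ : Equiv.Perm (Fin 3), ∃ p ∈ H,
      (glCoord e P p : Matrix (Fin 3 → Fin 2) (Fin 3 → Fin 2) F) = monTensor σ 1 := by
    intro σ
    have hone : monTensor σ (1 : Fin 3 → Matrix (Fin 2) (Fin 2) F) * monTensor σ⁻¹ 1 = 1 := by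
      rw [monTensor_mul, ← monTensor_one]
      congr 1
      · ext i; simp
      · funext i; simp
    let u : GL (Fin 3 → Fin 2) F := ⟨monTensor σ 1, monTensor σ⁻¹ 1, hone, mul_eq_one_comm.1 hone⟩
    have hu : glCoord e P ((MulAut.conj P) (Cfsg.Geo.glReindex e.symm u)) = u := glCoord_of_reindex e P u
    refine ⟨(MulAut.conj P) (Cfsg.Geo.glReindex e.symm u),
      ⟨mem_tensorWreath_of_coord (monTensor_mem_standard σ 1 (by rw [hu]; rfl)), mem_spGL_of_coord e P ?_⟩,
      by rw [hu]⟩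
    rw [hu]
    show (monTensor σ 1)ᵀ * _ * monTensor σ 1 = _
    rw [hpull, Matrix.mul_smul, Matrix.smul_mul, monTensor_congr]
    congr 2
    funext i
    simp
  have hnorm : ∀ g ∈ H, ∀ x ∈ N, g * x * g⁻¹ ∈ N := by
    intro g hg x hx
    obtain ⟨gs, hgs, rfl⟩ := (hmemN x).1 hx
    obtain ⟨σ, hs, hgc⟩ := exists_monTensor_of_mem_wreath hg.1
    refine (hmemN _).2 ⟨fun i => hs i * gs (σ i) * (hs i)⁻¹, fun i => conj_mem_quatGroup hq _ (hgs _), ?_⟩
    rw [eq_mul_inv_iff_mul_eq]
    have hmul : ∀ a b : GL ι F, glCoord e P (a * b) = glCoord e P a * glCoord e P b := fun a b => by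
      simp only [glCoord, ← map_mul]
      congr 1
      group
    refine hext _ _ ?_
    rw [hmul, hmul, Units.val_mul, Units.val_mul, hgc, hΨcoord, hΨcoord, ← monTensor_one_left,
      ← monTensor_one_left, monTensor_mul, monTensor_mul]
    congr 1
    funext i
    simp only [Equiv.Perm.coe_one, id_eq, Units.val_mul, mul_assoc, Units.inv_mul, mul_one]
  have hcomm : ∀ x ∈ N, ∀ y ∈ N, x * y * x⁻¹ * y⁻¹ ∈ Z := by
    intro x hx y hy
    obtain ⟨a, ha, rfl⟩ := (hmemN x).1 hx
    obtain ⟨b, hb, rfl⟩ := (hmemN y).1 hy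
    rw [← map_inv, ← map_inv, ← map_mul, ← map_mul, ← map_mul]
    have hscal : ∀ i, ∃ d : F, ((a * b * a⁻¹ * b⁻¹) i : Matrix (Fin 2) (Fin 2) F) = d • 1 := by
      intro i
      obtain ⟨p, k, hp⟩ := ha i
      obtain ⟨q, l, hq'⟩ := hb i
      obtain ⟨s, r, hkl⟩ := quatRep_mul hq k l
      obtain ⟨s', r', hlk⟩ := quatRep_mul hq l k
      have hr : ∀ k l : Fin 4, ∃ t : F, quatRep F k * quatRep F l = t • (quatRep F l * quatRep F k) := by
        intro k l
        have h3 := three_eq_zero_of_card hq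
        refine ⟨![![1, 1, 1, 1], ![1, 1, -1, -1], ![1, -1, 1, -1], ![1, -1, -1, 1]] k l, ?_⟩
        fin_cases k <;> fin_cases l <;> ext i j <;> fin_cases i <;> fin_cases j <;>
          simp [quatRep, altTwo, Matrix.mul_apply, Fin.sum_univ_two]
      obtain ⟨t, ht⟩ := hr k l
      refine ⟨t, ?_⟩
      have h1 : ((a i * b i : GL (Fin 2) F) : Matrix (Fin 2) (Fin 2) F) =
          t • ((b i * a i : GL (Fin 2) F) : Matrix (Fin 2) (Fin 2) F) := by
        rw [Units.val_mul, Units.val_mul, hp, hq', smul_mul_smul_comm, smul_mul_smul_comm, ht, smul_smul,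
          smul_smul]
        congr 1
        ring
      show (((a i * b i) * (a i)⁻¹ * (b i)⁻¹ : GL (Fin 2) F) : Matrix (Fin 2) (Fin 2) F) = _
      rw [Units.val_mul, Units.val_mul, h1, Matrix.smul_mul, Matrix.smul_mul, ← Units.val_mul, ← Units.val_mul]
      simp [mul_assoc]
    exact hscalar _ hscal
  -- the unit determinant representatives
  have hsplitslot : ∀ x ∈ Q, ∃ (y z : GL (Fin 2) F), x = y * z ∧ (y : Matrix (Fin 2) (Fin 2) F).det = 1 ∧
      ∃ d : F, (z : Matrix (Fin 2) (Fin 2) F) = d • 1 := by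
    intro x hx
    rcases (mem_quatGroup_iff hq).1 hx with ⟨d, hd⟩ | ⟨-, hdet⟩
    · exact ⟨1, x, by rw [one_mul], by rw [Units.val_one, Matrix.det_one], d, hd⟩
    · exact ⟨x, 1, by rw [mul_one], hdet, 1, by rw [Units.val_one, one_smul]⟩
  have hNH : N ≤ H ⊔ Z := by
    intro g hg
    obtain ⟨gs, hgs, rfl⟩ := (hmemN g).1 hg
    choose y z hyz hy hz using fun i => hsplitslot _ (hgs i)
    rw [show gs = y * z from funext hyz, map_mul]
    exact mul_mem (Subgroup.mem_sup_left (hcubeH y hy)) (Subgroup.mem_sup_right (hscalar z hz))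
  have hrotdet : ((quatRot F : GL (Fin 2) F) : Matrix (Fin 2) (Fin 2) F).det = 1 := by
    simp [quatRot, Matrix.det_fin_two]
  have hns : ¬ N ≤ Z := by
    intro hle
    have h3 := three_eq_zero_of_card hq
    let w : GL (Fin 2) F := Matrix.GeneralLinearGroup.mkOfDetNeZero (altTwo F) (by simp [altTwo, Matrix.det_fin_two])
    have hw : w ∈ Q := ⟨1, 1, by rw [one_smul]; rfl⟩
    have hmem : Ψ (Pi.mulSingle 0 w) ∈ N := (hmemN _).2 ⟨_, fun i => by
      by_cases hi : i = 0
      · subst hi; rwa [Pi.mulSingle_eq_same]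
      · rw [Pi.mulSingle_eq_of_ne hi]; exact Q.one_mem, rfl⟩
    obtain ⟨d, hd⟩ := mem_scalars_iff_scalarUnit.1 (hle hmem)
    have h1 := hΨcoord (Pi.mulSingle 0 w)
    rw [← hd, hscalcoord] at h1
    replace h1 := h1.symm
    have h2 := congrFun (congrFun h1 (fun _ => 0)) (Function.update (fun _ => 0) 0 1)
    rw [pureTensor_apply, Fin.prod_univ_three] at h2
    simp [w, altTwo, Matrix.one_apply, Function.ne_iff] at h2
  have hmin : ∀ M : Subgroup (GL ι F), Z ≤ M → M ≤ N → (∀ g ∈ H, ∀ x ∈ M, g * x * g⁻¹ ∈ M) →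
      M = Z ∨ M = N := by
    intro M hZM hMN hM
    by_cases hMZ : M ≤ Z
    · exact Or.inl (le_antisymm hMZ hZM)
    refine Or.inr (le_antisymm hMN ?_)
    obtain ⟨x, hxM, hxZ⟩ := SetLike.not_le_iff_exists.1 hMZ
    obtain ⟨gs, hgs, rfl⟩ := (hmemN x).1 (hMN hxM)
    obtain ⟨i, hi⟩ : ∃ i, ¬ ∃ d : F, (gs i : Matrix (Fin 2) (Fin 2) F) = d • 1 := by
      by_contra hall
      push Not at hall
      exact hxZ (hscalar gs hall)
    let slot : Fin 3 → Subgroup (GL (Fin 2) F) := fun j => M.comap (Ψ.comp (MonoidHom.mulSingle (fun _ : Fin 3 => GL (Fin 2) F) j))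
    have hrotH : ∀ j, Ψ (Pi.mulSingle j (quatRot F)) ∈ H := fun j => hcubeH _ fun l => by
      by_cases hl : l = j
      · subst hl; rw [Pi.mulSingle_eq_same]; exact hrotdet
      · rw [Pi.mulSingle_eq_of_ne hl, Units.val_one, Matrix.det_one]
    -- an element in the slot i alone
    set h := Pi.mulSingle (M := fun _ : Fin 3 => GL (Fin 2) F) i (quatRot F) with hh
    have hcomm' : Ψ (Pi.mulSingle i (quatRot F * gs i * (quatRot F)⁻¹ * (gs i)⁻¹)) ∈ M := by
      have h1 : Ψ h * Ψ gs * (Ψ h)⁻¹ * (Ψ gs)⁻¹ ∈ M := mul_mem (hM _ (hrotH i) _ hxM) (inv_mem hxM)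
      rw [← map_inv, ← map_inv, ← map_mul, ← map_mul, ← map_mul] at h1
      convert h1 using 2
      funext l
      by_cases hl : l = i
      · subst hl; simp [hh]
      · simp [hh, hl]
    have hfull : ∀ j, quatGroup hq ≤ slot j := by
      have hZslot : ∀ j, ∀ y : GL (Fin 2) F, (∃ c : F, (y : Matrix (Fin 2) (Fin 2) F) = c • 1) → y ∈ slot j := by
        intro j y hy
        refine hZM (hscalar _ fun l => ?_)
        by_cases hl : l = j
        · subst hl
          rw [MonoidHom.mulSingle_apply, Pi.mulSingle_eq_same]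
          exact hy
        · exact ⟨1, by rw [MonoidHom.mulSingle_apply, Pi.mulSingle_eq_of_ne hl, Units.val_one, one_smul]⟩
      have hrotslot : ∀ j, ∀ y ∈ slot j, quatRot F * y * (quatRot F)⁻¹ ∈ slot j := by
        intro j y hy
        have h1 := hM _ (hrotH j) _ hy
        show Ψ (Pi.mulSingle j (quatRot F * y * (quatRot F)⁻¹)) ∈ M
        rwa [Pi.mulSingle_mul, Pi.mulSingle_mul, Pi.mulSingle_inv, map_mul, map_mul, map_inv]
      have hci : quatGroup hq ≤ slot i :=
        quatGroup_le hq (hZslot i) (hrotslot i) hcomm'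
          (mul_mem (conj_mem_quatGroup hq _ (hgs i)) (inv_mem (hgs i)))
          (quatRot_comm_not_scalar hq (hgs i) hi)
      intro j y hy
      obtain ⟨p, hpH, hpc⟩ := hperm (Equiv.swap i j)
      have h1 := hM p hpH _ (hci hy)
      show Ψ (Pi.mulSingle j y) ∈ M
      have hmul : ∀ a b : GL ι F, glCoord e P (a * b) = glCoord e P a * glCoord e P b := fun a b => by
        simp only [glCoord, ← map_mul]
        congr 1
        group
      have heq : p * Ψ (Pi.mulSingle i y) * p⁻¹ = Ψ (Pi.mulSingle j y) := by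
        rw [mul_inv_eq_iff_eq_mul]
        refine hext _ _ ?_
        rw [hmul, hmul, Units.val_mul, Units.val_mul, hpc, hΨcoord, hΨcoord, ← monTensor_one_left,
          ← monTensor_one_left, monTensor_mul, monTensor_mul]
        congr 1
        funext l
        have : (Equiv.swap i j l = i) ↔ l = j := by
          rw [Equiv.apply_eq_iff_eq_symm_apply, Equiv.symm_swap, Equiv.swap_apply_left]
        by_cases hl : l = j
        · subst hl; simp
        · simp [hl, show Equiv.swap i j l ≠ i from fun h => hl (this.1 h)]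
      rwa [← heq]
    intro g hg
    obtain ⟨ys, hys, rfl⟩ := (hmemN g).1 hg
    have : ys ∈ M.comap Ψ := Subgroup.pi_mem_of_mulSingle_mem _ fun j => hfull j (hys j)
    exact this
  have htop : Algebra.adjoin F (matrixSet N) = ⊤ := by
    rw [eq_top_iff]
    intro X _
    set A := Algebra.adjoin F (matrixSet N) with hA
    let Θ : Matrix (Fin 3 → Fin 2) (Fin 3 → Fin 2) F →ₐ[F] Matrix ι ι F :=
      (conjMat P : Matrix ι ι F →ₐ[F] Matrix ι ι F).comp (Matrix.reindexAlgEquiv F F e.symm).toAlgHom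
    have hΘ : ∀ g : GL ι F, Θ (glCoord e P g : Matrix (Fin 3 → Fin 2) (Fin 3 → Fin 2) F) = (g : Matrix ι ι F) :=
      fun g => congrArg Units.val (conj_glReindex_glCoord e P g)
    have hslot : ∀ (j : Fin 3) (x : Matrix (Fin 2) (Fin 2) F), slotHom j x ∈ A.comap Θ := by
      intro j x
      have hx := mem_span_quatRep hq x
      have hle : Submodule.span F (Set.range (quatRep F)) ≤
          (Subalgebra.toSubmodule (A.comap Θ)).comap (slotHom (F := F) (m := 2) (t := 3) j).toLinearMap := by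
        rw [Submodule.span_le]
        rintro _ ⟨k, rfl⟩
        obtain ⟨s, hs, hsq⟩ := quatRep_sq hq k
        have hk : (quatRep F k).det ≠ 0 := fun h0 => by
          have h1 := congrArg Matrix.det hsq
          rw [Matrix.det_mul, h0, mul_zero, Matrix.det_smul, Matrix.det_one, mul_one] at h1
          exact pow_ne_zero _ hs h1.symm
        let w : GL (Fin 2) F := Matrix.GeneralLinearGroup.mkOfDetNeZero _ hk
        have hw : Ψ (Pi.mulSingle j w) ∈ N := (hmemN _).2 ⟨_, fun l => by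
          by_cases hl : l = j
          · subst hl; rw [Pi.mulSingle_eq_same]; exact ⟨1, k, by rw [one_smul]; rfl⟩
          · rw [Pi.mulSingle_eq_of_ne hl]; exact Q.one_mem, rfl⟩
        show Θ (slotHom j (quatRep F k)) ∈ A
        have h1 : (glCoord e P (Ψ (Pi.mulSingle j w)) : Matrix (Fin 3 → Fin 2) (Fin 3 → Fin 2) F) =
            slotHom j (quatRep F k) := by
          rw [hΨcoord, slotHom_apply]
          congr 1
          funext l
          by_cases hl : l = j
          · subst hl; simp [w]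
          · simp [hl]
        rw [← h1, hΘ]
        exact Algebra.subset_adjoin (mem_matrixSet hw)
      exact hle hx
    have hsingle : ∀ f g : Fin 3 → Fin 2, Matrix.single f g (1 : F) ∈ A.comap Θ := fun f g => by
      rw [← pureTensor_single f g]
      exact (Submonoid.pi_mem_of_mulSingle_mem (H := (A.comap Θ).toSubmonoid.comap
        (pureTensor : _ →* Matrix (Fin 3 → Fin 2) (Fin 3 → Fin 2) F)) _ fun j => by
          rw [Submonoid.mem_comap, ← slotHom_apply]; exact hslot j _)
    have hall : ∀ Y, Y ∈ A.comap Θ := fun Y => by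
      rw [Matrix.matrix_eq_sum_single Y]
      refine sum_mem fun f _ => sum_mem fun g _ => ?_
      rw [show Matrix.single f g (Y f g) = Y f g • Matrix.single f g (1 : F) by simp]
      exact Subalgebra.smul_mem _ (hsingle f g) _
    obtain ⟨Y, rfl⟩ : ∃ Y, Θ Y = X :=
      ⟨((conjMat P).symm X).submatrix e.symm e.symm, by simp [Θ, Matrix.submatrix_submatrix]⟩
    exact hall Y
  rcases abelian_member hm inf_le_right hZN hns hNH hnorm htop hcomm hmin with ⟨hnp, -⟩ |
    ⟨R, p, k, h1, h2, h3, h4, h5, h6, h7, h8, h9, h10, h11, h12, hle⟩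
  · exact absurd (hq ▸ Nat.prime_three) hnp
  · exact ⟨_, Or.inr (Or.inr (Or.inr (Or.inr (Or.inr (Or.inl
      ⟨R, p, k, h1, h2, h3, h4, h5, h6, h7, h8, h9, h10, h11, h12, rfl⟩))))), hle,
      R, p, k, h1, h2, h3, h4, h5, h6, h7, h8, h9, h10, rfl⟩

end Cfsg.Agent.Aschbacher
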