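/-
The dihedral group of the anisotropic plane over three elements.
-/
import Mathlib
import Cfsg.Agent.Aschbacher.Sp.Lists.QuatThree

set_option autoImplicit false
set_option linter.style.haveILetI false

namespace Cfsg.Agent.Aschbacher

open Matrix

variable {F : Type*} [Field F]

/-- Representatives `1, z, r, s` of the dihedral group modulo scalars. -/
def dihRep (F : Type*) [Field F] : Fin 4 → Matrix (Fin 2) (Fin 2) F :=
  ![1, altTwo F, !![1, 0; 0, -1], !![0, 1; 1, 0]]

lemma dihRep_mul (k l : Fin 4) : ∃ (t : F) (r : Fin 4), dihRep F k * dihRep F l = t • dihRep F r := by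
  refine ⟨![![1, 1, 1, 1], ![1, -1, -1, 1], ![1, 1, 1, 1], ![1, -1, -1, 1]] k l,
    ![![0, 1, 2, 3], ![1, 0, 3, 2], ![2, 3, 0, 1], ![3, 2, 1, 0]] k l, ?_⟩
  fin_cases k <;> fin_cases l <;> ext i j <;> fin_cases i <;> fin_cases j <;>
    simp [dihRep, altTwo, Matrix.mul_apply, Fin.sum_univ_two]

lemma dihRep_swap (k l : Fin 4) : ∃ t : F, dihRep F k * dihRep F l = t • (dihRep F l * dihRep F k) := by
  refine ⟨![![1, 1, 1, 1], ![1, 1, -1, -1], ![1, -1, 1, -1], ![1, -1, -1, 1]] k l, ?_⟩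
  fin_cases k <;> fin_cases l <;> ext i j <;> fin_cases i <;> fin_cases j <;>
    simp [dihRep, altTwo, Matrix.mul_apply, Fin.sum_univ_two]

lemma dihRep_orth (k : Fin 4) : (dihRep F k)ᵀ * dihRep F k = 1 := by
  fin_cases k <;> ext i j <;> fin_cases i <;> fin_cases j <;>
    simp [dihRep, altTwo, Matrix.mul_apply, Fin.sum_univ_two]

lemma dihRep_sq (k : Fin 4) : ∃ t : F, t ≠ 0 ∧ dihRep F k * dihRep F k = t • 1 := by
  refine ⟨![1, -1, 1, 1] k, by fin_cases k <;> simp, ?_⟩
  fin_cases k <;> ext i j <;> fin_cases i <;> fin_cases j <;>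
    simp [dihRep, altTwo, Matrix.mul_apply, Fin.sum_univ_two]

/-- The scalars times the dihedral group. -/
def dihGroup (F : Type*) [Field F] : Subgroup (GL (Fin 2) F) where
  carrier := {x | ∃ (c : F) (k : Fin 4), (x : Matrix (Fin 2) (Fin 2) F) = c • dihRep F k}
  mul_mem' := by
    rintro x y ⟨c, k, hx⟩ ⟨d, l, hy⟩
    obtain ⟨s, r, h⟩ := dihRep_mul (F := F) k l
    exact ⟨c * d * s, r, by rw [Units.val_mul, hx, hy, smul_mul_smul_comm, h, smul_smul]⟩
  one_mem' := ⟨1, 0, by simp [dihRep]⟩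
  inv_mem' := by
    rintro x ⟨c, k, hx⟩
    obtain ⟨s, hs, h⟩ := dihRep_sq (F := F) k
    have hc : c ≠ 0 := fun h0 => x.ne_zero (by rw [hx, h0, zero_smul])
    refine ⟨(c * s)⁻¹, k, ?_⟩
    have h1 : (x : Matrix (Fin 2) (Fin 2) F) * ((c * s)⁻¹ • dihRep F k) = 1 := by
      rw [hx, smul_mul_smul_comm, h, smul_smul, show c * (c * s)⁻¹ * s = 1 by field_simp, one_smul]
    calc ((x⁻¹ : GL (Fin 2) F) : Matrix (Fin 2) (Fin 2) F)
        = ((x⁻¹ : GL (Fin 2) F) : Matrix (Fin 2) (Fin 2) F) *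
          ((x : Matrix (Fin 2) (Fin 2) F) * ((c * s)⁻¹ • dihRep F k)) := by rw [h1, mul_one]
      _ = _ := by rw [← Matrix.mul_assoc, Units.inv_mul, one_mul]

lemma mem_span_dihRep (h2 : (2 : F) ≠ 0) (x : Matrix (Fin 2) (Fin 2) F) :
    x ∈ Submodule.span F (Set.range (dihRep F)) := by
  rw [Submodule.mem_span_range_iff_exists_fun]
  refine ⟨![(x 0 0 + x 1 1) / 2, (x 0 1 - x 1 0) / 2, (x 0 0 - x 1 1) / 2, (x 0 1 + x 1 0) / 2], ?_⟩
  ext i j
  fin_cases i <;> fin_cases j <;> simp [Fin.sum_univ_four, dihRep, altTwo] <;> field_simp <;> ring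

/-- The rotations and the reflection normalise the dihedral group. -/
lemma conj_mem_dihGroup [Fintype F] (hq : Fintype.card F = 3) {b : GL (Fin 2) F} {u v : F}
    (hb : (b : Matrix (Fin 2) (Fin 2) F) = u • 1 + v • altTwo F) {y : GL (Fin 2) F} (hy : y ∈ dihGroup F) :
    b * y * b⁻¹ ∈ dihGroup F := by
  by_cases hu : u = 0
  · have : b ∈ dihGroup F := ⟨v, 1, by rw [hb, hu, zero_smul, zero_add]; rfl⟩
    exact mul_mem (mul_mem this hy) (inv_mem this)
  by_cases hv : v = 0
  · have : b ∈ dihGroup F := ⟨u, 0, by rw [hb, hv, zero_smul, add_zero]; rfl⟩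
    exact mul_mem (mul_mem this hy) (inv_mem this)
  obtain ⟨c, k, hc⟩ := hy
  refine ⟨c * ![1, 1, -(u * v), u * v] k, ![0, 1, 3, 2] k, ?_⟩
  have hu2 := sq_eq_one_three hq hu
  have hv2 := sq_eq_one_three hq hv
  have key : (b : Matrix (Fin 2) (Fin 2) F) * dihRep F k =
      ![1, 1, -(u * v), u * v] k • (dihRep F (![0, 1, 3, 2] k) * (b : Matrix (Fin 2) (Fin 2) F)) := by
    rw [hb, show u • (1 : Matrix (Fin 2) (Fin 2) F) + v • altTwo F = !![u, v; -v, u] by
      ext i j; fin_cases i <;> fin_cases j <;> simp [altTwo]]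
    fin_cases k <;> ext i j <;> fin_cases i <;> fin_cases j <;>
      simp [dihRep, altTwo, Matrix.mul_apply, Fin.sum_univ_two] <;>
      first
        | linear_combination (0 : F) * hu2
        | linear_combination (-u) * hv2
        | linear_combination u * hv2
        | linear_combination (-v) * hu2
        | linear_combination v * hu2
  rw [Units.val_mul, Units.val_mul, hc, Matrix.mul_smul, key, smul_smul, Matrix.smul_mul, Matrix.mul_assoc,
    Units.mul_inv, mul_one]

end Cfsg.Agent.Aschbacher
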