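/-
No member of the symplectic classes contains the symplectic group: all proofs use transvections.
-/
import Mathlib
import Cfsg.Agent.Aschbacher.Sp.Base
import Cfsg.Agent.Aschbacher.Lists.Proper
import Cfsg.Agent.Aschbacher.Formed.Coord

set_option autoImplicit false
set_option linter.style.haveILetI false

namespace Cfsg.Agent.Aschbacher

open Matrix
open Cfsg.Geo
open scoped Kronecker

variable {F : Type*} [Field F] {m : ℕ}

local notation "ι" => Fin m ⊕ Fin m

/-- The functional of a symplectic transvection. -/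
noncomputable def spPhi (v : ι → F) (a : F) : ι → F := a • (Matrix.J (Fin m) F *ᵥ v)

lemma spPhi_dot (v : ι → F) (a : F) (x : ι → F) :
    spPhi v a ⬝ᵥ x = a * (sympData m F).form x v := by
  rw [spPhi, smul_dotProduct, dotProduct_comm]
  rfl

lemma spPhi_self (v : ι → F) (a : F) : spPhi v a ⬝ᵥ v = 0 := by
  rw [spPhi_dot, sympData_self, mul_zero]

/-- The symplectic transvection `x ↦ x + a f(x, v) v`. -/
noncomputable def spTrv (v : ι → F) (a : F) : GL ι F := trv v (spPhi v a) (spPhi_self v a)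

lemma spTrv_mulVec (v : ι → F) (a : F) (x : ι → F) :
    ((spTrv v a : GL ι F) : Matrix ι ι F) *ᵥ x = x + (a * (sympData m F).form x v) • v := by
  rw [spTrv, trv_mulVec, spPhi_dot]

lemma spTrv_mem (v : ι → F) (a : F) : spTrv v a ∈ Cfsg.spGL m F := by
  rw [mem_spGL]
  intro x y
  rw [spTrv_mulVec, spTrv_mulVec]
  simp only [FormData.form_add_left, FormData.form_add_right, FormData.form_smul_left,
    FormData.form_smul_right, sympData_τ, RingEquiv.refl_apply, sympData_self]
  rw [sympData_swap y v]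
  ring

lemma exists_form_ne_zero {w : ι → F} (hw : w ≠ 0) : ∃ x, (sympData m F).form w x ≠ 0 :=
  ((sympData m F).nondegenerate w hw).2

theorem not_spGL_le_subspace {W : Submodule F (ι → F)} (h0 : W ≠ ⊥) (h1 : W ≠ ⊤) :
    ¬ Cfsg.spGL m F ≤ subspaceStabilizer W := by
  intro hle
  obtain ⟨w, hw, hw0⟩ := Submodule.exists_mem_ne_zero_of_ne_bot h0
  obtain ⟨x, hx⟩ := exists_form_ne_zero hw0
  obtain ⟨u, hu⟩ : ∃ u, u ∉ W := by
    by_contra h
    push Not at h
    exact h1 (eq_top_iff.2 fun x _ => h x)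
  obtain ⟨v, hv, hfv⟩ : ∃ v, v ∉ W ∧ (sympData m F).form w v ≠ 0 := by
    by_cases hxW : x ∈ W
    · by_cases hfu : (sympData m F).form w u = 0
      · refine ⟨u + x, fun h => hu ((W.add_mem_iff_left hxW).1 h), ?_⟩
        rwa [FormData.form_add_right, hfu, zero_add]
      · exact ⟨u, hu, hfu⟩
    · exact ⟨x, hxW, hx⟩
  have h2 := (mem_subspaceStabilizer.1 (hle (spTrv_mem v 1)) w).1 hw
  rw [spTrv_mulVec, one_mul, W.add_mem_iff_right hw] at h2
  exact hv (by simpa [smul_smul, inv_mul_cancel₀ hfv] using W.smul_mem ((sympData m F).form w v)⁻¹ h2)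

theorem not_spGL_le_decomposition {t k : ℕ} {D : Fin t → Submodule F (ι → F)}
    (hD : IsMDecomposition k D) (hk : 2 ≤ k) : ¬ Cfsg.spGL m F ≤ decompositionStabilizer D := by
  intro hle
  have ht := hD.two_le
  set a : Fin t := ⟨0, by omega⟩
  have hne : D a ≠ ⊥ := fun h => by
    have h1 := hD.finrank_eq a
    rw [h, finrank_bot] at h1
    omega
  obtain ⟨w, hw, hw0⟩ := Submodule.exists_mem_ne_zero_of_ne_bot hne
  obtain ⟨j, x, hx, hfx⟩ : ∃ j, ∃ x ∈ D j, (sympData m F).form w x ≠ 0 := by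
    by_contra hall
    push Not at hall
    obtain ⟨x, hx⟩ := exists_form_ne_zero hw0
    apply hx
    have hxt : x ∈ iSup D := hD.iSup_eq_top ▸ Submodule.mem_top
    refine Submodule.iSup_induction D (motive := fun y => (sympData m F).form w y = 0) hxt hall
      ((sympData m F).form_zero_right w) fun y z hy hz => ?_
    rw [FormData.form_add_right, hy, hz, add_zero]
  haveI : Nontrivial (Fin t) := Fin.nontrivial_iff_two_le.2 ht
  obtain ⟨l, hl⟩ := exists_ne j
  obtain ⟨y, hy, hy0, hfy⟩ : ∃ y ∈ D l, y ≠ 0 ∧ (sympData m F).form w y = 0 := by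
    let L : D l →ₗ[F] F :=
      { toFun := fun y => (sympData m F).form w y
        map_add' := fun p q => FormData.form_add_right _ w p q
        map_smul' := fun c p => by
          simp [FormData.form_smul_right, sympData_τ] }
    have : LinearMap.ker L ≠ ⊥ := LinearMap.ker_ne_bot_of_finrank_lt (by
      rw [hD.finrank_eq, Module.finrank_self]; omega)
    obtain ⟨y, hy, hy0⟩ := Submodule.exists_mem_ne_zero_of_ne_bot this
    exact ⟨y, y.2, fun h => hy0 (Subtype.ext h), hy⟩
  set u := x + y - w with hu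
  have hfu : (sympData m F).form w u ≠ 0 := by
    have : (sympData m F).form w u = (sympData m F).form w x := by
      have h := FormData.form_add_right (sympData m F) w u w
      rw [hu, sub_add_cancel, sympData_self, add_zero, FormData.form_add_right, hfy, add_zero] at h
      exact h.symm
    rwa [this]
  obtain ⟨σ, hσ⟩ := hle (spTrv_mem u ((sympData m F).form w u)⁻¹)
  have h2 : x + y ∈ D (σ a) := by
    rw [← hσ a]
    refine ⟨w, hw, ?_⟩
    rw [Matrix.toLin'_apply, spTrv_mulVec, inv_mul_cancel₀ hfu, one_smul, hu, add_sub_cancel]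
  have hdis : ∀ p q, p ≠ q → ∀ z ∈ D p, z ∈ D q → z = 0 := fun p q hpq z hz hz' =>
    Submodule.disjoint_def.1 (hD.indep.pairwiseDisjoint hpq) z hz hz'
  have hx0 : x ≠ 0 := fun h => hfx (by rw [h, FormData.form_zero_right])
  by_cases h1 : σ a = j
  · rw [h1] at h2
    exact hy0 (hdis _ _ hl y hy (((D j).add_mem_iff_right hx).1 h2))
  by_cases h3 : σ a = l
  · rw [h3] at h2
    exact hx0 (hdis _ _ hl x (((D l).add_mem_iff_left hy).1 h2) hx)
  have h4 : x + y ∈ ⨆ (p) (_ : p ≠ σ a), D p :=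
    add_mem (Submodule.mem_iSup_of_mem j (Submodule.mem_iSup_of_mem (Ne.symm h1) hx))
      (Submodule.mem_iSup_of_mem l (Submodule.mem_iSup_of_mem (Ne.symm h3) hy))
  have h5 : x + y = 0 := Submodule.disjoint_def.1 (hD.indep (σ a)) _ h2 h4
  refine hx0 (hdis _ _ hl x ?_ hx)
  rw [eq_neg_of_add_eq_zero_left h5]
  exact (D l).neg_mem hy

/-- A matrix commuting with a symplectic transvection has its centre as an eigenvector. -/
lemma mem_span_of_commute_spTrv {k : Matrix ι ι F} {v : ι → F}
    (h : ((spTrv v 1 : GL ι F) : Matrix ι ι F) * k = k * (spTrv v 1 : GL ι F)) :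
    k *ᵥ v ∈ Submodule.span F {v} := by
  by_cases hv : v = 0
  · simp [hv]
  obtain ⟨x, hx⟩ := ((sympData m F).nondegenerate v hv).1
  have h1 := congrArg (fun M : Matrix ι ι F => M *ᵥ x) h
  simp only [← Matrix.mulVec_mulVec, spTrv_mulVec, one_mul, Matrix.mulVec_add, Matrix.mulVec_smul,
    add_right_inj] at h1
  rw [Submodule.mem_span_singleton]
  exact ⟨((sympData m F).form x v)⁻¹ * (sympData m F).form (k *ᵥ x) v, by
    rw [mul_smul, h1, smul_smul, inv_mul_cancel₀ hx, one_smul]⟩

theorem not_spGL_le_field (hm : 2 ≤ m) {r : ℕ} (hr : r.Prime) {K : Subalgebra F (Matrix ι ι F)}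
    (hK : IsFieldSubalgebra r K) : ¬ Cfsg.spGL m F ≤ subalgebraNormalizer K := by
  intro hle
  haveI : Nonempty ι := ⟨Sum.inl ⟨0, by omega⟩⟩
  have hι : 3 ≤ Fintype.card ι := by rw [Fintype.card_sum, Fintype.card_fin]; omega
  have key : ∀ k ∈ K, ∃ c : F, k = c • (1 : Matrix ι ι F) := by
    intro k hk
    refine scalar_of_forall_mem_span fun v => mem_span_of_commute_spTrv ?_
    set t := spTrv v (1 : F)
    have hk' : conjMat t k ∈ K := (hle (spTrv_mem _ _) k).1 hk
    refine (conjMat_eq_self_iff t k).1 ?_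
    by_contra hne
    obtain ⟨y, -, hy⟩ := hK.inv _ (K.sub_mem hk' hk) (sub_ne_zero.2 hne)
    set φ := spPhi v (1 : F)
    obtain ⟨x, hx0, hx1, hx2⟩ := exists_dot_orth hι φ (φ ᵥ* k)
    have hfix : ∀ z : ι → F, φ ⬝ᵥ z = 0 → (t : Matrix ι ι F) *ᵥ z = z := by
      intro z hz
      show ((spTrv v 1 : GL ι F) : Matrix ι ι F) *ᵥ z = z
      rw [spTrv, trv_mulVec, hz, zero_smul, add_zero]
    have hzero : (conjMat t k - k) *ᵥ x = 0 := by
      have h1 := conjMat_mulVec t k x
      rw [hfix x (by rw [dotProduct_comm]; exact hx1),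
        hfix (k *ᵥ x) (by rw [Matrix.dotProduct_mulVec, dotProduct_comm]; exact hx2)] at h1
      rw [Matrix.sub_mulVec, h1, sub_self]
    have h2 := congrArg (fun M : Matrix ι ι F => M *ᵥ x) (mul_eq_one_comm.1 hy)
    simp only [← Matrix.mulVec_mulVec, hzero, Matrix.mulVec_zero, Matrix.one_mulVec] at h2
    exact hx0 h2.symm
  have hbot : K = ⊥ := by
    rw [eq_bot_iff]
    intro k hk
    obtain ⟨c, rfl⟩ := key k hk
    rw [Algebra.mem_bot]
    exact ⟨c, Algebra.algebraMap_eq_smul_one c⟩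
  have h1 := hK.finrank_eq
  rw [hbot, Subalgebra.finrank_bot] at h1
  exact hr.one_lt.ne h1

/-- In any coordinates, a transvection centred at a basis vector, with any coefficient. -/
lemma exists_spTrv_coord {κ : Type} [Fintype κ] [DecidableEq κ] (e : ι ≃ κ) (P : GL ι F) (p : κ) :
    ∃ ψ : κ → F, ψ p = 0 ∧ ψ ≠ 0 ∧ ∀ a : F, ∃ g ∈ Cfsg.spGL m F,
      (glCoord e P g : Matrix κ κ F) = 1 + vecMulVec (Pi.single p 1) (a • ψ) := by
  set v : ι → F := (P : Matrix ι ι F) *ᵥ (Pi.single (e.symm p) 1) with hv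
  set ψ : κ → F := (spPhi v 1 ᵥ* (P : Matrix ι ι F)) ∘ e.symm with hψ
  have hψx : ∀ x, ψ x = (sympData m F).form ((P : Matrix ι ι F) *ᵥ Pi.single (e.symm x) 1) v := by
    intro x
    rw [hψ, Function.comp_apply, ← one_mul ((sympData m F).form _ v), ← spPhi_dot,
      Matrix.dotProduct_mulVec, dotProduct_single, mul_one]
  refine ⟨ψ, by rw [hψx]; exact sympData_self _, fun h0 => ?_, fun a => ⟨spTrv v a, spTrv_mem _ _, ?_⟩⟩
  · have hv0 : v ≠ 0 := fun h => by
      have h1 := congrArg (fun z => ((P⁻¹ : GL ι F) : Matrix ι ι F) *ᵥ z) h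
      simp only [hv, Matrix.mulVec_mulVec, Units.inv_mul, Matrix.one_mulVec, Matrix.mulVec_zero] at h1
      exact one_ne_zero (α := F) (by simpa using congrFun h1 (e.symm p))
    obtain ⟨x, hx⟩ := ((sympData m F).nondegenerate v hv0).1
    apply hx
    have h1 : spPhi v 1 ᵥ* (P : Matrix ι ι F) = 0 := funext fun i => by
      simpa [hψ] using congrFun h0 (e i)
    have h2 := spPhi_dot v 1 ((P : Matrix ι ι F) *ᵥ (((P⁻¹ : GL ι F) : Matrix ι ι F) *ᵥ x))
    rw [Matrix.dotProduct_mulVec, h1, zero_dotProduct, one_mul, Matrix.mulVec_mulVec, Units.mul_inv,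
      Matrix.one_mulVec] at h2
    exact h2.symm
  · have hmat : ((P⁻¹ * spTrv v a * P : GL ι F) : Matrix ι ι F) =
        1 + vecMulVec (Pi.single (e.symm p) 1) (a • (spPhi v 1 ᵥ* (P : Matrix ι ι F))) := by
      rw [Units.val_mul, Units.val_mul, spTrv, trv_coe, mul_add, mul_one, add_mul, Units.inv_mul,
        Matrix.mul_vecMulVec, Matrix.vecMulVec_mul, hv, Matrix.mulVec_mulVec, Units.inv_mul,
        Matrix.one_mulVec, ← Matrix.smul_vecMul]
      congr 3
      simp [spPhi]
    rw [glCoord, coe_glReindex, hmat]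
    ext x y
    simp [Matrix.one_apply, vecMulVec_apply, Pi.single_apply, hψ, Equiv.symm_apply_eq]

theorem not_spGL_le_tensor {n₁ n₂ : ℕ} (h1 : 2 ≤ n₁) (h2 : 2 ≤ n₂) (e : ι ≃ Fin n₁ × Fin n₂)
    (P : GL ι F) : ¬ Cfsg.spGL m F ≤ tensorProductSubgroup n₁ n₂ e P := by
  intro hle
  set x0 : Fin n₁ := ⟨0, by omega⟩
  set x1 : Fin n₁ := ⟨1, by omega⟩
  set y0 : Fin n₂ := ⟨0, by omega⟩
  set y1 : Fin n₂ := ⟨1, by omega⟩
  have hx : x1 ≠ x0 := by simp [x0, x1]
  have hy : y1 ≠ y0 := by simp [y0, y1]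
  obtain ⟨ψ, hp, hne, hψ⟩ := exists_spTrv_coord e P (x0, y0)
  obtain ⟨g, hg, hM⟩ := hψ 1
  obtain ⟨a, b, hab⟩ := exists_kronecker_of_mem (hle hg)
  rw [hM, one_smul] at hab
  have he : ∀ s t, (if s = t then (1 : F) else 0) + (if s = (x0, y0) then ψ t else 0) =
      (a : Matrix (Fin n₁) (Fin n₁) F) s.1 t.1 * (b : Matrix (Fin n₂) (Fin n₂) F) s.2 t.2 := by
    intro s t
    have := congrFun (congrFun hab s) t
    simpa [Matrix.one_apply, vecMulVec_apply, Pi.single_apply] using this
  obtain ⟨⟨x', y'⟩, hq⟩ := Function.ne_iff.1 hne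
  rw [Pi.zero_apply] at hq
  have hqp : ((x0, y0) : Fin n₁ × Fin n₂) ≠ (x', y') := fun h => hq (h ▸ hp)
  have hval := he (x0, y0) (x', y')
  rw [if_neg hqp, if_pos rfl, zero_add] at hval
  obtain ⟨ha, hb⟩ := mul_ne_zero_iff.1 (hval ▸ hq)
  by_cases hx' : x' = x0
  · have hy' : y' ≠ y0 := fun h => hqp (by rw [hx', h])
    have h3 := he (x1, y0) (x1, y0)
    have h4 := he (x1, y0) (x1, y')
    simp [hx, Ne.symm hy', Prod.ext_iff] at h3 h4
    rcases h4 with h | h
    · rw [h, zero_mul] at h3; exact one_ne_zero h3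
    · exact hb h
  · have h3 := he (x0, y1) (x0, y1)
    have h4 := he (x0, y1) (x', y1)
    simp [hy, Ne.symm hx', Prod.ext_iff] at h3 h4
    rcases h4 with h | h
    · exact ha h
    · rw [h, mul_zero] at h3; exact one_ne_zero h3

theorem not_spGL_le_wreath {k t : ℕ} (hk : 2 ≤ k) (ht : 3 ≤ t) (e : ι ≃ (Fin t → Fin k))
    (P : GL ι F) : ¬ Cfsg.spGL m F ≤ tensorWreathSubgroup k t e P := by
  classical
  intro hle
  set z : Fin k := ⟨0, by omega⟩
  set o : Fin k := ⟨1, by omega⟩
  have hoz : o ≠ z := by simp [z, o]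
  set p : Fin t → Fin k := fun _ => z with hpdef
  obtain ⟨ψ, hp, hne, hψ⟩ := exists_spTrv_coord e P p
  obtain ⟨g, hg, hM⟩ := hψ 1
  obtain ⟨σ, gs, hgs⟩ := exists_monTensor_of_mem_wreath (hle hg)
  rw [hM, one_smul] at hgs
  have he : ∀ x y, (if x = y then (1 : F) else 0) + (if x = p then ψ y else 0) =
      ∏ i, (gs i : Matrix (Fin k) (Fin k) F) (x i) (y (σ i)) := by
    intro x y
    have := congrFun (congrFun hgs x) y
    simpa [Matrix.one_apply, vecMulVec_apply, Pi.single_apply, monTensor] using this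
  obtain ⟨q, hq⟩ := Function.ne_iff.1 hne
  rw [Pi.zero_apply] at hq
  have hqp : p ≠ q := fun h => hq (h ▸ hp)
  have hval := he p q
  rw [if_neg hqp, if_pos rfl, zero_add] at hval
  have hz : ∀ i, (gs i : Matrix (Fin k) (Fin k) F) z (q (σ i)) ≠ 0 := fun i =>
    Finset.prod_ne_zero_iff.1 (hval ▸ hq) i (Finset.mem_univ i)
  have key : ∀ i l, l ≠ σ i → q l = if l = i then o else z := by
    intro i l hl
    set x := Function.update p i o with hx
    have hxp : x ≠ p := fun h => hoz (by simpa [hx, hpdef] using congrFun h i)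
    have hd := he x x
    rw [if_pos rfl, if_neg hxp, add_zero] at hd
    have hi := Finset.prod_ne_zero_iff.1 (hd ▸ one_ne_zero (α := F)) i (Finset.mem_univ i)
    set y := Function.update q (σ i) (x (σ i)) with hy
    have h1 := he x y
    rw [if_neg hxp, add_zero] at h1
    have hxy : x = y := by
      by_contra hne
      rw [if_neg hne, eq_comm, Finset.prod_eq_zero_iff] at h1
      obtain ⟨j, -, hj⟩ := h1
      by_cases hji : j = i
      · rw [hji, hy, Function.update_self] at hj
        exact hi hj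
      · rw [hy, Function.update_of_ne (fun h => hji (σ.injective h)), hx,
          Function.update_of_ne hji] at hj
        exact hz j hj
    have h2 := congrFun hxy l
    rw [hy, Function.update_of_ne hl, hx, Function.update_apply] at h2
    exact h2.symm
  have hσ : ∀ i, σ i = i := by
    intro i
    by_contra hne
    have hqi : q i = o := by rw [key i i (Ne.symm hne), if_pos rfl]
    have hall : ∀ j, j ≠ i → σ j = i := fun j hj => by
      by_contra hne'
      have := key j i (Ne.symm hne')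
      rw [if_neg (Ne.symm hj), hqi] at this
      exact hoz this
    obtain ⟨a, ha, b, hb, hab⟩ := Finset.one_lt_card.1 (show 1 < ((Finset.univ : Finset (Fin t)).erase i).card by
      rw [Finset.card_erase_of_mem (Finset.mem_univ i), Finset.card_univ, Fintype.card_fin]; omega)
    exact hab (σ.injective ((hall a (Finset.ne_of_mem_erase ha)).trans
      (hall b (Finset.ne_of_mem_erase hb)).symm))
  refine hqp (funext fun l => ?_)
  haveI : Nontrivial (Fin t) := Fin.nontrivial_iff_two_le.2 (by omega)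
  obtain ⟨i, hi⟩ := exists_ne l
  rw [key i l (by rw [hσ]; exact hi.symm), if_neg hi.symm]

theorem not_spGL_le_subfield [Fintype F] (hm : 1 ≤ m) {F₀ : Subfield F} {r : ℕ} (hr : r.Prime)
    (hcard : Fintype.card F = Nat.card F₀ ^ r) (P : GL ι F) :
    ¬ Cfsg.spGL m F ≤ subfieldSubgroup F₀ P := by
  intro hle
  set q : ι := Sum.inl ⟨0, hm⟩
  obtain ⟨ψ, hp, hne, hψ⟩ := exists_spTrv_coord (Equiv.refl ι) P q
  obtain ⟨j, hj⟩ := Function.ne_iff.1 hne
  rw [Pi.zero_apply] at hj
  have hjq : q ≠ j := fun h => hj (h ▸ hp)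
  have hall : ∀ b : F, b ∈ F₀ := by
    intro b
    obtain ⟨g, hg, hM⟩ := hψ (b / ψ j)
    obtain ⟨x, hx, hxe⟩ := Subgroup.mem_map.1 (hle hg)
    have hxg : P⁻¹ * g * P = x := by
      rw [← hxe, MulEquiv.coe_toMonoidHom, MulAut.conj_apply]; group
    obtain ⟨g₁, ⟨g₀, rfl⟩, s, hs, hgs⟩ := Subgroup.mem_sup_of_normal_right.1 hx
    obtain ⟨c, hc⟩ := (Cfsg.Geo.mem_scalars_iff s).1 hs
    have hgs' : ∀ i k, (1 + vecMulVec (Pi.single q 1) ((b / ψ j) • ψ) : Matrix ι ι F) i k =
        (c : F) * ((g₀ : Matrix ι ι F₀) i k : F) := by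
      intro i k
      rw [← hM, glCoord, coe_glReindex, hxg, ← hgs, Matrix.submatrix_apply, Units.val_mul, hc,
        Matrix.mul_smul, mul_one, Matrix.smul_apply, smul_eq_mul]
      rfl
    have h00 := hgs' j j
    have h01 := hgs' q j
    simp [Matrix.one_apply, vecMulVec_apply, Pi.single_apply, hjq, hjq.symm] at h00 h01
    rw [div_mul_cancel₀ _ hj] at h01
    have hc0 : ((g₀ : Matrix ι ι F₀) j j : F) = (c : F)⁻¹ := eq_inv_of_mul_eq_one_right h00.symm
    rw [h01]
    refine F₀.mul_mem ?_ ((g₀ : Matrix ι ι F₀) q j).2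
    have := F₀.inv_mem ((g₀ : Matrix ι ι F₀) j j).2
    rwa [hc0, inv_inv] at this
  have h1 : Nat.card F₀ = Fintype.card F := by
    rw [← Nat.card_eq_fintype_card]
    exact Nat.card_congr (Equiv.subtypeUnivEquiv hall)
  rw [h1] at hcard
  exact absurd hcard.symm (Nat.ne_of_gt (lt_self_pow₀ Fintype.one_lt_card hr.one_lt))

theorem not_spGL_le_quad (h2 : (2 : F) = 0) (hm : 2 ≤ m) {Q : (ι → F) → F}
    (hsmul : ∀ (a : F) (v : ι → F), Q (a • v) = a ^ 2 * Q v)
    (hpolar : ∀ u v, QuadraticMap.polar Q u v = (sympData m F).form u v) :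
    ¬ Cfsg.spGL m F ≤ quadSimilarityGroup Q := by
  intro hle
  set u : ι → F := Pi.single (Sum.inl ⟨0, by omega⟩) 1 with hu
  set w : ι → F := Pi.single (Sum.inl ⟨1, by omega⟩) 1 with hw
  have huw : (sympData m F).form u w = 0 := Cfsg.Agent.Forms.SympStd.sympForm_inl_inl _ _
  have hne : ∀ {v : ι → F}, v ≠ 0 → Q v = 1 := by
    intro v hv
    obtain ⟨x, hx⟩ := ((sympData m F).nondegenerate v hv).1
    obtain ⟨c, hc⟩ := hle (spTrv_mem v (1 : F))
    have hc1 : (c : F) = 1 := by
      have h1 := hpolar (((spTrv v 1 : GL ι F) : Matrix ι ι F) *ᵥ x)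
        (((spTrv v 1 : GL ι F) : Matrix ι ι F) *ᵥ v)
      rw [mem_spGL.1 (spTrv_mem v 1)] at h1
      simp only [QuadraticMap.polar, ← Matrix.mulVec_add, hc] at h1
      have h3 := hpolar x v
      simp only [QuadraticMap.polar] at h3
      rw [← mul_sub, ← mul_sub, h3] at h1
      exact (mul_eq_right₀ hx).1 h1
    have h1 := hc x
    rw [spTrv_mulVec, one_mul, hc1, one_mul] at h1
    have h3 := hpolar x ((sympData m F).form x v • v)
    simp only [QuadraticMap.polar] at h3
    rw [h1, FormData.form_smul_right, sympData_τ, RingEquiv.refl_apply] at h3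
    have h4 : Q ((sympData m F).form x v • v) = (sympData m F).form x v * (sympData m F).form x v := by
      linear_combination -h3 - ((sympData m F).form x v * (sympData m F).form x v) * h2
    rw [hsmul] at h4
    have h5 : (sympData m F).form x v * (sympData m F).form x v * (Q v - 1) = 0 := by
      linear_combination h4
    exact sub_eq_zero.1 ((mul_eq_zero.1 h5).resolve_left (mul_ne_zero hx hx))
  have hu0 : u ≠ 0 := fun h => one_ne_zero (α := F) (by simpa [hu] using congrFun h (Sum.inl ⟨0, by omega⟩))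
  have hw0 : w ≠ 0 := fun h => one_ne_zero (α := F) (by simpa [hw] using congrFun h (Sum.inl ⟨1, by omega⟩))
  have huw0 : u + w ≠ 0 := fun h => one_ne_zero (α := F) (by
    simpa [hu, hw, Pi.single_apply, Fin.ext_iff] using congrFun h (Sum.inl ⟨0, by omega⟩))
  have h1 := hpolar u w
  simp only [QuadraticMap.polar] at h1
  rw [hne hu0, hne hw0, hne huw0, huw] at h1
  exact one_ne_zero (α := F) (by linear_combination -h1)

theorem not_spGL_le_normalizer [Fintype F] (hm : 2 ≤ m) {R : Subgroup (GL ι F)} {p k : ℕ}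
    (habs : ActsAbsolutelyIrreducibly (matrixSet R)) (hp : p.Prime) (hodd : Odd p)
    (hcard : Fintype.card F = p) (hR : Nat.card R = 2 ^ (1 + 2 * k))
    (hcentre : Nat.card (Subgroup.center R) = 2) (hk : 2 * m = 2 ^ k)
    (hsq : ∀ x ∈ R, x ^ 2 ∈ scalars ι F) (hcomm : ∀ x ∈ R, ∀ y ∈ R, x * y * x⁻¹ * y⁻¹ ∈ scalars ι F) :
    ¬ Cfsg.spGL m F ≤ subgroupNormalizer R := by
  classical
  intro hle
  haveI : Nonempty ι := ⟨Sum.inl ⟨0, by omega⟩⟩
  have hι : 3 ≤ Fintype.card ι := by rw [Fintype.card_sum, Fintype.card_fin]; omega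
  haveI : Fact p.Prime := ⟨hp⟩
  haveI : CharP F p := charP_of_card_eq_prime hcard
  have h2 : (2 : F) ≠ 0 := odd_card_iff.1 (hcard ▸ hodd)
  set n : F := (Fintype.card ι : F) with hn
  have hn0 : n ≠ 0 := by
    rw [hn, Fintype.card_sum, Fintype.card_fin, ← two_mul, hk, Nat.cast_pow, Nat.cast_ofNat]
    exact pow_ne_zero k h2
  have hscal : ∀ x : GL ι F, x ∈ R → (∀ y ∈ R, y * x = x * y) →
      ∃ c : F, (x : Matrix ι ι F) = c • 1 := by
    intro x hx h
    refine habs.2 _ ?_
    rintro _ ⟨y, hy, rfl⟩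
    exact congrArg Units.val (h y hy).symm
  have htr : ∀ x ∈ R, (∃ c : F, (x : Matrix ι ι F) = c • 1) ∨ (x : Matrix ι ι F).trace = 0 := by
    intro x hx
    by_contra h
    push Not at h
    obtain ⟨c, hc⟩ := hscal x hx fun y hy => by
      obtain ⟨d, hd⟩ := (Cfsg.Geo.mem_scalars_iff _).1 (hcomm y hy x hx)
      have h1 : ((y * x * y⁻¹ : GL ι F) : Matrix ι ι F) = (d : F) • (x : Matrix ι ι F) := by
        rw [show y * x * y⁻¹ = y * x * y⁻¹ * x⁻¹ * x by group, Units.val_mul, hd, Matrix.smul_mul,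
          one_mul]
      have h3 := congrArg Matrix.trace h1
      rw [Units.val_mul, Units.val_mul, Matrix.trace_units_conj, Matrix.trace_smul, smul_eq_mul] at h3
      have hd1 : (d : F) = 1 := (mul_eq_right₀ h.2).1 h3.symm
      rw [hd1, one_smul] at h1
      exact mul_inv_eq_iff_eq_mul.1 (Units.ext h1)
    exact h.1 c hc
  have key : ∀ x ∈ R, ∀ c : F, ((x * x : GL ι F) : Matrix ι ι F) = c • 1 → ∀ v : ι → F,
      (x : Matrix ι ι F) *ᵥ v ∉ Submodule.span F {v} → c * n = 1 ∧ c * c = 1 := by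
    intro x hx c hc v hv
    set D := sympData m F with hD
    set s := D.form ((x : Matrix ι ι F) *ᵥ v) v with hs
    have hc0 : c ≠ 0 := by
      rintro rfl
      rw [zero_smul] at hc
      exact (x * x).ne_zero hc
    have hinv : ((x⁻¹ : GL ι F) : Matrix ι ι F) = c⁻¹ • (x : Matrix ι ι F) := by
      calc ((x⁻¹ : GL ι F) : Matrix ι ι F)
          = ((x⁻¹ : GL ι F) : Matrix ι ι F) * (c⁻¹ • ((x * x : GL ι F) : Matrix ι ι F)) := by
            rw [hc, smul_smul, inv_mul_cancel₀ hc0, one_smul, mul_one]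
        _ = c⁻¹ • (x : Matrix ι ι F) := by
            rw [Matrix.mul_smul, Units.val_mul, ← mul_assoc, Units.inv_mul, one_mul]
    have heq : ∀ a : F, a ≠ 0 → n = c⁻¹ * (a * s) * (a * s) := by
      intro a ha
      set t := spTrv v a with ht
      set φ := spPhi v a with hφ
      set ψ := φ ᵥ* ((x⁻¹ : GL ι F) : Matrix ι ι F) with hψ
      set w := (x : Matrix ι ι F) *ᵥ v with hw
      set y := x * (t * x⁻¹ * t⁻¹) with hy
      have hyR : y ∈ R :=
        mul_mem hx ((Subgroup.mem_normalizer_iff.1 (hle (spTrv_mem v a)) x⁻¹).1 (inv_mem hx))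
      have hmat : (y : Matrix ι ι F) =
          1 + vecMulVec w ψ - vecMulVec v φ - (ψ ⬝ᵥ v) • vecMulVec w φ := by
        have h1 : ((x * t * x⁻¹ : GL ι F) : Matrix ι ι F) = 1 + vecMulVec w ψ := by
          rw [Units.val_mul, Units.val_mul, ht, spTrv, trv_coe, mul_add, mul_one, add_mul, Units.mul_inv,
            Matrix.mul_vecMulVec, Matrix.vecMulVec_mul]
        rw [hy, show x * (t * x⁻¹ * t⁻¹) = x * t * x⁻¹ * t⁻¹ by group, Units.val_mul, h1, ht, spTrv,
          trv_inv_coe, ← hφ, add_mul, mul_sub, mul_sub, one_mul, mul_one, one_mul,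
          Matrix.vecMulVec_mul_vecMulVec]
        simp only [vecMulVec_smul, smul_vecMulVec]
        abel
      rcases htr y hyR with ⟨d, hd⟩ | htr0
      · exfalso
        obtain ⟨z, hz0, hz1, hz2⟩ := exists_dot_orth hι φ ψ
        rw [dotProduct_comm] at hz1 hz2
        have hyz : (y : Matrix ι ι F) *ᵥ z = z := by
          rw [hmat, Matrix.sub_mulVec, Matrix.sub_mulVec, Matrix.add_mulVec, Matrix.one_mulVec,
            Matrix.smul_mulVec, vecMulVec_mulVec', vecMulVec_mulVec', vecMulVec_mulVec', hz1, hz2]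
          simp
        rw [hd, smul_mulVec'] at hyz
        have hd1 : d = 1 := by
          have h1 : (d - 1) • z = 0 := by rw [sub_smul, hyz, one_smul, sub_self]
          exact sub_eq_zero.1 ((smul_eq_zero.1 h1).resolve_right hz0)
        rw [hd1, one_smul] at hd
        have hy1 : y = 1 := Units.ext hd
        have htx : t * x = x * t := by
          rw [hy, ← mul_assoc, ← mul_assoc, mul_inv_eq_one, mul_inv_eq_iff_eq_mul] at hy1
          exact hy1.symm
        apply hv
        by_cases hv0 : v = 0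
        · simp [hw, hv0]
        obtain ⟨u, hu⟩ := (D.nondegenerate v hv0).1
        have h1 := congrArg (fun g : GL ι F => (g : Matrix ι ι F) *ᵥ u) htx
        simp only [Units.val_mul, ← Matrix.mulVec_mulVec, ht, spTrv_mulVec, Matrix.mulVec_add,
          Matrix.mulVec_smul, add_right_inj] at h1
        rw [Submodule.mem_span_singleton]
        refine ⟨(a * D.form u v)⁻¹ * (a * D.form ((x : Matrix ι ι F) *ᵥ u) v), ?_⟩
        rw [mul_smul, h1, smul_smul, inv_mul_cancel₀ (mul_ne_zero ha hu), one_smul]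
      · rw [hmat, Matrix.trace_sub, Matrix.trace_sub, Matrix.trace_add, Matrix.trace_one,
          Matrix.trace_smul, Matrix.trace_vecMulVec, Matrix.trace_vecMulVec, Matrix.trace_vecMulVec,
          smul_eq_mul, dotProduct_comm w ψ, dotProduct_comm w φ, dotProduct_comm v φ,
          spPhi_self, hψ, hw, ← Matrix.dotProduct_mulVec, ← Matrix.dotProduct_mulVec,
          Matrix.mulVec_mulVec, Units.inv_mul, Matrix.one_mulVec, spPhi_self, hinv, Matrix.smul_mulVec,
          dotProduct_smul, spPhi_dot, ← hs, smul_eq_mul] at htr0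
        rw [← hn] at htr0
        linear_combination htr0
    have h1 := heq 1 one_ne_zero
    rw [one_mul] at h1
    have h3 : (3 : F) = 0 := by
      have h4 := heq 2 h2
      have h5 : n * 3 = 0 := by linear_combination 4 * h1 - h4
      exact (mul_eq_zero.1 h5).resolve_left hn0
    have hp3 : p = 3 := by
      have : ((3 : ℕ) : F) = 0 := by exact_mod_cast h3
      rw [CharP.cast_eq_zero_iff F p] at this
      exact (Nat.prime_dvd_prime_iff_eq hp Nat.prime_three).1 this
    have hs0 : s ≠ 0 := fun h => hn0 (by rw [h1, h, mul_zero])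
    have hpow : ∀ b : F, b ≠ 0 → b * b = 1 := fun b hb => by
      have := FiniteField.pow_card_sub_one_eq_one b hb
      rwa [hcard, hp3, show 3 - 1 = 2 from rfl, sq] at this
    refine ⟨?_, hpow c hc0⟩
    rw [h1, mul_assoc c⁻¹, hpow s hs0, mul_one, mul_inv_cancel₀ hc0]
  -- a noncentral element has square `n`
  have key' : ∀ x ∈ R, (¬ ∃ c : F, (x : Matrix ι ι F) = c • 1) →
      ((x * x : GL ι F) : Matrix ι ι F) = n • 1 := by
    intro x hx hns
    obtain ⟨c, hc⟩ := (Cfsg.Geo.mem_scalars_iff _).1 (hsq x hx)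
    rw [pow_two] at hc
    obtain ⟨v, hv⟩ : ∃ v : ι → F, (x : Matrix ι ι F) *ᵥ v ∉ Submodule.span F {v} := by
      by_contra hall
      push Not at hall
      exact hns (scalar_of_forall_mem_span hall)
    obtain ⟨h1, h3⟩ := key x hx c hc v hv
    rw [hc]
    congr 1
    linear_combination -(c : F) * h1 + n * h3
  have hn2 : n * n = 1 ∧ n ≠ 0 := by
    refine ⟨?_, hn0⟩
    obtain ⟨x, hx, hns⟩ : ∃ x ∈ R, ¬ ∃ c : F, (x : Matrix ι ι F) = c • 1 := by
      by_contra hall
      push Not at hall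
      have hbot : R ≤ Subgroup.center (GL ι F) := fun x hx => by
        obtain ⟨c, hc⟩ := hall x hx
        rw [Subgroup.mem_center_iff]
        intro g
        exact scalars_comm (mem_scalars_of_eq_smul x c hc) g
      have hc : Subgroup.center R = ⊤ := eq_top_iff.2 fun x _ => Subgroup.mem_center_iff.2 fun g =>
        Subtype.ext (Subgroup.mem_center_iff.1 (hbot x.2) g)
      rw [hc, Subgroup.card_top, hR] at hcentre
      have : k = 0 := by
        have := Nat.pow_right_injective le_rfl (hcentre.trans (pow_one 2).symm)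
        omega
      rw [this] at hk
      omega
    obtain ⟨v, hv⟩ : ∃ v : ι → F, (x : Matrix ι ι F) *ᵥ v ∉ Submodule.span F {v} := by
      by_contra hall
      push Not at hall
      exact hns (scalar_of_forall_mem_span hall)
    obtain ⟨h1, h3⟩ := key x hx n (key' x hx hns) v hv
    exact h3
  have hbig : 8 < Nat.card R := by
    rw [hR]
    have hk2 : 2 ≤ k := by
      by_contra h
      have : (2 : ℕ) ^ k ≤ 2 ^ 1 := Nat.pow_le_pow_right (by norm_num) (by omega)
      omega
    calc 8 < 2 ^ 5 := by norm_num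
      _ ≤ 2 ^ (1 + 2 * k) := Nat.pow_le_pow_right (by norm_num) (by omega)
  have hcom : ∀ a ∈ R, ∀ b ∈ R, (b : Matrix ι ι F) * a = (a : Matrix ι ι F) * b ∨
      (b : Matrix ι ι F) * a = -((a : Matrix ι ι F) * b) := by
    intro a ha b hb
    obtain ⟨d, hd⟩ := (Cfsg.Geo.mem_scalars_iff _).1 (hcomm b hb a ha)
    obtain ⟨c, hc⟩ := (Cfsg.Geo.mem_scalars_iff _).1 (hsq a ha)
    rw [pow_two, Units.val_mul] at hc
    have h1 : (b : Matrix ι ι F) * a = (d : F) • ((a : Matrix ι ι F) * b) := by
      rw [← Units.val_mul, show b * a = b * a * b⁻¹ * a⁻¹ * (a * b) by group, Units.val_mul, hd,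
        Matrix.smul_mul, one_mul, Units.val_mul]
    have h3 : (b : Matrix ι ι F) * (a * a) = ((d : F) * d) • ((a : Matrix ι ι F) * a * b) := by
      rw [← mul_assoc, h1, Matrix.smul_mul, mul_assoc, h1, Matrix.mul_smul, smul_smul, ← mul_assoc]
    rw [hc, Matrix.mul_smul, mul_one, Matrix.smul_mul, one_mul, smul_smul] at h3
    have h4 : ((c : F) - d * d * c) • (b : Matrix ι ι F) = 0 := by rw [sub_smul, ← h3, sub_self]
    have h5 : (d : F) * d = 1 := by
      have := (smul_eq_zero.1 h4).resolve_right b.ne_zero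
      have h6 : (1 - (d : F) * d) * c = 0 := by linear_combination this
      linear_combination -((mul_eq_zero.1 h6).resolve_right c.ne_zero)
    rcases mul_self_eq_one_iff.1 h5 with h | h
    · exact Or.inl (by rw [h1, h, one_smul])
    · exact Or.inr (by rw [h1, h, neg_smul, one_smul])
  obtain ⟨x, hx, y, hy, hxy⟩ : ∃ x ∈ R, ∃ y ∈ R, (y : Matrix ι ι F) * x ≠ (x : Matrix ι ι F) * y := by
    by_contra hall
    push Not at hall
    have hc : Subgroup.center R = ⊤ := eq_top_iff.2 fun x _ => Subgroup.mem_center_iff.2 fun g =>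
      Subtype.ext (Units.ext (hall x x.2 g g.2))
    rw [hc, Subgroup.card_top] at hcentre
    omega
  have hxy' : (y : Matrix ι ι F) * x = -((x : Matrix ι ι F) * y) := (hcom x hx y hy).resolve_left hxy
  have hns : ∀ z : Matrix ι ι F, ∀ w : Matrix ι ι F, z * w ≠ w * z → ¬ ∃ c : F, w = c • 1 := by
    rintro z w h ⟨c, rfl⟩
    exact h (by rw [Matrix.mul_smul, mul_one, Matrix.smul_mul, one_mul])
  have hsx := key' x hx (hns _ _ hxy)
  have hsy := key' y hy (hns _ _ (Ne.symm hxy))
  have hsxy := key' (x * y) (mul_mem hx hy) (by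
    rw [Units.val_mul]
    refine hns (x : Matrix ι ι F) _ fun h => hxy ?_
    rw [mul_assoc] at h
    exact (Units.mul_right_inj x).1 h.symm)
  rw [Units.val_mul] at hsx hsy
  have hnn : n = -1 := by
    have h1 : ((x * y * (x * y) : GL ι F) : Matrix ι ι F) = (-(n * n)) • (1 : Matrix ι ι F) := by
      simp only [Units.val_mul]
      rw [mul_assoc, ← mul_assoc (y : Matrix ι ι F), hxy', neg_mul, mul_neg, ← mul_assoc,
        ← mul_assoc, hsx, Matrix.smul_mul, one_mul, Matrix.smul_mul, hsy, smul_smul, neg_smul]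
    rw [hsxy] at h1
    have h3 := congrFun (congrFun h1 (Sum.inl ⟨0, by omega⟩)) (Sum.inl ⟨0, by omega⟩)
    simp only [Matrix.smul_apply, Matrix.one_apply_eq, smul_eq_mul, mul_one] at h3
    rw [h3, hn2.1]
  -- anything commuting with x and y is central
  have hcen : ∀ g ∈ R, (g : Matrix ι ι F) * x = x * g → (g : Matrix ι ι F) * y = y * g →
      ∀ z ∈ R, z * g = g * z := by
    intro g hg h1 h3
    by_cases hgs : ∃ c : F, (g : Matrix ι ι F) = c • 1
    · obtain ⟨c, hc⟩ := hgs
      intro z _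
      exact scalars_comm (mem_scalars_of_eq_smul g c hc) z
    exfalso
    have hsg := key' g hg hgs
    rw [Units.val_mul] at hsg
    by_cases hgx : ∃ c : F, ((g * x : GL ι F) : Matrix ι ι F) = c • 1
    · obtain ⟨c, hc⟩ := hgx
      apply hxy
      rw [Units.val_mul] at hc
      have hg' : (g : Matrix ι ι F) = (c * n⁻¹) • (x : Matrix ι ι F) := by
        calc (g : Matrix ι ι F) = n⁻¹ • ((g : Matrix ι ι F) * ((x : Matrix ι ι F) * x)) := by
              rw [hsx, Matrix.mul_smul, mul_one, smul_smul, inv_mul_cancel₀ hn0, one_smul]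
          _ = (c * n⁻¹) • (x : Matrix ι ι F) := by
              rw [← mul_assoc, hc, Matrix.smul_mul, one_mul, smul_smul, mul_comm]
      have hne : c * n⁻¹ ≠ 0 := fun h => g.ne_zero (by rw [hg', h, zero_smul])
      rw [hg', Matrix.smul_mul, Matrix.mul_smul] at h3
      exact (smul_right_injective _ hne h3).symm
    · have h4 := key' _ (mul_mem hg hx) hgx
      simp only [Units.val_mul] at h4
      rw [mul_assoc, ← mul_assoc (x : Matrix ι ι F), ← h1, mul_assoc (g : Matrix ι ι F), hsx,
        Matrix.mul_smul, mul_one, Matrix.mul_smul, hsg, smul_smul, hn2.1] at h4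
      have h5 := congrFun (congrFun h4 (Sum.inl ⟨0, by omega⟩)) (Sum.inl ⟨0, by omega⟩)
      simp only [Matrix.smul_apply, Matrix.one_apply_eq, smul_eq_mul, mul_one] at h5
      rw [hnn] at h5
      exact h2 (by linear_combination h5)
  let T : Fin 4 → R := ![1, ⟨x, hx⟩, ⟨y, hy⟩, ⟨x, hx⟩ * ⟨y, hy⟩]
  let f : Subgroup.center R × Fin 4 → R := fun a => (a.1 : R) * T a.2
  have hf : Function.Surjective f := by
    intro g
    obtain ⟨i, hi1, hi2⟩ : ∃ i, ((g * (T i)⁻¹ : R) : GL ι F).val * x = x * ((g * (T i)⁻¹ : R) : GL ι F).val ∧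
        ((g * (T i)⁻¹ : R) : GL ι F).val * y = y * ((g * (T i)⁻¹ : R) : GL ι F).val := by
      have hT : ∀ i, (T i : R) * (T i)⁻¹ = 1 := fun i => mul_inv_cancel _
      have hsplit : ∀ i : Fin 4, ((g : GL ι F) : Matrix ι ι F) =
          ((g * (T i)⁻¹ : R) : GL ι F).val * ((T i : R) : GL ι F).val := fun i => by
        rw [← Units.val_mul, ← Subgroup.coe_mul, inv_mul_cancel_right]
      have hflip : ∀ (h e z : GL ι F) (b b' : Bool),
          (e : Matrix ι ι F) * z = (if b then (1 : F) else -1) • ((z : Matrix ι ι F) * e) →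
          ((h * e : GL ι F) : Matrix ι ι F) * z = (if b' then (1 : F) else -1) • ((z : Matrix ι ι F) * (h * e : GL ι F)) →
          b = b' → (h : Matrix ι ι F) * z = z * h := by
        intro h e z b b' he hhe hbb
        subst hbb
        rw [Units.val_mul, mul_assoc, he, Matrix.mul_smul, ← mul_assoc, ← mul_assoc] at hhe
        have hb0 : (if b then (1 : F) else -1) ≠ 0 := by cases b <;> simp
        exact (Units.mul_left_inj e).1 (smul_right_injective _ hb0 hhe)
      obtain ⟨bx, hbx⟩ : ∃ b : Bool, ((g : GL ι F) : Matrix ι ι F) * (x : Matrix ι ι F) =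
          (if b then (1 : F) else -1) • ((x : Matrix ι ι F) * ((g : GL ι F) : Matrix ι ι F)) := by
        rcases hcom x hx g g.2 with h | h
        · exact ⟨true, by simpa using h⟩
        · exact ⟨false, by simpa using h⟩
      obtain ⟨by', hby⟩ : ∃ b : Bool, ((g : GL ι F) : Matrix ι ι F) * (y : Matrix ι ι F) =
          (if b then (1 : F) else -1) • ((y : Matrix ι ι F) * ((g : GL ι F) : Matrix ι ι F)) := by
        rcases hcom y hy g g.2 with h | h
        · exact ⟨true, by simpa using h⟩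
        · exact ⟨false, by simpa using h⟩
      have hyx' : (x : Matrix ι ι F) * y = -((y : Matrix ι ι F) * x) := by rw [hxy', neg_neg]
      have e1 : ((x * y : GL ι F) : Matrix ι ι F) * x = -((x : Matrix ι ι F) * (x * y : GL ι F)) := by
        rw [Units.val_mul, mul_assoc, hxy', mul_neg]
      have e2 : ((x * y : GL ι F) : Matrix ι ι F) * y = -((y : Matrix ι ι F) * (x * y : GL ι F)) := by
        rw [Units.val_mul, ← mul_assoc (y : Matrix ι ι F), hxy', neg_mul, neg_neg]
      refine ⟨if bx then (if by' then 0 else 1) else (if by' then 2 else 3), ?_, ?_⟩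
      · refine hflip _ ((T _ : R) : GL ι F) x bx bx ?_ (by rw [← Subgroup.coe_mul, inv_mul_cancel_right]; exact hbx) rfl
        cases bx <;> cases by'
        · simpa [T] using e1
        · simpa [T] using hxy'
        · simp [T]
        · simp [T]
      · refine hflip _ ((T _ : R) : GL ι F) y by' by' ?_ (by rw [← Subgroup.coe_mul, inv_mul_cancel_right]; exact hby) rfl
        cases bx <;> cases by'
        · simpa [T] using e2
        · simp [T]
        · simpa [T] using hyx'
        · simp [T]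
    refine ⟨(⟨g * (T i)⁻¹, Subgroup.mem_center_iff.2 fun z => Subtype.ext ?_⟩, i),
      inv_mul_cancel_right g (T i)⟩
    exact hcen _ (g * (T i)⁻¹).2 hi1 hi2 z z.2
  have h8 := Nat.card_le_card_of_surjective f hf
  rw [Nat.card_prod, hcentre, Nat.card_fin] at h8
  omega

end Cfsg.Agent.Aschbacher
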