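/-
Numerical conditions on the members of the symplectic classes, and maximal subgroups as intersections.
-/
import Mathlib
import Cfsg.Agent.Aschbacher.Sp.Main
import Cfsg.Agent.Aschbacher.Sp.Lists.Proper
import Cfsg.Agent.Lib.Forms.Bases

set_option autoImplicit false
set_option linter.style.haveILetI false

namespace Cfsg.Agent.Aschbacher

open Matrix
open Cfsg.Geo

variable {F : Type*} [Field F] {m : ℕ}

local notation "ι" => Fin m ⊕ Fin m

/-- A non-degenerate subspace has even dimension. -/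
lemma even_finrank_of_nondegOn {W : Submodule F (ι → F)}
    (h : IsNondegenerateOn (Cfsg.sympForm m F) W) : ∃ k, Module.finrank F W = 2 * k := by
  refine Forms.Bases.even_finrank_of_alt (LinearMap.BilinForm.restrict (Forms.SympStd.sympB m F) W)
    (fun w => ?_) ⟨fun w hw => ?_, fun w hw => ?_⟩
  · show Forms.SympStd.sympB m F w w = 0
    rw [Forms.SympStd.sympB_apply, Forms.SympStd.sympForm_self]
  · by_contra h0
    obtain ⟨x, hx, hne⟩ := (h w w.2 fun h' => h0 (Subtype.ext h')).2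
    apply hne
    rw [← Forms.SympStd.sympB_apply]
    exact hw ⟨x, hx⟩
  · by_contra h0
    obtain ⟨x, hx, hne⟩ := (h w w.2 fun h' => h0 (Subtype.ext h')).1
    apply hne
    rw [← Forms.SympStd.sympB_apply]
    exact hw ⟨x, hx⟩

lemma decomposition_card {t k : ℕ} {D : Fin t → Submodule F (ι → F)} (hD : IsMDecomposition k D) :
    t * k = 2 * m := by
  classical
  have hI : DirectSum.IsInternal D :=
    (DirectSum.isInternal_submodule_iff_iSupIndep_and_iSup_eq_top D).2 ⟨hD.indep, hD.iSup_eq_top⟩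
  have h := Module.finrank_eq_card_basis (hI.collectedBasis fun i => Module.finBasis F (D i))
  rw [Forms.SympStd.finrank_vec, Fintype.card_sigma] at h
  simp only [Fintype.card_fin, hD.finrank_eq, Finset.sum_const, Finset.card_univ, smul_eq_mul] at h
  exact h.symm

lemma nondegDecomposition_even {t k : ℕ} {D : Fin t → Submodule F (ι → F)}
    (hD : IsNondegenerateMDecomposition (Cfsg.sympForm m F) k D) :
    2 ≤ t ∧ 2 ≤ k ∧ t * k = 2 * m ∧ ∃ j, k = 2 * j := by
  have ht := hD.decomp.two_le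
  obtain ⟨j, hj⟩ := even_finrank_of_nondegOn (hD.nondegenerate ⟨0, by omega⟩)
  rw [hD.decomp.finrank_eq] at hj
  have := hD.decomp.pos
  exact ⟨ht, by omega, decomposition_card hD.decomp, j, hj⟩

lemma two_le_of_isSymplecticForm {n : ℕ} (hn : 0 < n) {f : (Fin n → F) → (Fin n → F) → F}
    (hf : IsSymplecticForm f) : 2 ≤ n := by
  by_contra h
  obtain rfl : n = 1 := by omega
  set e : Fin 1 → F := fun _ => 1 with he
  have he0 : e ≠ 0 := fun h => one_ne_zero (α := F) (congrFun h 0)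
  obtain ⟨x, hx⟩ := (hf.nondegenerate e he0).1
  apply hx
  have hxe : x = x 0 • e := funext fun i => by simp [he, Subsingleton.elim i 0]
  rw [hxe, hf.bilinear.smul_left, hf.alternating, mul_zero]

lemma tensor_numerics (hm : 1 ≤ m) {n₁ n₂ : ℕ} (e : ι ≃ Fin n₁ × Fin n₂)
    {f₁ : (Fin n₁ → F) → (Fin n₁ → F) → F} (hf : IsSymplecticForm f₁) :
    2 ≤ n₁ ∧ n₁ * n₂ = 2 * m ∧ ∃ j, n₁ = 2 * j := by
  have hcard : n₁ * n₂ = 2 * m := by
    have h := Fintype.card_congr e
    rw [Fintype.card_sum, Fintype.card_prod, Fintype.card_fin, Fintype.card_fin, Fintype.card_fin] at h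
    omega
  have hn : 0 < n₁ := Nat.pos_of_ne_zero fun h => by rw [h, zero_mul] at hcard; omega
  refine ⟨two_le_of_isSymplecticForm hn hf, hcard, ?_⟩
  let B : LinearMap.BilinForm F (Fin n₁ → F) :=
    LinearMap.mk₂ F f₁ hf.bilinear.add_left hf.bilinear.smul_left hf.bilinear.add_right
      fun c v x => hf.bilinear.smul_right c v x
  obtain ⟨j, hj⟩ := Forms.Bases.even_finrank_of_alt B hf.alternating
    ⟨fun w hw => by
      by_contra h0
      obtain ⟨x, hx⟩ := (hf.nondegenerate w h0).2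
      exact hx (hw x), fun w hw => by
      by_contra h0
      obtain ⟨x, hx⟩ := (hf.nondegenerate w h0).1
      exact hx (hw x)⟩
  rw [Module.finrank_fintype_fun_eq_card, Fintype.card_fin] at hj
  exact ⟨j, hj⟩

lemma power_numerics (hm : 1 ≤ m) {k t : ℕ} (ht : 3 ≤ t) (e : ι ≃ (Fin t → Fin k))
    {f₁ : (Fin k → F) → (Fin k → F) → F} (hf : IsSymplecticForm f₁) :
    2 ≤ k ∧ k ^ t = 2 * m := by
  have hcard : k ^ t = 2 * m := by
    have h := Fintype.card_congr e
    rw [Fintype.card_sum, Fintype.card_fun, Fintype.card_fin, Fintype.card_fin, Fintype.card_fin] at h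
    omega
  have hk : 0 < k := Nat.pos_of_ne_zero fun h => by rw [h, zero_pow (by omega)] at hcard; omega
  exact ⟨two_le_of_isSymplecticForm hk hf, hcard⟩

/-- A field of self-adjoint matrices with `f(kv, v) = 0` has degree dividing `m`. -/
theorem dvd_of_selfAdjoint_field [Fintype F] (hm : 1 ≤ m) {r : ℕ} {K : Subalgebra F (Matrix ι ι F)}
    (hK : IsFieldSubalgebra r K) (hsa : IsSelfAdjointFor (Cfsg.sympForm m F) K)
    (hkv : ∀ k ∈ K, ∀ v, Cfsg.sympForm m F (k *ᵥ v) v = 0) : r ∣ m := by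
  classical
  haveI : Nonempty ι := ⟨Sum.inl ⟨0, hm⟩⟩
  set D := sympData m F with hD
  set S : Set (Submodule F (ι → F)) :=
    {W | IsTotallySingularFor D.form W ∧ ∀ k ∈ K, ∀ w ∈ W, k *ᵥ w ∈ W} with hS
  obtain ⟨W, hWS, hmax⟩ := (Set.toFinite S).exists_maximal ⟨⊥, fun u hu v _ => by
    rw [(Submodule.mem_bot F).1 hu, FormData.form_zero_left], fun k _ w hw => by
    rw [(Submodule.mem_bot F).1 hw, Matrix.mulVec_zero]; exact Submodule.zero_mem _⟩
  obtain ⟨hts, hinv⟩ := hWS
  have hperp : D.perp W = W := by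
    refine le_antisymm (fun v hv => ?_) fun v hv w hw => hts w hw v hv
    let φ : K →ₗ[F] (ι → F) :=
      { toFun := fun k => (k : Matrix ι ι F) *ᵥ v
        map_add' := fun a b => Matrix.add_mulVec _ _ _
        map_smul' := fun c a => Matrix.smul_mulVec _ _ _ }
    have hS' : W ⊔ LinearMap.range φ ∈ S := by
      refine ⟨fun a ha b hb => ?_, fun k hk a ha => ?_⟩
      · obtain ⟨w, hw, _, ⟨k, rfl⟩, rfl⟩ := Submodule.mem_sup.1 ha
        obtain ⟨w', hw', _, ⟨l, rfl⟩, rfl⟩ := Submodule.mem_sup.1 hb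
        have h1 : ∀ w ∈ W, ∀ l : K, D.form w ((l : Matrix ι ι F) *ᵥ v) = 0 := fun w hw l => by
          exact ((hsa l l.2 w v).symm).trans (hv _ (hinv l l.2 w hw))
        show D.form (w + (k : Matrix ι ι F) *ᵥ v) (w' + (l : Matrix ι ι F) *ᵥ v) = 0
        rw [D.form_add_left, D.form_add_right, D.form_add_right, hts w hw w' hw', h1 w hw l,
          D.form_eq_zero_comm (h1 w' hw' k)]
        have h3 : D.form ((k : Matrix ι ι F) *ᵥ v) ((l : Matrix ι ι F) *ᵥ v) = 0 := by
          refine ((hsa l l.2 _ v).symm).trans ?_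
          rw [Matrix.mulVec_mulVec]
          exact hkv _ (mul_mem l.2 k.2) v
        rw [h3]; simp
      · obtain ⟨w, hw, _, ⟨l, rfl⟩, rfl⟩ := Submodule.mem_sup.1 ha
        rw [Matrix.mulVec_add]
        refine add_mem (Submodule.mem_sup_left (hinv k hk w hw))
          (Submodule.mem_sup_right ⟨⟨k, hk⟩ * l, ?_⟩)
        show (k * (l : Matrix ι ι F)) *ᵥ v = k *ᵥ ((l : Matrix ι ι F) *ᵥ v)
        rw [Matrix.mulVec_mulVec]
    exact hmax hS' le_sup_left (Submodule.mem_sup_right ⟨1, Matrix.one_mulVec v⟩)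
  have h1 := D.finrank_perp W
  rw [hperp, Fintype.card_sum, Fintype.card_fin] at h1
  have hF : IsField K :=
    { exists_pair_ne := ⟨0, 1, zero_ne_one⟩
      mul_comm := fun a b => Subtype.ext (hK.comm a a.2 b b.2)
      mul_inv_cancel := fun {a} ha => by
        obtain ⟨y, hy, h⟩ := hK.inv a a.2 fun h => ha (Subtype.ext h)
        exact ⟨⟨y, hy⟩, Subtype.ext h⟩ }
  letI : Field K := hF.toField
  letI : Module K W :=
    { smul := fun k w => ⟨(k : Matrix ι ι F) *ᵥ (w : ι → F), hinv k k.2 w w.2⟩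
      one_smul := fun w => Subtype.ext (by show ((1 : K) : Matrix ι ι F) *ᵥ (w : ι → F) = (w : ι → F); rw [OneMemClass.coe_one, Matrix.one_mulVec])
      mul_smul := fun a b w => Subtype.ext (by
        show ((a * b : K) : Matrix ι ι F) *ᵥ (w : ι → F) = (a : Matrix ι ι F) *ᵥ ((b : Matrix ι ι F) *ᵥ (w : ι → F))
        rw [Matrix.mulVec_mulVec]; rfl)
      smul_zero := fun a => Subtype.ext (by show (a : Matrix ι ι F) *ᵥ (0 : ι → F) = 0; rw [Matrix.mulVec_zero])
      smul_add := fun a x y => Subtype.ext (by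
        show (a : Matrix ι ι F) *ᵥ ((x : ι → F) + (y : ι → F)) = (a : Matrix ι ι F) *ᵥ (x : ι → F) + (a : Matrix ι ι F) *ᵥ (y : ι → F)
        rw [Matrix.mulVec_add])
      add_smul := fun a b x => Subtype.ext (by
        show ((a + b : K) : Matrix ι ι F) *ᵥ (x : ι → F) = (a : Matrix ι ι F) *ᵥ (x : ι → F) + (b : Matrix ι ι F) *ᵥ (x : ι → F)
        rw [AddMemClass.coe_add, Matrix.add_mulVec])
      zero_smul := fun x => Subtype.ext (by show ((0 : K) : Matrix ι ι F) *ᵥ (x : ι → F) = 0; rw [ZeroMemClass.coe_zero, Matrix.zero_mulVec]) }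
  haveI : IsScalarTower F K W := ⟨fun c k w => Subtype.ext (by
    show (c • (k : Matrix ι ι F)) *ᵥ (w : ι → F) = c • ((k : Matrix ι ι F) *ᵥ (w : ι → F))
    rw [Matrix.smul_mulVec])⟩
  have h2 := Module.finrank_mul_finrank F K W
  rw [hK.finrank_eq] at h2
  exact ⟨Module.finrank K W, by omega⟩

variable [Fintype F]

theorem IsSpMember.not_spGL_le (hm : 2 ≤ m) {M : Subgroup (GL ι F)} (h : IsSpMember m F M) :
    ¬ Cfsg.spGL m F ≤ M := by
  unfold IsSpMember at h
  rcases h with ⟨W, h1, h2, rfl⟩ | ⟨W, h1, h2, h3, rfl⟩ | ⟨t, k, D, h1, rfl⟩ | ⟨D, h1, h2, h3, rfl⟩ |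
    ⟨F₀, r, P, ζ, h1, h2, h3, h4, rfl⟩ |
    ⟨R, p, k, h1, h2, h3, h4, h5, h6, h7, h8, h9, h10, h11, h12, rfl⟩ |
    ⟨Q, h1, h2, h3, rfl⟩ | ⟨r, K, h1, h2, h3, h4, rfl⟩ | ⟨K, h1, h2, h3, h4, rfl⟩ |
    ⟨n₁, n₂, e, P, f₁, f₂, h1, h2, h3, h4, h5, rfl⟩ | ⟨k, t, e, P, f₁, h1, h2, h3, h4, h5, h6, rfl⟩
  · refine not_spGL_le_subspace h1 ?_
    rintro rfl
    obtain ⟨v, hv⟩ : ∃ v : ι → F, v ≠ 0 := ⟨Pi.single (Sum.inl ⟨0, by omega⟩) 1, fun h =>
      one_ne_zero (α := F) (by simpa using congrFun h (Sum.inl ⟨0, by omega⟩))⟩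
    obtain ⟨x, hx⟩ := exists_form_ne_zero hv
    exact hx (h2 v trivial x trivial)
  · refine not_spGL_le_subspace h1 ?_
    rintro rfl
    rw [finrank_top, Forms.SympStd.finrank_vec] at h3
    omega
  · exact not_spGL_le_decomposition h1.decomp (nondegDecomposition_even h1).2.1
  · exact not_spGL_le_decomposition h2 hm
  · exact not_spGL_le_subfield (by omega) h1 h2 P
  · exact not_spGL_le_normalizer hm h2 h4 h5 h6 h7 h8 h10 h11 h12
  · exact not_spGL_le_quad (not_not.1 fun h => h1 (odd_card_iff.2 h)) hm h2.smul h3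
  · exact not_spGL_le_field hm h1 h2
  · exact not_spGL_le_field hm Nat.prime_two h2
  · exact not_spGL_le_tensor (tensor_numerics (by omega) e h3).1 (by omega) e P
  · exact not_spGL_le_wreath (power_numerics (by omega) h3 e h5).1 h3 e P

/-- A member containing a maximal subgroup of Sp cuts it out. -/
theorem eq_inf_of_le_spMember (hm : 2 ≤ m) {H M : Subgroup (GL ι F)}
    (hH : IsMaximalIn (Cfsg.spGL m F) H) (hM : IsSpMember m F M) (hle : H ≤ M) :
    H = M ⊓ Cfsg.spGL m F := by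
  rcases hH.2 (M ⊓ Cfsg.spGL m F) (le_inf hle hH.1.le) inf_le_right with h | h
  · exact h.symm
  · exact absurd (inf_eq_right.1 h) (hM.not_spGL_le hm)

/-- A maximal subgroup of Sp is residual or contained in a member. -/
theorem residual_or_le_spMember (hm : 1 ≤ m) {H : Subgroup (GL ι F)}
    (hH : IsMaximalIn (Cfsg.spGL m F) H) :
    InSymplecticResidualClass H ∨ ∃ M, IsSpMember m F M ∧ H ≤ M :=
  (symplectic_class_or_residual hm hH.1.le).symm

end Cfsg.Agent.Aschbacher
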