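/-
Over the field of two elements a decomposition into non-degenerate planes fixes a quadratic form.
-/
import Mathlib
import Cfsg.Agent.Aschbacher.Sp.Lists.Members
import Cfsg.Agent.Aschbacher.Lists.TensorF2

set_option autoImplicit false
set_option linter.style.haveILetI false

namespace Cfsg.Agent.Aschbacher

open Matrix
open Cfsg.Geo

variable {F : Type*} [Field F] {m : ℕ}

local notation "ι" => Fin m ⊕ Fin m

theorem exists_quad_of_planes [Fintype F] (hm : 1 ≤ m) (hq : Fintype.card F = 2) {t : ℕ}
    {E : Fin t → Submodule F (ι → F)}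
    (hE : IsNondegenerateMDecomposition (Cfsg.sympForm m F) 2 E) :
    ∃ Q : (ι → F) → F, IsPolarised (sympData m F) Q ∧
      decompositionStabilizer E ≤ quadSimilarityGroup Q := by
  classical
  set D := sympData m F with hD
  have hI : DirectSum.IsInternal E :=
    DirectSum.isInternal_submodule_of_iSupIndep_of_iSup_eq_top hE.decomp.indep hE.decomp.iSup_eq_top
  let coe := LinearEquiv.ofBijective (DirectSum.coeLinearMap E) hI
  let comp : (ι → F) → Fin t → (ι → F) := fun v i => ((coe.symm v) i : ι → F)
  have hmem : ∀ v i, comp v i ∈ E i := fun v i => ((coe.symm v) i).2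
  have hadd : ∀ u v i, comp (u + v) i = comp u i + comp v i := fun u v i => by
    simp [comp, map_add]
  have hsum : ∀ v, ∑ i, comp v i = v := fun v => by
    have h := coe.apply_symm_apply v
    change DirectSum.coeLinearMap E (coe.symm v) = v at h
    rw [← DirectSum.sum_univ_of (coe.symm v), map_sum] at h
    simpa only [DirectSum.coeLinearMap_of] using h
  have huniq : ∀ (w : Fin t → (ι → F)) (hw : ∀ i, w i ∈ E i) i, comp (∑ j, w j) i = w i := by
    intro w hw i
    have h : coe.symm (∑ j, w j) = ∑ j, DirectSum.of (fun i => E i) j ⟨w j, hw j⟩ := by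
      rw [LinearEquiv.symm_apply_eq, map_sum]
      refine Finset.sum_congr rfl fun j _ => ?_
      show w j = DirectSum.coeLinearMap E _
      rw [DirectSum.coeLinearMap_of]
    show ((coe.symm _) i : ι → F) = _
    rw [h, DFinsupp.finset_sum_apply, AddSubmonoidClass.coe_finset_sum, Finset.sum_eq_single i]
    · rw [DirectSum.of_eq_same]
    · intro j _ hj
      rw [DirectSum.of_eq_of_ne _ _ _ (Ne.symm hj)]
      rfl
    · simp
  have hval : ∀ a : F, a = 0 ∨ a = 1 := forall_two_values hq
  have h11 : (1 : F) + 1 = 0 := two_eq_zero_of_card hq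
  let χ : (ι → F) → F := fun x => if x = 0 then 0 else 1
  have hplane : ∀ i, ∀ x ∈ E i, ∀ y ∈ E i, x ≠ 0 → y ≠ 0 → x ≠ y → D.form x y = 1 := by
    intro i x hx y hy hx0 hy0 hxy
    rcases hval (D.form x y) with h | h
    swap
    · exact h
    exfalso
    have hli : LinearIndependent F ![x, y] := by
      rw [LinearIndependent.pair_iff]
      intro a b hab
      rcases hval a with rfl | rfl <;> rcases hval b with rfl | rfl
      · exact ⟨rfl, rfl⟩
      · simp [hy0] at hab
      · simp [hx0] at hab
      · exfalso
        rw [one_smul, one_smul] at hab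
        apply hxy
        rw [eq_neg_of_add_eq_zero_left hab, ← neg_one_smul F, ← eq_neg_of_add_eq_zero_left h11, one_smul]
    have hle : Submodule.span F (Set.range ![x, y]) ≤ E i := by
      rw [Submodule.span_le]
      rintro _ ⟨j, rfl⟩
      fin_cases j
      · exact hx
      · exact hy
    have heq : Submodule.span F (Set.range ![x, y]) = E i :=
      Submodule.eq_of_le_of_finrank_le hle (by
        rw [hE.decomp.finrank_eq, finrank_span_eq_card hli, Fintype.card_fin])
    obtain ⟨z, hz, hzx⟩ := (hE.nondegenerate i x hx hx0).2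
    apply hzx
    clear hzx
    rw [← heq] at hz
    induction hz using Submodule.span_induction with
    | mem w hw =>
      obtain ⟨j, rfl⟩ := hw
      fin_cases j
      · exact sympData_self x
      · exact h
    | zero => exact D.form_zero_right x
    | add a b _ _ ha hb =>
      show D.form x (a + b) = 0
      rw [D.form_add_right, show D.form x a = 0 from ha, show D.form x b = 0 from hb, add_zero]
    | smul c a _ ha =>
      show D.form x (c • a) = 0
      rw [D.form_smul_right, show D.form x a = 0 from ha, mul_zero]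
  have hchi : ∀ i, ∀ x ∈ E i, ∀ y ∈ E i, χ (x + y) - χ x - χ y = D.form x y := by
    intro i x hx y hy
    by_cases hx0 : x = 0
    · simp [χ, hx0, D.form_zero_left]
    by_cases hy0 : y = 0
    · simp [χ, hy0, D.form_zero_right]
    by_cases hxy : x = y
    · subst hxy
      have : x + x = 0 := by rw [← one_smul F x, ← add_smul, h11, zero_smul]
      rw [show D.form x x = 0 from sympData_self x]
      simp only [χ, this, if_true, if_neg hx0]
      linear_combination -h11
    · rw [hplane i x hx y hy hx0 hy0 hxy]
      have : x + y ≠ 0 := fun h => hxy (by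
        rw [eq_neg_of_add_eq_zero_left h, ← neg_one_smul F, ← eq_neg_of_add_eq_zero_left h11, one_smul])
      simp only [χ, if_neg this, if_neg hx0, if_neg hy0]
      linear_combination -h11
  let Q : (ι → F) → F := fun v => ∑ i, χ (comp v i)
  have hzero : ∀ i, comp 0 i = 0 := fun i => by simp [comp]
  refine ⟨Q, D.isPolarised sympData_τ (fun c v => ?_) (fun u v => ?_), ?_⟩
  · rcases hval c with rfl | rfl
    · simp [Q, χ, hzero]
    · rw [one_smul]; ring
  · simp only [QuadraticMap.polar, Q, ← Finset.sum_sub_distrib, hadd]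
    rw [Finset.sum_congr rfl fun i _ => hchi i _ (hmem u i) _ (hmem v i)]
    let B : LinearMap.BilinForm F (ι → F) := Forms.SympStd.sympB m F
    have hB : ∀ a b, B a b = D.form a b := Forms.SympStd.sympB_apply
    conv_rhs => rw [← hsum u, ← hsum v, ← hB]; simp only [map_sum, LinearMap.sum_apply]
    rw [Finset.sum_comm]
    refine Finset.sum_congr rfl fun i _ => ?_
    rw [Finset.sum_eq_single i (fun j _ hj => ?_) (fun h => absurd (Finset.mem_univ i) h), hB]
    rw [hB]
    exact hE.orthogonal i j (Ne.symm hj) _ (hmem u i) _ (hmem v j)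
  · rintro g ⟨σ, hσ⟩
    refine ⟨1, fun v => ?_⟩
    rw [Units.val_one, one_mul]
    have hc : ∀ i, comp ((g : Matrix ι ι F) *ᵥ v) (σ i) = (g : Matrix ι ι F) *ᵥ comp v i := by
      intro i
      have h1 : (g : Matrix ι ι F) *ᵥ v = ∑ j, (g : Matrix ι ι F) *ᵥ comp v (σ.symm j) := by
        conv_lhs => rw [← hsum v, Matrix.mulVec_sum]
        exact (Equiv.sum_comp σ.symm (fun j => (g : Matrix ι ι F) *ᵥ comp v j)).symm
      rw [h1, huniq _ (fun j => ?_), Equiv.symm_apply_apply]
      have h3 := hσ (σ.symm j)
      rw [Equiv.apply_symm_apply] at h3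
      rw [← h3]
      exact ⟨_, hmem v _, Matrix.toLin'_apply _ _⟩
    show ∑ i, χ (comp _ i) = ∑ i, χ (comp v i)
    rw [← Equiv.sum_comp σ]
    refine Finset.sum_congr rfl fun i _ => ?_
    rw [hc]
    have hinj : (g : Matrix ι ι F) *ᵥ comp v i = 0 ↔ comp v i = 0 := by
      refine ⟨fun h => ?_, fun h => by rw [h, Matrix.mulVec_zero]⟩
      have := congrArg (fun z => ((g⁻¹ : GL ι F) : Matrix ι ι F) *ᵥ z) h
      simpa [Matrix.mulVec_mulVec] using this
    simp only [χ, hinj]

end Cfsg.Agent.Aschbacher
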