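/-
Maximal subgroups of Sp_2m(q): the possible geometric members with their numerical conditions.
-/
import Mathlib
import Cfsg.Agent.Aschbacher.Sp.Lists.PairsF2

set_option autoImplicit false
set_option linter.style.haveILetI false

namespace Cfsg.Agent.Aschbacher

open Cfsg.Geo

variable {F : Type*} [Field F] [Fintype F] {m : ℕ}

local notation "ι" => Fin m ⊕ Fin m

/-- The geometric types of maximal subgroups of Sp_2m(q), before the special exclusions. -/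
def IsSpListed (m : ℕ) (F : Type*) [Field F] [Fintype F] (H : Subgroup (GL (Fin m ⊕ Fin m) F)) : Prop :=
  let f := Cfsg.sympForm m F
  let I := Cfsg.spGL m F
  (∃ W : Submodule F (Fin m ⊕ Fin m → F), W ≠ ⊥ ∧ IsTotallySingularFor f W ∧ H = subspaceStabilizer W ⊓ I) ∨
  (∃ W : Submodule F (Fin m ⊕ Fin m → F), W ≠ ⊥ ∧ IsNondegenerateOn f W ∧ Module.finrank F W < m ∧
      (∃ j, Module.finrank F W = 2 * j) ∧ H = subspaceStabilizer W ⊓ I) ∨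
  (∃ (t k : ℕ) (D : Fin t → Submodule F (Fin m ⊕ Fin m → F)), IsNondegenerateMDecomposition f k D ∧
      2 ≤ t ∧ 2 ≤ k ∧ t * k = 2 * m ∧ (∃ j, k = 2 * j) ∧ (k = 2 → 3 ≤ Fintype.card F) ∧
      H = decompositionStabilizer D ⊓ I) ∨
  (∃ (D : Fin 2 → Submodule F (Fin m ⊕ Fin m → F)), Odd (Fintype.card F) ∧ IsMDecomposition m D ∧
      (∀ i, IsTotallySingularFor f (D i)) ∧ H = decompositionStabilizer D ⊓ I) ∨
  (∃ (F₀ : Subfield F) (r : ℕ) (P : GL (Fin m ⊕ Fin m) F) (ζ : F), r.Prime ∧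
      Fintype.card F = Nat.card F₀ ^ r ∧ ζ ≠ 0 ∧ IsFormRationalStructure f F₀ ζ P ∧
      H = subfieldSubgroup F₀ P ⊓ I) ∨
  (∃ (R : Subgroup (GL (Fin m ⊕ Fin m) F)) (p k : ℕ), IsSymplecticTypeGroup 2 R ∧
      ActsAbsolutelyIrreducibly (matrixSet R) ∧ R ≤ similarityGroup f ∧ p.Prime ∧ Odd p ∧
      Fintype.card F = p ∧ Nat.card R = 2 ^ (1 + 2 * k) ∧ Nat.card (Subgroup.center R) = 2 ∧
      IsOfMinusType k R ∧ 2 * m = 2 ^ k ∧ H = subgroupNormalizer R ⊓ I) ∨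
  (∃ Q : (Fin m ⊕ Fin m → F) → F, ¬ Odd (Fintype.card F) ∧ IsNondegenerateQuadraticForm Q ∧
      (∀ u v, QuadraticMap.polar Q u v = f u v) ∧ H = quadSimilarityGroup Q ⊓ I) ∨
  (∃ (r : ℕ) (K : Subalgebra F (Matrix (Fin m ⊕ Fin m) (Fin m ⊕ Fin m) F)), r.Prime ∧ r ∣ m ∧
      IsFieldSubalgebra r K ∧ IsSelfAdjointFor f K ∧ (∀ k ∈ K, ∀ v, f (Matrix.mulVec k v) v = 0) ∧
      H = subalgebraNormalizer K ⊓ I) ∨
  (∃ K : Subalgebra F (Matrix (Fin m ⊕ Fin m) (Fin m ⊕ Fin m) F), Odd (Fintype.card F) ∧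
      IsFieldSubalgebra 2 K ∧ IsAdjointClosedFor f K ∧ ¬ IsSelfAdjointFor f K ∧
      H = subalgebraNormalizer K ⊓ I) ∨
  (∃ (n₁ n₂ : ℕ) (e : (Fin m ⊕ Fin m) ≃ Fin n₁ × Fin n₂) (P : GL (Fin m ⊕ Fin m) F)
      (f₁ : (Fin n₁ → F) → (Fin n₁ → F) → F) (f₂ : (Fin n₂ → F) → (Fin n₂ → F) → F),
      Odd (Fintype.card F) ∧ 3 ≤ n₂ ∧ 2 ≤ n₁ ∧ n₁ * n₂ = 2 * m ∧ (∃ j, n₁ = 2 * j) ∧
      IsSymplecticForm f₁ ∧ IsSymmetricForm f₂ ∧
      IsTensorFormStructure id f f₁ f₂ e P ∧ H = tensorProductSubgroup n₁ n₂ e P ⊓ I) ∨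
  (∃ (k t : ℕ) (e : (Fin m ⊕ Fin m) ≃ (Fin t → Fin k)) (P : GL (Fin m ⊕ Fin m) F)
      (f₁ : (Fin k → F) → (Fin k → F) → F),
      Odd (Fintype.card F) ∧ 3 ≤ t ∧ 2 ≤ k ∧ k ^ t = 2 * m ∧ ¬ (Fintype.card F = 3 ∧ k = 2) ∧
      IsSymplecticForm f₁ ∧
      IsTensorPowerFormStructure id f f₁ e P ∧ H = tensorWreathSubgroup k t e P ⊓ I)

/-- A maximal subgroup of Sp is residual or of one of the geometric types. -/
theorem spListed_or_residual (hm : 2 ≤ m) {H : Subgroup (GL ι F)}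
    (hH : IsMaximalIn (Cfsg.spGL m F) H) :
    IsSpListed m F H ∨ InSymplecticResidualClass H := by
  rcases residual_or_le_spMember (by omega) hH with h | ⟨M, hM, hle⟩
  · exact Or.inr h
  refine Or.inl ?_
  have heq := eq_inf_of_le_spMember hm hH hM hle
  unfold IsSpMember at hM
  rcases hM with ⟨W, h1, h2, rfl⟩ | ⟨W, h1, h2, h3, rfl⟩ | ⟨t, k, D, h1, rfl⟩ | ⟨D, h1, h2, h3, rfl⟩ |
    ⟨F₀, r, P, ζ, h1, h2, h3, h4, rfl⟩ |
    ⟨R, p, k, h1, h2, h3, h4, h5, h6, h7, h8, h9, h10, -, -, rfl⟩ |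
    ⟨Q, h1, h2, h3, rfl⟩ | ⟨r, K, h1, h2, h3, h4, rfl⟩ | ⟨K, h1, h2, h3, h4, rfl⟩ |
    ⟨n₁, n₂, e, P, f₁, f₂, h1, h2, h3, h4, h5, rfl⟩ | ⟨k, t, e, P, f₁, h1, h2, h3, h4, h5, h6, rfl⟩
  · exact Or.inl ⟨W, h1, h2, heq⟩
  · exact Or.inr (Or.inl ⟨W, h1, h2, h3, even_finrank_of_nondegOn h2, heq⟩)
  · obtain ⟨ht, hk, hc, hj⟩ := nondegDecomposition_even h1
    by_cases hsmall : k = 2 ∧ Fintype.card F < 3
    · obtain ⟨rfl, hq⟩ := hsmall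
      have hq2 : Fintype.card F = 2 := by
        have := Fintype.one_lt_card (α := F)
        omega
      obtain ⟨Q, hQ, hQle⟩ := exists_quad_of_planes (by omega) hq2 h1
      have hodd : ¬ Odd (Fintype.card F) := by rw [hq2]; decide
      refine Or.inr (Or.inr (Or.inr (Or.inr (Or.inr (Or.inr (Or.inl ⟨Q, hodd, hQ.1, hQ.2, ?_⟩))))))
      exact eq_inf_of_le_spMember hm hH
        (Or.inr (Or.inr (Or.inr (Or.inr (Or.inr (Or.inr (Or.inl ⟨Q, hodd, hQ.1, hQ.2, rfl⟩)))))))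
        (hle.trans hQle)
    · exact Or.inr (Or.inr (Or.inl ⟨t, k, D, h1, ht, hk, hc, hj, fun h => by
        by_contra hlt
        exact hsmall ⟨h, by omega⟩, heq⟩))
  · exact Or.inr (Or.inr (Or.inr (Or.inl ⟨D, h1, h2, h3, heq⟩)))
  · exact Or.inr (Or.inr (Or.inr (Or.inr (Or.inl ⟨F₀, r, P, ζ, h1, h2, h3, h4, heq⟩))))
  · exact Or.inr (Or.inr (Or.inr (Or.inr (Or.inr (Or.inl
      ⟨R, p, k, h1, h2, h3, h4, h5, h6, h7, h8, h9, h10, heq⟩)))))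
  · exact Or.inr (Or.inr (Or.inr (Or.inr (Or.inr (Or.inr (Or.inl ⟨Q, h1, h2, h3, heq⟩))))))
  · exact Or.inr (Or.inr (Or.inr (Or.inr (Or.inr (Or.inr (Or.inr (Or.inl
      ⟨r, K, h1, dvd_of_selfAdjoint_field (by omega) h2 h3 h4, h2, h3, h4, heq⟩)))))))
  · exact Or.inr (Or.inr (Or.inr (Or.inr (Or.inr (Or.inr (Or.inr (Or.inr (Or.inl
      ⟨K, h1, h2, h3, h4, heq⟩))))))))
  · obtain ⟨hn, hc, hj⟩ := tensor_numerics (by omega) e h3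
    exact Or.inr (Or.inr (Or.inr (Or.inr (Or.inr (Or.inr (Or.inr (Or.inr (Or.inr (Or.inl
      ⟨n₁, n₂, e, P, f₁, f₂, h1, h2, hn, hc, hj, h3, h4, h5, heq⟩)))))))))
  · obtain ⟨hk, hc⟩ := power_numerics (by omega) h3 e h5
    exact Or.inr (Or.inr (Or.inr (Or.inr (Or.inr (Or.inr (Or.inr (Or.inr (Or.inr (Or.inr
      ⟨k, t, e, P, f₁, h1, h3, hk, hc, h4, h5, h6, heq⟩)))))))))

end Cfsg.Agent.Aschbacher
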