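/-
The members that vanish over three elements.
-/
import Mathlib
import Cfsg.Agent.Aschbacher.Sp.Lists.Main
import Cfsg.Agent.Aschbacher.Sp.Lists.TensorF3

set_option autoImplicit false
set_option linter.style.haveILetI false

namespace Cfsg.Agent.Aschbacher

open Cfsg.Geo

variable {F : Type*} [Field F] [Fintype F] {m : ℕ}

local notation "ι" => Fin m ⊕ Fin m

/-- Over three elements the tensor type with a three-dimensional factor is a decomposition type. -/
theorem eq_decomposition_of_tensor_three (hm : 2 ≤ m) (hq : Fintype.card F = 3) {n : ℕ}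
    {e : ι ≃ Fin n × Fin 3} {P : GL ι F}
    {f₁ : (Fin n → F) → (Fin n → F) → F} {f₂ : (Fin 3 → F) → (Fin 3 → F) → F}
    (h1 : IsSymplecticForm f₁) (h2 : IsSymmetricForm f₂)
    (hs : IsTensorFormStructure id (Cfsg.sympForm m F) f₁ f₂ e P) {H : Subgroup (GL ι F)}
    (hH : IsMaximalIn (Cfsg.spGL m F) H) (he : H = tensorProductSubgroup n 3 e P ⊓ Cfsg.spGL m F) :
    ∃ E : Fin 3 → Submodule F (ι → F), IsNondegenerateMDecomposition (Cfsg.sympForm m F) n E ∧
      H = decompositionStabilizer E ⊓ Cfsg.spGL m F := by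
  obtain ⟨G, S, hG, hS, -, hsymm, -, -, hpull⟩ := exists_gram_of_tensor_structure h1 h2 hs
  obtain ⟨E, hE, hle⟩ := exists_decomposition_of_tensor_three (by omega) hq hG hS hsymm hpull
  exact ⟨E, hE, eq_inf_of_le_spMember hm hH (Or.inr (Or.inr (Or.inl ⟨3, n, E, hE, rfl⟩))) (he ▸ hle)⟩

lemma five_le_or_three (hodd : Odd (Fintype.card F)) : 5 ≤ Fintype.card F ∨ Fintype.card F = 3 := by
  obtain ⟨k, hk⟩ := hodd
  have := Fintype.one_lt_card (α := F)
  omega

end Cfsg.Agent.Aschbacher
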