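/-
In Sp_4(3) the stabiliser of a singular pair fixes a non-degenerate decomposition.
-/
import Mathlib
import Cfsg.Agent.Aschbacher.Sp.Lists.Coordinates
import Cfsg.Agent.Aschbacher.Sp.Lists.TensorF3

set_option autoImplicit false
set_option linter.style.haveILetI false

namespace Cfsg.Agent.Aschbacher

open Matrix
open Cfsg.Geo
open scoped Kronecker

variable {F : Type*} [Field F] [Fintype F]

local notation "ι" => Fin 2 ⊕ Fin 2
local notation "κ" => Fin 2 × Fin 2

theorem exists_decomposition_of_pair_three (hq : Fintype.card F = 3) {D : Fin 2 → Submodule F (ι → F)}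
    (hD : IsMDecomposition 2 D) (hts : ∀ i, IsTotallySingularFor (Cfsg.sympForm 2 F) (D i)) :
    ∃ E : Fin 2 → Submodule F (ι → F), IsNondegenerateMDecomposition (Cfsg.sympForm 2 F) 2 E ∧
      decompositionStabilizer D ⊓ Cfsg.spGL 2 F ≤ decompositionStabilizer E := by
  classical
  have h3 := three_eq_zero_of_card hq
  have h20 : (2 : F) ≠ 0 := fun h => one_ne_zero (α := F) (by linear_combination h3 - h)
  set B := sympData 2 F with hB
  let v := Module.finBasisOfFinrankEq F (D 0) (hD.finrank_eq 0)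
  let L : D 1 →ₗ[F] (Fin 2 → F) :=
    { toFun := fun y i => B.form (v i : ι → F) y
      map_add' := fun a b => funext fun i => B.form_add_right _ _ _
      map_smul' := fun c a => funext fun i => by
        show B.form _ (c • (a : ι → F)) = c * _
        rw [B.form_smul_right]; rfl }
  have hsup : D 0 ⊔ D 1 = ⊤ := by
    rw [← hD.iSup_eq_top]
    exact le_antisymm (sup_le (le_iSup D 0) (le_iSup D 1)) (iSup_le fun i => by fin_cases i <;> simp)
  have hL : Function.Injective L := by
    rw [← LinearMap.ker_eq_bot, eq_bot_iff]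
    intro y hy
    rw [Submodule.mem_bot]
    by_contra hy0
    obtain ⟨x, hx⟩ := (B.nondegenerate (y : ι → F) fun h => hy0 (Subtype.ext h)).1
    apply hx
    obtain ⟨a, ha, b, hb, rfl⟩ := Submodule.mem_sup.1 (show x ∈ D 0 ⊔ D 1 by rw [hsup]; trivial)
    rw [B.form_add_left, show B.form b (y : ι → F) = 0 from hts 1 b hb y y.2, add_zero]
    have hy' : ∀ i, B.form (v i : ι → F) y = 0 := fun i => congrFun (LinearMap.mem_ker.1 hy) i
    have ha' : (⟨a, ha⟩ : D 0) = ∑ i, v.repr ⟨a, ha⟩ i • v i := (v.sum_repr _).symm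
    rw [show a = ∑ i, v.repr ⟨a, ha⟩ i • (v i : ι → F) by
        conv_lhs => rw [show a = ((⟨a, ha⟩ : D 0) : ι → F) from rfl, ha']
        rw [AddSubmonoidClass.coe_finsetSum]
        rfl,
      Fin.sum_univ_two, B.form_add_left, B.form_smul_left, B.form_smul_left, hy' 0, hy' 1]
    ring
  have hsurj : Function.Surjective L := by
    rw [← LinearMap.injective_iff_surjective_of_finrank_eq_finrank]
    · exact hL
    · rw [hD.finrank_eq, Module.finrank_fintype_fun_eq_card, Fintype.card_fin]
  choose w hw using fun i : Fin 2 => hsurj (Pi.single i 1)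
  let col : κ → (ι → F) := fun p => if p.1 = 0 then (v p.2 : ι → F) else (w p.2 : ι → F)
  have hvw : ∀ i j, B.form (v i : ι → F) (w j) = if i = j then 1 else 0 := fun i j => by
    have h := congrFun (hw j) i
    rw [Pi.single_apply] at h
    exact h
  let e : ι ≃ κ := finSumFinEquiv.trans (finProdFinEquiv : κ ≃ Fin (2 * 2)).symm
  set G : Matrix κ κ F := altTwo F ⊗ₖ (1 : Matrix (Fin 2) (Fin 2) F) with hG
  have hGu : IsUnit G.det := by
    rw [hG, Matrix.det_kronecker]; simp [altTwo, Matrix.det_fin_two]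
  obtain ⟨P, hpull, hPcol⟩ := exists_coord_of_gram e col (G := G) hGu (by
    rintro ⟨a, i⟩ ⟨b, j⟩
    fin_cases a <;> fin_cases b
    · simpa [col, hG, altTwo, hB, sympData_form] using hts 0 _ (v i).2 _ (v j).2
    · simpa [col, hG, altTwo, Matrix.one_apply] using hvw i j
    · have h := sympData_swap (v j : ι → F) (w i)
      rw [hvw j i] at h
      simp [hB, sympData_form] at h
      simp [col, hG, altTwo, Matrix.one_apply, hB, sympData_form, h]
      by_cases hij : i = j <;> simp [hij, eq_comm]
    · simpa [col, hG, altTwo, hB, sympData_form] using hts 1 _ (w i).2 _ (w j).2)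
  let Φ : (κ → F) ≃ₗ[F] (ι → F) :=
    { toFun := fun x => (P : Matrix ι ι F) *ᵥ (x ∘ e)
      invFun := fun u => (((P⁻¹ : GL ι F) : Matrix ι ι F) *ᵥ u) ∘ e.symm
      map_add' := fun x y => by rw [← Matrix.mulVec_add]; rfl
      map_smul' := fun a x => by rw [RingHom.id_apply, ← Matrix.mulVec_smul]; rfl
      left_inv := fun x => by
        dsimp only
        rw [Matrix.mulVec_mulVec, Units.inv_mul, Matrix.one_mulVec, Function.comp_assoc, Equiv.self_comp_symm,
          Function.comp_id]
      right_inv := fun u => by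
        dsimp only
        rw [Function.comp_assoc, Equiv.symm_comp_self, Function.comp_id, Matrix.mulVec_mulVec, Units.mul_inv,
          Matrix.one_mulVec] }
  have hΦ : ∀ x y, B.form (Φ x) (Φ y) = x ⬝ᵥ G *ᵥ y := fun x y => by
    show B.form ((P : Matrix ι ι F) *ᵥ (x ∘ e)) ((P : Matrix ι ι F) *ᵥ (y ∘ e)) = _
    rw [B.form_pull, hpull]
    rfl
  have hΦD : ∀ (a : Fin 2) (j : Fin 2), Φ (Pi.single (a, j) 1) ∈ D a := by
    intro a j
    show (P : Matrix ι ι F) *ᵥ (Pi.single (a, j) 1 ∘ e) ∈ D a
    rw [hPcol]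
    fin_cases a <;> simp [col]
  have hDcoord : ∀ (a : Fin 2) (x : κ → F), Φ x ∈ D a → ∀ b, b ≠ a → ∀ j, x (b, j) = 0 := by
    intro a x hx b hb
    have hxb : x = (∑ j, x (a, j) • Pi.single (a, j) (1 : F)) + ∑ j, x (b, j) • Pi.single (b, j) (1 : F) := by
      funext p
      obtain ⟨c, i⟩ := p
      have hc : c = a ∨ c = b := by fin_cases a <;> fin_cases b <;> fin_cases c <;> simp at hb ⊢
      rcases hc with rfl | rfl <;> fin_cases i <;>
        simp [Fin.sum_univ_two, Pi.single_apply, Prod.ext_iff, hb, Ne.symm hb]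
    set z := ∑ j, x (b, j) • Pi.single (b, j) (1 : F) with hz
    have hzb : Φ z ∈ D b := by
      rw [hz, map_sum]
      exact sum_mem fun j _ => by rw [map_smul]; exact (D b).smul_mem _ (hΦD b j)
    have hza : Φ z ∈ D a := by
      have : Φ z = Φ x - Φ (∑ j, x (a, j) • Pi.single (a, j) (1 : F)) := by
        rw [← map_sub]; congr 1; exact eq_sub_of_add_eq' hxb.symm
      rw [this, map_sum]
      exact (D a).sub_mem hx (sum_mem fun j _ => by rw [map_smul]; exact (D a).smul_mem _ (hΦD a j))
    have hz0 : z = 0 :=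
      Φ.injective ((Submodule.disjoint_def.1 (hD.indep.pairwiseDisjoint hb.symm) _ hza hzb).trans (map_zero Φ).symm)
    intro j
    have h := congrFun hz0 (b, j)
    fin_cases j <;> simpa [hz, Fin.sum_univ_two, Pi.single_apply] using h
  let sgn : Fin 2 → F := ![1, -1]
  let W : Fin 2 → Submodule F (κ → F) := fun s =>
    { carrier := {x | ∀ j, x (1, j) = sgn s * (altTwo F *ᵥ fun i => x (0, i)) j}
      add_mem' := fun {x y} hx hy j => by
        show x (1, j) + y (1, j) = _
        rw [hx j, hy j, ← mul_add, ← Pi.add_apply, ← Matrix.mulVec_add]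
        rfl
      zero_mem' := fun j => by
        show (0 : F) = _
        rw [show (fun i : Fin 2 => (0 : κ → F) (0, i)) = 0 from rfl, Matrix.mulVec_zero]
        simp
      smul_mem' := fun c x hx j => by
        show c * x (1, j) = _
        rw [hx j, show (fun i => (c • x) (0, i)) = c • (fun i => x (0, i)) from rfl, Matrix.mulVec_smul,
          Pi.smul_apply, smul_eq_mul]
        ring }
  have hrank : ∀ s, Module.finrank F (W s) = 2 := by
    intro s
    let l : W s ≃ₗ[F] (Fin 2 → F) :=
      { toFun := fun x i => (x : κ → F) (0, i)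
        map_add' := fun _ _ => rfl
        map_smul' := fun _ _ => rfl
        invFun := fun u => ⟨fun p => if p.1 = 0 then u p.2 else sgn s * (altTwo F *ᵥ u) p.2, fun j => by simp⟩
        left_inv := fun x => Subtype.ext (funext fun p => by
          obtain ⟨a, j⟩ := p
          fin_cases a
          · simp
          · simpa using (x.2 j).symm)
        right_inv := fun u => funext fun i => by simp }
    rw [l.finrank_eq, Module.finrank_fintype_fun_eq_card, Fintype.card_fin]
  have hform : ∀ s s', ∀ x ∈ W s, ∀ y ∈ W s', B.form (Φ x) (Φ y) =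
      (sgn s + sgn s') * (x (0, 0) * y (0, 1) - x (0, 1) * y (0, 0)) := by
    intro s s' x hx y hy
    have x0 := hx 0; have x1 := hx 1; have y0 := hy 0; have y1 := hy 1
    simp [altTwo, Matrix.mulVec, dotProduct, Fin.sum_univ_two] at x0 x1 y0 y1
    rw [hΦ]
    simp [hG, altTwo, Matrix.mulVec, dotProduct, Fintype.sum_prod_type, Fin.sum_univ_two, x0, x1, y0, y1]
    ring
  set E : Fin 2 → Submodule F (ι → F) := fun s => (W s).map (Φ : (κ → F) →ₗ[F] (ι → F)) with hE
  refine ⟨E, ⟨⟨le_rfl, two_pos, fun s => ?_, ?_, ?_⟩, fun s u hu hu0 => ?_, ?_⟩, ?_⟩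
  · rw [hE, LinearEquiv.finrank_map_eq, hrank]
  · rw [iSupIndep_pair (i := (0 : Fin 2)) (j := 1) (by decide) (fun k => by fin_cases k <;> simp),
      Submodule.disjoint_def]
    rintro u ⟨x, hx, rfl⟩ ⟨y, hy, hxy⟩
    obtain rfl : y = x := Φ.injective hxy
    have x0 := hx 0; have x1 := hx 1; have y0 := hy 0; have y1 := hy 1
    simp [altTwo, Matrix.mulVec, dotProduct, Fin.sum_univ_two, sgn] at x0 x1 y0 y1
    have a0 : y (0, 0) = 0 := mul_left_cancel₀ h20 (by linear_combination x1 - y1)
    have a1 : y (0, 1) = 0 := mul_left_cancel₀ h20 (by linear_combination y0 - x0)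
    rw [a1] at x0
    rw [a0] at x1
    have : y = 0 := funext fun p => by
      obtain ⟨a, j⟩ := p
      fin_cases a <;> fin_cases j <;> simp [a0, a1, x0, x1]
    rw [this, map_zero]
  · rw [eq_top_iff]
    intro u _
    obtain ⟨z, rfl⟩ := Φ.surjective u
    let a : Fin 2 → F := fun i => z (0, i)
    let c : Fin 2 → F := ![-(z (1, 1)), z (1, 0)]
    let part : Fin 2 → (κ → F) := fun s p =>
      if p.1 = 0 then (2 : F)⁻¹ * (a p.2 + sgn s * c p.2)
      else sgn s * (altTwo F *ᵥ fun i => (2 : F)⁻¹ * (a i + sgn s * c i)) p.2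
    have hp : ∀ s, part s ∈ W s := fun s j => by simp [part]
    have hz : z = part 0 + part 1 := by
      funext p
      obtain ⟨b, j⟩ := p
      fin_cases b <;> fin_cases j <;>
        simp [part, a, c, sgn, altTwo, Matrix.mulVec, dotProduct, Fin.sum_univ_two] <;> field_simp <;> ring
    rw [hz, map_add]
    exact add_mem (Submodule.mem_iSup_of_mem 0 ⟨_, hp 0, rfl⟩) (Submodule.mem_iSup_of_mem 1 ⟨_, hp 1, rfl⟩)
  · obtain ⟨x, hx, rfl⟩ := hu
    have hs : sgn s + sgn s ≠ 0 := by
      rw [← two_mul]; refine mul_ne_zero h20 ?_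
      fin_cases s <;> simp [sgn]
    have hx0 : x (0, 0) ≠ 0 ∨ x (0, 1) ≠ 0 := by
      by_contra h
      push Not at h
      apply hu0
      have : x = 0 := funext fun p => by
        obtain ⟨a, j⟩ := p
        fin_cases a
        · fin_cases j
          · exact h.1
          · exact h.2
        · show x (1, j) = 0
          rw [hx j, show (fun i => x (0, i)) = 0 from funext fun i => by fin_cases i <;> simp [h.1, h.2],
            Matrix.mulVec_zero, Pi.zero_apply, mul_zero]
      rw [this, map_zero]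
    obtain ⟨y, hy, hne⟩ : ∃ y ∈ W s, B.form (Φ x) (Φ y) ≠ 0 := by
      let mk : (Fin 2 → F) → (κ → F) := fun u p => if p.1 = 0 then u p.2 else sgn s * (altTwo F *ᵥ u) p.2
      have hmk : ∀ u, mk u ∈ W s := fun u j => by simp [mk]
      rcases hx0 with h | h
      · refine ⟨mk ![0, 1], hmk _, ?_⟩
        rw [hform s s x hx _ (hmk _)]
        simpa [mk] using And.intro hs h
      · refine ⟨mk ![1, 0], hmk _, ?_⟩
        rw [hform s s x hx _ (hmk _)]
        simpa [mk] using And.intro hs h
    exact ⟨⟨Φ y, ⟨y, hy, rfl⟩, fun h => hne (B.form_eq_zero_comm h)⟩, Φ y, ⟨y, hy, rfl⟩, hne⟩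
  · rintro s s' hss _ ⟨x, hx, rfl⟩ _ ⟨y, hy, rfl⟩
    show B.form (Φ x) (Φ y) = 0
    rw [hform s s' x hx y hy]
    fin_cases s <;> fin_cases s' <;> simp [sgn] at hss ⊢
  · rintro g ⟨⟨σ, hσ⟩, hgI⟩
    set M := (glCoord e P g : Matrix κ κ F) with hM
    have hgΦ : ∀ x, (g : Matrix ι ι F) *ᵥ Φ x = Φ (M *ᵥ x) := fun x => (glCoord_mulVec e P g x).symm
    have hiso : Mᵀ * G * M = G := by
      have h := sympData_pull_isometry e P hgI
      rwa [hpull] at h
    have hblock : ∀ a j b, b ≠ σ a → ∀ i, M (b, i) (a, j) = 0 := by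
      intro a j b hb i
      have h1 : Φ (M *ᵥ Pi.single (a, j) 1) ∈ D (σ a) := by
        rw [← hgΦ, ← hσ a]
        exact ⟨_, hΦD a j, Matrix.toLin'_apply _ _⟩
      have h := hDcoord _ _ h1 b hb i
      rwa [Matrix.mulVec_single_one] at h
    have key : ∃ d : F, d * d = 1 ∧ ∀ s x, x ∈ W s → ∀ j,
        (M *ᵥ x) (1, j) = d * sgn s * (altTwo F *ᵥ fun i => (M *ᵥ x) (0, i)) j := by
      set A := altTwo F with hA
      set a := M.submatrix (Prod.mk (0 : Fin 2)) (Prod.mk (0 : Fin 2)) with ha
      set b := M.submatrix (Prod.mk (0 : Fin 2)) (Prod.mk (1 : Fin 2)) with hb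
      set c := M.submatrix (Prod.mk (1 : Fin 2)) (Prod.mk (0 : Fin 2)) with hc
      set d := M.submatrix (Prod.mk (1 : Fin 2)) (Prod.mk (1 : Fin 2)) with hd
      have hrow : ∀ (x : κ → F) (k j : Fin 2), (M *ᵥ x) (k, j) =
          (M.submatrix (Prod.mk k) (Prod.mk 0) *ᵥ fun i => x (0, i)) j +
          (M.submatrix (Prod.mk k) (Prod.mk 1) *ᵥ fun i => x (1, i)) j := fun x k j => by
        simp [Matrix.mulVec, dotProduct, Fintype.sum_prod_type, Fin.sum_univ_two]
      have hgram : aᵀ * d - cᵀ * b = 1 := by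
        ext i j
        have h := congrFun (congrFun hiso (0, i)) (1, j)
        simp [hG, hA, altTwo, Matrix.mul_apply, Fintype.sum_prod_type, Fin.sum_univ_two, Matrix.one_apply] at h
        simp [ha, hb, hc, hd, Matrix.mul_apply, Fin.sum_univ_two, Matrix.one_apply]
        linear_combination h
      by_cases hσ1 : σ 0 = 0
      · have hσ' : σ 1 = 1 := by
          rcases (show σ 1 = 0 ∨ σ 1 = 1 by omega) with h | h
          · exact absurd (σ.injective (h.trans hσ1.symm)) (by decide)
          · exact h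
        have hc0 : c = 0 := Matrix.ext fun i j => hblock 0 j 1 (by rw [hσ1]; decide) i
        have hb0 : b = 0 := Matrix.ext fun i j => hblock 1 j 0 (by rw [hσ']; decide) i
        rw [hc0, Matrix.transpose_zero, zero_mul, sub_zero] at hgram
        have hadet : a.det ≠ 0 := fun h0 => by
          have h1 := congrArg Matrix.det hgram
          rw [Matrix.det_mul, Matrix.det_transpose, h0, zero_mul, Matrix.det_one] at h1
          exact zero_ne_one h1
        have hkey : A * a = a.det • (d * A) := by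
          rw [← Matrix.mul_smul, ← altTwo_congr a, ← Matrix.mul_assoc, ← Matrix.mul_assoc,
            mul_eq_one_comm.1 hgram, one_mul]
        refine ⟨a.det, sq_eq_one_three hq hadet, fun s x hx j => ?_⟩
        have hy : (fun i => x (1, i)) = sgn s • (A *ᵥ fun i => x (0, i)) := funext fun i => hx i
        have hup : (fun i => (M *ᵥ x) (0, i)) = a *ᵥ fun i => x (0, i) := funext fun i => by
          rw [hrow, ← ha, ← hb, hb0, Matrix.zero_mulVec, Pi.zero_apply, add_zero]
        rw [hup, hrow, ← hc, ← hd, hc0, Matrix.zero_mulVec, Pi.zero_apply, zero_add, hy, Matrix.mulVec_smul,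
          Matrix.mulVec_mulVec, Matrix.mulVec_mulVec, hkey, Matrix.smul_mulVec, Pi.smul_apply, Pi.smul_apply,
          smul_eq_mul, smul_eq_mul]
        linear_combination (-sgn s * ((d * A) *ᵥ fun i => x (0, i)) j) * sq_eq_one_three hq hadet
      · have hσ0 : σ 0 = 1 := by omega
        have hσ' : σ 1 = 0 := by
          rcases (show σ 1 = 0 ∨ σ 1 = 1 by omega) with h | h
          · exact h
          · exact absurd (σ.injective (h.trans hσ0.symm)) (by decide)
        have ha0 : a = 0 := Matrix.ext fun i j => hblock 0 j 0 (by rw [hσ0]; decide) i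
        have hd0 : d = 0 := Matrix.ext fun i j => hblock 1 j 1 (by rw [hσ']; decide) i
        rw [ha0, Matrix.transpose_zero, zero_mul, zero_sub, neg_eq_iff_eq_neg] at hgram
        have hcdet : c.det ≠ 0 := fun h0 => by
          have h1 := congrArg Matrix.det hgram
          rw [Matrix.det_mul, Matrix.det_transpose, h0, zero_mul, Matrix.det_neg, Matrix.det_one, mul_one] at h1
          exact pow_ne_zero _ (neg_ne_zero.2 one_ne_zero) h1.symm
        have hbc : b * cᵀ = -1 := by
          have h1 : (-cᵀ) * b = 1 := by rw [neg_mul, hgram, neg_neg]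
          have h2 := mul_eq_one_comm.1 h1
          rw [mul_neg] at h2
          rw [← neg_neg (b * cᵀ), h2]
        have hkey : -(A * c) = c.det • (b * A) := by
          rw [← Matrix.mul_smul, ← altTwo_congr c, ← Matrix.mul_assoc, ← Matrix.mul_assoc, hbc, neg_one_mul,
            neg_mul]
        have hABA : c.det • (A * (b * A)) = c := by
          rw [← Matrix.mul_smul, ← hkey, mul_neg, ← Matrix.mul_assoc, altTwo_sq, Matrix.smul_mul, one_mul,
            neg_one_smul, neg_neg]
        refine ⟨c.det, sq_eq_one_three hq hcdet, fun s x hx j => ?_⟩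
        have hy : (fun i => x (1, i)) = sgn s • (A *ᵥ fun i => x (0, i)) := funext fun i => hx i
        have hup : (fun i => (M *ᵥ x) (0, i)) = b *ᵥ (sgn s • (A *ᵥ fun i => x (0, i))) := funext fun i => by
          rw [hrow, ← ha, ← hb, ha0, Matrix.zero_mulVec, Pi.zero_apply, zero_add, hy]
        have hs1 : sgn s * sgn s = 1 := by fin_cases s <;> simp [sgn]
        rw [hup, hrow, ← hc, ← hd, hd0, Matrix.zero_mulVec, Pi.zero_apply, add_zero, Matrix.mulVec_smul,
          Matrix.mulVec_smul, Matrix.mulVec_mulVec, Matrix.mulVec_mulVec, Pi.smul_apply, smul_eq_mul]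
        conv_lhs => rw [← hABA, Matrix.smul_mulVec, Pi.smul_apply, smul_eq_mul]
        simp only [Matrix.mul_assoc]
        linear_combination (-c.det * ((A * (b * A)) *ᵥ fun i => x (0, i)) j) * hs1
    obtain ⟨δ, hδ, hkey⟩ := key
    have hmap : ∀ (τ : Fin 2 → Fin 2), (∀ s, sgn (τ s) = δ * sgn s) → ∀ s, (E s).map (Matrix.toLin' (g : Matrix ι ι F)) = E (τ s) := by
      intro τ hτ s
      refine Submodule.eq_of_le_of_finrank_le ?_ ?_
      · rintro _ ⟨_, ⟨x, hx, rfl⟩, rfl⟩
        refine ⟨M *ᵥ x, fun j => ?_, ?_⟩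
        · rw [hkey s x hx j, hτ]
        · show Φ _ = Matrix.toLin' (g : Matrix ι ι F) (Φ x)
          rw [Matrix.toLin'_apply, hgΦ]
      · rw [← (Submodule.equivMapOfInjective (Matrix.toLin' (g : Matrix ι ι F)) (fun u v h => ?_) (E s)).finrank_eq]
        · rw [hE, LinearEquiv.finrank_map_eq, LinearEquiv.finrank_map_eq, hrank, hrank]
        · have := congrArg (fun z => ((g⁻¹ : GL ι F) : Matrix ι ι F) *ᵥ z) h
          simpa [Matrix.toLin'_apply, Matrix.mulVec_mulVec] using this
    rcases mul_self_eq_one_iff.1 hδ with rfl | rfl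
    · exact ⟨1, hmap _ fun s => by simp⟩
    · exact ⟨Equiv.swap 0 1, hmap _ fun s => by fin_cases s <;> simp [sgn]⟩

end Cfsg.Agent.Aschbacher
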