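/-
Tensor decompositions of plus type are never maximal.
-/
import Mathlib
import Cfsg.Agent.Aschbacher.Sp.Lists.Exclusions
import Cfsg.Agent.Aschbacher.Sp.Lists.CubeF3

set_option autoImplicit false
set_option linter.style.haveILetI false

namespace Cfsg.Agent.Aschbacher

open Matrix
open Cfsg.Geo

variable {F : Type*} [Field F] [Fintype F] {m : ℕ}

local notation "ι" => Fin m ⊕ Fin m

/-- A tensor decomposition of plus type is a tensor cube or, over three elements, of symplectic type. -/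
theorem eq_of_tensor_plus (hm : 2 ≤ m) (hodd : Odd (Fintype.card F))
    {e : ι ≃ Fin 2 × Fin 4} {P : GL ι F}
    {f₁ : (Fin 2 → F) → (Fin 2 → F) → F} {f₂ : (Fin 4 → F) → (Fin 4 → F) → F}
    (h1 : IsSymplecticForm f₁) (h2 : IsSymmetricForm f₂)
    (hplus : IsPlusTypeOn (fun v : Fin 4 → F => f₂ v v) ⊤)
    (hs : IsTensorFormStructure id (Cfsg.sympForm m F) f₁ f₂ e P) {H : Subgroup (GL ι F)}
    (hH : IsMaximalIn (Cfsg.spGL m F) H) (he : H = tensorProductSubgroup 2 4 e P ⊓ Cfsg.spGL m F) :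
    (5 ≤ Fintype.card F ∧ ∃ (e' : ι ≃ (Fin 3 → Fin 2)) (P' : GL ι F) (g : (Fin 2 → F) → (Fin 2 → F) → F),
      IsSymplecticForm g ∧ IsTensorPowerFormStructure id (Cfsg.sympForm m F) g e' P' ∧
      H = tensorWreathSubgroup 2 3 e' P' ⊓ Cfsg.spGL m F) ∨
    ∃ (R : Subgroup (GL ι F)) (p k : ℕ), IsSymplecticTypeGroup 2 R ∧
      ActsAbsolutelyIrreducibly (matrixSet R) ∧ R ≤ similarityGroup (Cfsg.sympForm m F) ∧ p.Prime ∧ Odd p ∧
      Fintype.card F = p ∧ Nat.card R = 2 ^ (1 + 2 * k) ∧ Nat.card (Subgroup.center R) = 2 ∧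
      IsOfMinusType k R ∧ 2 * m = 2 ^ k ∧ H = subgroupNormalizer R ⊓ Cfsg.spGL m F := by
  have h20 : (2 : F) ≠ 0 := odd_card_iff.1 hodd
  obtain ⟨G, S, hG, hS, hGskew, hsymm, -, rfl, hpull⟩ := exists_gram_of_tensor_structure h1 h2 hs
  obtain ⟨e', P', c, hc, hpull', hle⟩ := exists_cube_of_plus (by omega) h20 hG hS hGskew hsymm hplus hpull
  rcases five_le_or_three hodd with hq5 | hq3
  · have hskew : (altTwo F)ᵀ = -altTwo F := by rw [altTwo_transpose, neg_one_smul]
    have hg : IsSymplecticForm (sesqForm (RingHom.id F) (altTwo F)) :=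
      isSymplecticForm_sesqForm hskew (diag_zero_of_skew h20 hskew) (by simp [altTwo, Matrix.det_fin_two])
    have hstr : IsTensorPowerFormStructure id (Cfsg.sympForm m F) (sesqForm (RingHom.id F) (altTwo F)) e' P' := by
      refine ⟨c, hc, fun x y => ?_⟩
      rw [show (Cfsg.sympForm m F) = (sympData m F).form from rfl, (sympData m F).form_pull e' P' x y, hpull',
        gramMatrix_sesqForm, Matrix.smul_mulVec, dotProduct_smul, smul_eq_mul]
      congr 1
      simp [dotProduct, Matrix.mulVec, Finset.mul_sum, mul_assoc, pureTensor_apply]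
      rfl
    refine Or.inl ⟨hq5, e', P', _, hg, hstr, ?_⟩
    refine eq_inf_of_le_spMember hm hH (Or.inr (Or.inr (Or.inr (Or.inr (Or.inr (Or.inr (Or.inr (Or.inr (Or.inr
      (Or.inr ⟨2, 3, e', P', _, hodd, by decide, le_rfl, fun h => by omega, hg, hstr, rfl⟩)))))))))) ?_
    rw [he]
    exact hle
  · obtain ⟨M, hM, hMle, R, p, k, r1, r2, r3, r4, r5, r6, r7, r8, r9, r10, rfl⟩ :=
      exists_symplecticType_of_cube (by omega) hq3 hc hpull'
    refine Or.inr ⟨R, p, k, r1, r2, r3, r4, r5, r6, r7, r8, r9, r10, eq_inf_of_le_spMember hm hH hM ?_⟩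
    refine (le_trans ?_ hMle)
    rw [he]
    exact le_inf hle inf_le_right

end Cfsg.Agent.Aschbacher
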