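/-
Coordinates for a hermitian structure on the symplectic four-space over three elements.
-/
import Mathlib
import Cfsg.Agent.Aschbacher.Sp.Lists.Coordinates
import Cfsg.Agent.Aschbacher.Sp.Lists.TensorF3

set_option autoImplicit false
set_option linter.style.haveILetI false

namespace Cfsg.Agent.Aschbacher

open Matrix
open Cfsg.Geo
open scoped Kronecker

variable {F : Type*} [Field F] [Fintype F]

local notation "ι" => Fin 2 ⊕ Fin 2
local notation "κ" => Fin 2 × Fin 2

/-- An anti-self-adjoint element squaring to `-1` spanning the field. -/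
lemma exists_imaginary_three {m : ℕ} (hm : 1 ≤ m) (hq : Fintype.card F = 3)
    {K : Subalgebra F (Matrix (Fin m ⊕ Fin m) (Fin m ⊕ Fin m) F)} (hK : IsFieldSubalgebra 2 K)
    (hadj : IsAdjointClosedFor (Cfsg.sympForm m F) K) (hns : ¬ IsSelfAdjointFor (Cfsg.sympForm m F) K) :
    ∃ z ∈ K, z * z = (-1 : F) • 1 ∧ (sympData m F).adj z = -z ∧
      ∀ k ∈ K, ∃ a b : F, k = a • 1 + b • z := by
  classical
  haveI : Nonempty (Fin m ⊕ Fin m) := ⟨Sum.inl ⟨0, hm⟩⟩
  set D := sympData m F with hD
  have h20 : (2 : F) ≠ 0 := fun h => one_ne_zero (α := F) (by linear_combination three_eq_zero_of_card hq - h)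
  have hadjK : ∀ k ∈ K, D.adj k ∈ K := fun k hk => by
    obtain ⟨k', hk', h⟩ := hadj k hk
    rwa [← D.eq_adj h]
  obtain ⟨z₀, hz₀, hne⟩ : ∃ z₀ ∈ K, D.adj z₀ ≠ z₀ := by
    by_contra hall
    push Not at hall
    refine hns fun k hk u v => ?_
    show D.form (k *ᵥ u) v = D.form u (k *ᵥ v)
    rw [D.form_mulVec_left, hall k hk]
  set z := z₀ - D.adj z₀ with hzdef
  have hz : z ∈ K := sub_mem hz₀ (hadjK _ hz₀)
  have hza : D.adj z = -z := by rw [hzdef, D.adj_sub, D.adj_adj, neg_sub]
  have hz0 : z ≠ 0 := sub_ne_zero.2 (Ne.symm hne)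
  have hzns : ∀ c : F, z ≠ c • 1 := by
    intro c hc
    have h1 := hza
    rw [hc, D.adj_scalar, sympData_τ, RingEquiv.refl_apply, ← neg_smul] at h1
    have h3 : c = -c := smul_left_injective F (one_ne_zero) h1
    have : c = 0 := mul_left_cancel₀ h20 (by linear_combination h3)
    exact hz0 (by rw [hc, this, zero_smul])
  have hspan : ∀ k ∈ K, ∃ a b : F, k = a • 1 + b • z := by
    have hli : LinearIndependent F ![(1 : K), ⟨z, hz⟩] := by
      rw [LinearIndependent.pair_iff]
      intro a b hab
      have h := congrArg Subtype.val hab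
      simp at h
      by_cases hb : b = 0
      · subst hb
        simp at h
        exact ⟨h, rfl⟩
      · exfalso
        refine hzns (-(a / b)) ?_
        rw [neg_smul, eq_comm, neg_eq_iff_add_eq_zero, div_eq_inv_mul]
        have := congrArg (b⁻¹ • ·) h
        simpa [smul_add, smul_smul, inv_mul_cancel₀ hb] using this
    have htop : Submodule.span F (Set.range ![(1 : K), ⟨z, hz⟩]) = ⊤ := by
      haveI : Module.Finite F K := Module.Finite.of_finite
      exact Submodule.eq_top_of_finrank_eq (by rw [finrank_span_eq_card hli, Fintype.card_fin, hK.finrank_eq])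
    intro k hk
    have hmem : (⟨k, hk⟩ : K) ∈ Submodule.span F (Set.range ![(1 : K), ⟨z, hz⟩]) := htop ▸ Submodule.mem_top
    obtain ⟨c, hc⟩ := (Submodule.mem_span_range_iff_exists_fun F).1 hmem
    refine ⟨c 0, c 1, ?_⟩
    have := congrArg Subtype.val hc
    simpa [Fin.sum_univ_two] using this.symm
  obtain ⟨a, b, hab⟩ := hspan (z * z) (mul_mem hz hz)
  have hb : b = 0 := by
    have h1 := congrArg D.adj hab
    rw [D.adj_mul, hza, neg_mul_neg, D.adj_add, D.adj_scalar, D.adj_smul, hza, sympData_τ,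
      RingEquiv.refl_apply, RingEquiv.refl_apply, hab, add_right_inj, smul_neg, ← neg_smul] at h1
    exact mul_left_cancel₀ h20 (by linear_combination smul_left_injective F hz0 h1)
  rw [hb, zero_smul, add_zero] at hab
  refine ⟨z, hz, ?_, hza, hspan⟩
  have ha0 : a ≠ 0 := by
    rintro rfl
    rw [zero_smul] at hab
    obtain ⟨y, -, hy⟩ := hK.inv z hz hz0
    exact hz0 (by rw [← mul_one z, ← hy, ← mul_assoc, hab, zero_mul])
  rcases mul_self_eq_one_iff.1 (sq_eq_one_three hq ha0) with rfl | rfl
  · exfalso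
    rw [one_smul] at hab
    have hcomm : (z - 1) * (z + 1) = 0 := by
      rw [sub_mul, mul_add, mul_one, one_mul, hab]; abel
    by_cases h : z - 1 = 0
    · exact hzns 1 (by rw [one_smul, sub_eq_zero.1 h])
    · obtain ⟨y, hy, hy'⟩ := hK.inv _ (sub_mem hz (one_mem K)) h
      refine hzns (-1) ?_
      rw [neg_one_smul, eq_neg_iff_add_eq_zero]
      rw [hK.comm _ (sub_mem hz (one_mem K)) _ hy] at hy'
      calc z + 1 = (y * (z - 1)) * (z + 1) := by rw [hy', one_mul]
        _ = 0 := by rw [mul_assoc, hcomm, mul_zero]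
  · exact hab

/-- A hyperbolic pair for the hermitian structure. -/
theorem exists_unitary_coord (hq : Fintype.card F = 3) (e : ι ≃ κ) {z : Matrix ι ι F} (hz2 : z * z = (-1 : F) • 1)
    (hza : (sympData 2 F).adj z = -z) :
    ∃ P : GL ι F, (sympData 2 F).pull e P = altTwo F ⊗ₖ (1 : Matrix (Fin 2) (Fin 2) F) ∧
      z = conjMat P (((1 : Matrix (Fin 2) (Fin 2) F) ⊗ₖ altTwo F).submatrix e e) := by
  classical
  set D := sympData 2 F with hD
  have h3 := three_eq_zero_of_card hq
  have h20 : (2 : F) ≠ 0 := fun h => one_ne_zero (α := F) (by linear_combination h3 - h)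
  have hskew : ∀ u v, D.form (z *ᵥ u) v = -D.form u (z *ᵥ v) := fun u v => by
    rw [D.form_mulVec_left, hza, Matrix.neg_mulVec, ← neg_one_smul F (z *ᵥ v), D.form_smul_right]
    show (-1 : F) * _ = _
    ring
  have hzz : ∀ v, z *ᵥ (z *ᵥ v) = -v := fun v => by
    rw [Matrix.mulVec_mulVec, hz2, smul_mulVec', neg_one_smul]
  have hiso : ∀ u v, D.form (z *ᵥ u) (z *ᵥ v) = D.form u v := fun u v => by
    rw [hskew, hzz, ← neg_one_smul F v, D.form_smul_right]
    show -((-1 : F) * _) = _
    ring
  have hsm : ∀ (c : F) (u v : ι → F), D.form u (c • v) = c * D.form u v := fun c u v => by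
    rw [D.form_smul_right]; rfl
  set h : (ι → F) → (ι → F) → F := fun u v => D.form u (z *ᵥ v) with hh
  have hsym : ∀ u v, h u v = h v u := fun u v => by
    show D.form u (z *ᵥ v) = D.form v (z *ᵥ u)
    rw [sympData_swap (z *ᵥ v) u, hskew, neg_neg]
  have hadd : ∀ u v, h (u + v) (u + v) = h u u + 2 * h u v + h v v := fun u v => by
    show D.form (u + v) (z *ᵥ (u + v)) = _
    rw [Matrix.mulVec_add, D.form_add_left, D.form_add_right, D.form_add_right]
    show h u u + h u v + (h v u + h v v) = _
    rw [hsym v u]; ring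
  have hcomb : ∀ (p q : F) u, h (p • u + q • (z *ᵥ u)) (p • u + q • (z *ᵥ u)) = (p * p + q * q) * h u u := by
    intro p q u
    show D.form _ (z *ᵥ (p • u + q • (z *ᵥ u))) = _
    rw [Matrix.mulVec_add, Matrix.mulVec_smul, Matrix.mulVec_smul, hzz, D.form_add_left, D.form_add_right,
      D.form_add_right, D.form_smul_left, D.form_smul_left, D.form_smul_left, D.form_smul_left,
      D.form_smul_right, D.form_smul_right, D.form_smul_right, D.form_smul_right]
    show p * (p * h u u) + p * (q * D.form u (-u)) + (q * (p * D.form (z *ᵥ u) (z *ᵥ u)) + q * (q * D.form (z *ᵥ u) (-u))) = _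
    rw [← neg_one_smul F u, D.form_smul_right, D.form_smul_right, sympData_τ, RingEquiv.refl_apply, hskew u u,
      sympData_self, sympData_self]
    show _ = _ * D.form u (z *ᵥ u)
    ring
  -- an isotropic vector
  obtain ⟨e1, he1, hh1⟩ : ∃ e1, e1 ≠ 0 ∧ h e1 e1 = 0 := by
    by_contra hall
    push Not at hall
    set v : ι → F := Pi.single (Sum.inl 0) 1 with hv
    have hv0 : v ≠ 0 := fun h0 => one_ne_zero (α := F) (by simpa [hv] using congrFun h0 (Sum.inl 0))
    let L : (ι → F) →ₗ[F] (Fin 2 → F) :=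
      { toFun := fun y => ![D.form v y, D.form v (z *ᵥ y)]
        map_add' := fun a b => by
          funext i; fin_cases i <;> simp [Matrix.mulVec_add, D.form_add_right]
        map_smul' := fun c a => by
          funext i; fin_cases i <;> simp [Matrix.mulVec_smul, hsm] }
    have hker : LinearMap.ker L ≠ ⊥ := LinearMap.ker_ne_bot_of_finrank_lt (by
      rw [Module.finrank_fintype_fun_eq_card, Module.finrank_fintype_fun_eq_card, Fintype.card_fin,
        Fintype.card_sum, Fintype.card_fin]; norm_num)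
    obtain ⟨u, hu, hu0⟩ := Submodule.exists_mem_ne_zero_of_ne_bot hker
    have hu1 : D.form v u = 0 := by simpa [L] using congrFun (LinearMap.mem_ker.1 hu) 0
    have hu2 : h v u = 0 := by simpa [L] using congrFun (LinearMap.mem_ker.1 hu) 1
    -- a K-multiple of `u` with the opposite value
    obtain ⟨p, q, hpq⟩ : ∃ p q : F, (p * p + q * q) * h u u = -h v v := by
      rcases mul_self_eq_mul_self_iff.1 ((sq_eq_one_three hq (hall u hu0)).trans (sq_eq_one_three hq (hall v hv0)).symm)
        with h' | h'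
      · exact ⟨1, 1, by rw [h']; linear_combination (h v v) * h3⟩
      · exact ⟨1, 0, by rw [h']; ring⟩
    set u' := p • u + q • (z *ᵥ u) with hu'
    have hvu' : h v u' = 0 := by
      show D.form v (z *ᵥ (p • u + q • (z *ᵥ u))) = 0
      rw [Matrix.mulVec_add, Matrix.mulVec_smul, Matrix.mulVec_smul, hzz, D.form_add_right, D.form_smul_right,
        D.form_smul_right, show D.form v (z *ᵥ u) = 0 from hu2, ← neg_one_smul F u, D.form_smul_right, hu1]
      ring
    have hsum : h (v + u') (v + u') = 0 := by rw [hadd, hvu', hcomb, hpq]; ring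
    refine hall (v + u') (fun h0 => ?_) hsum
    have : h v (v + u') = 0 := by rw [h0]; show D.form v (z *ᵥ 0) = 0; rw [Matrix.mulVec_zero, D.form_zero_right]
    have h4 : h v v = 0 := by
      have h5 : h v (v + u') = h v v + h v u' := by
        show D.form v (z *ᵥ (v + u')) = _
        rw [Matrix.mulVec_add, D.form_add_right]
      rw [this, hvu', add_zero] at h5
      exact h5.symm
    exact hall v hv0 h4
  -- its partner
  let L : (ι → F) →ₗ[F] (Fin 2 → F) :=
    { toFun := fun y => ![D.form e1 y, D.form e1 (z *ᵥ y)]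
      map_add' := fun a b => by funext i; fin_cases i <;> simp [Matrix.mulVec_add, D.form_add_right]
      map_smul' := fun c a => by
        funext i; fin_cases i <;> simp [Matrix.mulVec_smul, hsm] }
  obtain ⟨y, hy⟩ : ∃ y, L y = Pi.single 0 1 := by
    obtain ⟨x, hx⟩ := (D.nondegenerate e1 he1).2
    -- combinations of `x` and `z x` reach every value
    set p := D.form e1 x with hp
    set q := D.form e1 (z *ᵥ x) with hq'
    have hpq : p * p + q * q ≠ 0 := by
      intro h0
      rw [sq_eq_one_three hq hx] at h0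
      by_cases hq0 : q = 0
      · rw [hq0] at h0; exact one_ne_zero (α := F) (by linear_combination h0)
      · rw [sq_eq_one_three hq hq0] at h0; exact h20 (by linear_combination h0)
    refine ⟨(p / (p * p + q * q)) • x + (q / (p * p + q * q)) • (z *ᵥ x), ?_⟩
    funext i
    fin_cases i
    · simp only [L, LinearMap.coe_mk, AddHom.coe_mk, Fin.zero_eta, Matrix.cons_val_zero, Pi.single_apply]
      rw [D.form_add_right, hsm, hsm, ← hp, ← hq', if_true, div_mul_eq_mul_div, div_mul_eq_mul_div, ← add_div,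
        div_self hpq]
    · simp only [L, LinearMap.coe_mk, AddHom.coe_mk, Fin.mk_one, Matrix.cons_val_one, Matrix.cons_val_zero, Pi.single_apply]
      rw [Matrix.mulVec_add, Matrix.mulVec_smul, Matrix.mulVec_smul, hzz, ← neg_one_smul F x, smul_smul,
        D.form_add_right, D.form_smul_right, D.form_smul_right, sympData_τ, RingEquiv.refl_apply,
        RingEquiv.refl_apply, ← hp, ← hq', if_neg (by decide)]
      ring
  have hy0 : D.form e1 y = 1 := by simpa [L] using congrFun hy 0
  have hy1 : D.form e1 (z *ᵥ y) = 0 := by simpa [L] using congrFun hy 1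
  set s := -(h y y) / 2 with hs
  set e2 := y + s • (z *ᵥ e1) with he2
  have hz1 : D.form e1 (z *ᵥ e1) = 0 := hh1
  have a12 : D.form e1 e2 = 1 := by
    rw [he2, D.form_add_right, D.form_smul_right, hz1, hy0, mul_zero, add_zero]
  have b12 : D.form e1 (z *ᵥ e2) = 0 := by
    rw [he2, Matrix.mulVec_add, Matrix.mulVec_smul, hzz, D.form_add_right, D.form_smul_right,
      ← neg_one_smul F e1, D.form_smul_right, sympData_self, hy1]
    ring
  have b22 : D.form e2 (z *ᵥ e2) = 0 := by
    show h e2 e2 = 0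
    rw [he2, hadd]
    have h1 : h (s • (z *ᵥ e1)) (s • (z *ᵥ e1)) = (s * s) * h (z *ᵥ e1) (z *ᵥ e1) := by
      show D.form (s • _) (z *ᵥ (s • _)) = _
      rw [Matrix.mulVec_smul, D.form_smul_left, D.form_smul_right, sympData_τ, RingEquiv.refl_apply, mul_assoc]
    have h2 : h (z *ᵥ e1) (z *ᵥ e1) = 0 := by
      show D.form _ (z *ᵥ (z *ᵥ e1)) = 0
      rw [hiso, hz1]
    have h4 : h y (s • (z *ᵥ e1)) = s := by
      show D.form y (z *ᵥ (s • _)) = _
      rw [Matrix.mulVec_smul, hzz, D.form_smul_right, sympData_τ, RingEquiv.refl_apply, ← neg_one_smul F e1,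
        D.form_smul_right, sympData_swap e1 y, hy0]
      show s * ((-1 : F) * -1) = s
      ring
    rw [h1, h2, h4, hs]
    field_simp
    ring
  let es : Fin 2 → (ι → F) := ![e1, e2]
  let col : κ → (ι → F) := fun p => if p.2 = 0 then es p.1 else -(z *ᵥ es p.1)
  have hneg : ∀ u v, D.form u (-v) = -D.form u v := fun u v => by
    rw [← neg_one_smul F v, D.form_smul_right]
    show (-1 : F) * _ = _
    ring
  have a21 : D.form e2 e1 = -1 := by rw [sympData_swap e1 e2, a12]
  have b21 : D.form e2 (z *ᵥ e1) = 0 := by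
    show h e2 e1 = 0
    rw [hsym]; exact b12
  have c11 : D.form e1 e1 = 0 := sympData_self e1
  have c22 : D.form e2 e2 = 0 := sympData_self e2
  have hG : IsUnit (altTwo F ⊗ₖ (1 : Matrix (Fin 2) (Fin 2) F)).det := by
    rw [Matrix.det_kronecker]; simp [altTwo, Matrix.det_fin_two]
  obtain ⟨P, hpull, hP⟩ := exists_coord_of_gram e col hG (by
    rintro ⟨i, a⟩ ⟨j, b⟩
    fin_cases i <;> fin_cases j <;> fin_cases a <;> fin_cases b <;>
      simp [col, es, altTwo, FormData.form_neg_left, hneg, hiso, hskew, ← hD, a12, a21, hz1, b12, b21, b22, c11, c22])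
  refine ⟨P, hpull, ?_⟩
  apply Matrix.ext_iff_mulVec.2
  intro w
  obtain ⟨x, rfl⟩ : ∃ x : κ → F, (P : Matrix ι ι F) *ᵥ (x ∘ e) = w :=
    ⟨(((P⁻¹ : GL ι F) : Matrix ι ι F) *ᵥ w) ∘ e.symm, by
      rw [Function.comp_assoc, Equiv.symm_comp_self, Function.comp_id, Matrix.mulVec_mulVec, Units.mul_inv,
        Matrix.one_mulVec]⟩
  rw [conjMat_mulVec, Matrix.submatrix_mulVec_equiv, Function.comp_assoc, Equiv.self_comp_symm, Function.comp_id]
  have hlin : ∀ x : κ → F, (P : Matrix ι ι F) *ᵥ (x ∘ e) = ∑ p, x p • col p := fun x => by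
    have hx : x ∘ e = ∑ p, x p • (Pi.single p (1 : F) ∘ e) := by
      funext i
      simp [Finset.sum_apply, Pi.single_apply, Finset.sum_ite_eq]
    rw [hx, Matrix.mulVec_sum]
    simp only [Matrix.mulVec_smul, hP]
  rw [hlin, hlin, Matrix.mulVec_sum]
  simp only [Fintype.sum_prod_type, Fin.sum_univ_two, col, es, Matrix.mulVec_smul]
  simp [altTwo, Matrix.mulVec, dotProduct, Fintype.sum_prod_type, Fin.sum_univ_two]
  simp only [Matrix.mulVec_neg, hzz, neg_neg]
  abel

end Cfsg.Agent.Aschbacher
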