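/-
Matrix identities for the unitary group of the plane inside Sp_4(3).
-/
import Mathlib
import Cfsg.Agent.Aschbacher.Sp.Lists.DihThree

set_option autoImplicit false
set_option linter.style.haveILetI false

namespace Cfsg.Agent.Aschbacher

open Matrix
open scoped Kronecker

variable {F : Type*} [Field F]

local notation "M₂" => Matrix (Fin 2) (Fin 2) F

/-- An element mixing the two tensor factors. -/
def mixMat (y : M₂) : Matrix (Fin 2 × Fin 2) (Fin 2 × Fin 2) F :=
  !![(1 : F), 0; 0, -1] ⊗ₖ (1 : M₂) + !![(0 : F), -1; -1, 0] ⊗ₖ y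

lemma mixMat_isometry [Fintype F] (hq : Fintype.card F = 3) {y : M₂} (hys : yᵀ = y) (hy : y * y = 1) :
    (mixMat y)ᵀ * (altTwo F ⊗ₖ (1 : M₂)) * mixMat y = altTwo F ⊗ₖ (1 : M₂) := by
  rw [mixMat, Matrix.transpose_add, ← Matrix.kroneckerMap_transpose, ← Matrix.kroneckerMap_transpose,
    Matrix.transpose_one, hys, Matrix.add_mul, Matrix.add_mul, Matrix.mul_add, Matrix.mul_add,
    ← Matrix.mul_kronecker_mul, ← Matrix.mul_kronecker_mul, ← Matrix.mul_kronecker_mul,
    ← Matrix.mul_kronecker_mul, ← Matrix.mul_kronecker_mul, ← Matrix.mul_kronecker_mul]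
  simp only [one_mul, mul_one, hy, altTwo_congr]
  have e1 : (!![(1 : F), 0; 0, -1] : M₂).det = -1 := by simp [Matrix.det_fin_two]
  have e2 : (!![(0 : F), -1; -1, 0] : M₂).det = -1 := by simp [Matrix.det_fin_two]
  have e3 : (!![(1 : F), 0; 0, -1] : M₂)ᵀ * altTwo F * !![(0 : F), -1; -1, 0] = (-1 : F) • 1 := by
    ext i j; fin_cases i <;> fin_cases j <;> simp [altTwo, Matrix.mul_apply, Fin.sum_univ_two]
  have e4 : (!![(0 : F), -1; -1, 0] : M₂)ᵀ * altTwo F * !![(1 : F), 0; 0, -1] = (1 : F) • 1 := by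
    ext i j; fin_cases i <;> fin_cases j <;> simp [altTwo, Matrix.mul_apply, Fin.sum_univ_two]
  rw [e1, e2, e3, e4]
  have h3 := three_eq_zero_of_card hq
  ext ⟨i, a⟩ ⟨j, b⟩
  simp only [Matrix.add_apply, Matrix.kroneckerMap_apply, Matrix.smul_apply, smul_eq_mul]
  linear_combination -(altTwo F i j * (1 : M₂) a b) * h3

lemma mixMat_comm {y d : M₂} (h : y * d = d * y) :
    mixMat y * ((1 : M₂) ⊗ₖ d) = ((1 : M₂) ⊗ₖ d) * mixMat y := by
  simp only [mixMat, Matrix.add_mul, Matrix.mul_add, ← Matrix.mul_kronecker_mul, one_mul, mul_one, h]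

lemma mixMat_anticomm {y d : M₂} (hy : y * y = 1) (h : y * d = -(d * y)) :
    mixMat y * ((1 : M₂) ⊗ₖ d) = (altTwo F ⊗ₖ (y * d)) * mixMat y := by
  have hd : y * d * y = -d := by rw [h, Matrix.neg_mul, mul_assoc, hy, mul_one]
  have e1 : altTwo F * !![(1 : F), 0; 0, -1] = !![(0 : F), -1; -1, 0] := by
    ext i j; fin_cases i <;> fin_cases j <;> simp [altTwo, Matrix.mul_apply, Fin.sum_univ_two]
  have e2 : altTwo F * !![(0 : F), -1; -1, 0] = (-1 : F) • !![(1 : F), 0; 0, -1] := by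
    ext i j; fin_cases i <;> fin_cases j <;> simp [altTwo, Matrix.mul_apply, Fin.sum_univ_two]
  simp only [mixMat, Matrix.add_mul, Matrix.mul_add, ← Matrix.mul_kronecker_mul, one_mul, mul_one, hd, e1, e2]
  rw [← neg_one_smul F d, Matrix.smul_kronecker, Matrix.kronecker_smul, smul_smul, neg_one_mul, neg_neg, one_smul,
    add_comm]

lemma mixMat_left {y : M₂} (hy : y * y = 1) (k : Fin 4) :
    mixMat y * (quatRep F k ⊗ₖ (1 : M₂)) =
      ((![1, -1, -1, 1] k : F) • (quatRep F k ⊗ₖ (![1, 1, y, y] k : M₂))) * mixMat y := by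
  have g1 : ∀ (q : M₂) (c : F), !![(1 : F), 0; 0, -1] * q = c • (q * !![(1 : F), 0; 0, -1]) →
      !![(0 : F), -1; -1, 0] * q = c • (q * !![(0 : F), -1; -1, 0]) →
      mixMat y * (q ⊗ₖ (1 : M₂)) = (c • (q ⊗ₖ (1 : M₂))) * mixMat y := fun q c u v => by
    simp only [mixMat, Matrix.smul_mul, Matrix.add_mul, Matrix.mul_add, ← Matrix.mul_kronecker_mul, mul_one, one_mul,
      u, v, Matrix.smul_kronecker]
  have g2 : ∀ (q : M₂) (c : F), !![(1 : F), 0; 0, -1] * q = c • (q * !![(0 : F), -1; -1, 0]) →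
      !![(0 : F), -1; -1, 0] * q = c • (q * !![(1 : F), 0; 0, -1]) →
      mixMat y * (q ⊗ₖ (1 : M₂)) = (c • (q ⊗ₖ y)) * mixMat y := fun q c u v => by
    simp only [mixMat, Matrix.smul_mul, Matrix.add_mul, Matrix.mul_add, ← Matrix.mul_kronecker_mul, mul_one,
      u, v, hy, Matrix.smul_kronecker]
    rw [add_comm]
  fin_cases k <;> (first | apply g1 | apply g2) <;> ext i j <;> fin_cases i <;> fin_cases j <;>
    simp [quatRep, altTwo, Matrix.mul_apply, Fin.sum_univ_two]

/-- An isometry commuting with the imaginary unit is a pure tensor. -/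
lemma exists_kronecker_of_unitary {M : Matrix (Fin 2 × Fin 2) (Fin 2 × Fin 2) F} (h2 : (2 : F) ≠ 0)
    (hc : M * ((1 : M₂) ⊗ₖ altTwo F) = ((1 : M₂) ⊗ₖ altTwo F) * M)
    (hM : Mᵀ * (altTwo F ⊗ₖ (1 : M₂)) * M = altTwo F ⊗ₖ (1 : M₂)) :
    ∃ (a : M₂) (u v : F), a.det ≠ 0 ∧ (u • (1 : M₂) + v • altTwo F).det ≠ 0 ∧
      M = a ⊗ₖ (u • 1 + v • altTwo F) := by
  classical
  have hJo : (altTwo F)ᵀ * altTwo F = 1 := dihRep_orth (F := F) 1
  set A : M₂ := Matrix.of fun i j => M (i, 0) (j, 0) with hA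
  set B : M₂ := Matrix.of fun i j => M (i, 0) (j, 1) with hB
  have hdec : M = A ⊗ₖ (1 : M₂) + B ⊗ₖ altTwo F := by
    have hent : ∀ i j a b, ∑ b', M (i, a) (j, b') * altTwo F b' b = ∑ a', altTwo F a a' * M (i, a') (j, b) := by
      intro i j a b
      have h := congrFun (congrFun hc (i, a)) (j, b)
      simpa [Matrix.mul_apply, Fintype.sum_prod_type, Matrix.one_apply, ite_mul, mul_ite, Finset.sum_ite_eq,
        Finset.sum_ite_eq'] using h
    ext ⟨i, a⟩ ⟨j, b⟩
    have h00 := hent i j 0 0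
    have h01 := hent i j 0 1
    simp [altTwo, Fin.sum_univ_two] at h00 h01
    fin_cases a <;> fin_cases b <;>
      simp [hA, hB, altTwo, Matrix.kroneckerMap_apply] <;>
      first | linear_combination h01 | linear_combination -h01 | linear_combination h00 | linear_combination -h00
  rw [hdec, Matrix.transpose_add, ← Matrix.kroneckerMap_transpose, ← Matrix.kroneckerMap_transpose,
    Matrix.transpose_one, Matrix.add_mul, Matrix.add_mul, Matrix.mul_add, Matrix.mul_add,
    ← Matrix.mul_kronecker_mul, ← Matrix.mul_kronecker_mul, ← Matrix.mul_kronecker_mul,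
    ← Matrix.mul_kronecker_mul, ← Matrix.mul_kronecker_mul, ← Matrix.mul_kronecker_mul] at hM
  simp only [one_mul, mul_one, hJo, altTwo_congr] at hM
  set X := Aᵀ * altTwo F * B with hX
  have hXt : Bᵀ * altTwo F * A = -Xᵀ := by
    rw [hX, Matrix.transpose_mul, Matrix.transpose_mul, Matrix.transpose_transpose, altTwo_transpose,
      Matrix.smul_mul, Matrix.mul_smul, neg_one_smul, neg_neg, mul_assoc]
  rw [hXt] at hM
  have hent : ∀ i j, X i j + X j i = 0 ∧ A.det * altTwo F i j + B.det * altTwo F i j = altTwo F i j := by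
    intro i j
    have e01 := congrFun (congrFun hM (i, 0)) (j, 1)
    have e00 := congrFun (congrFun hM (i, 0)) (j, 0)
    simp [Matrix.kroneckerMap_apply, altTwo_transpose] at e01 e00
    simp [altTwo] at e01
    exact ⟨by linear_combination e01, by simpa [Matrix.smul_apply, show altTwo F 0 0 = 0 from rfl] using e00⟩
  have hdet : A.det + B.det = 1 := by simpa [altTwo] using (hent 0 1).2
  obtain ⟨c, hc'⟩ : ∃ c : F, X = c • altTwo F := by
    have h00 : X 0 0 = 0 := mul_left_cancel₀ h2 (by linear_combination (hent 0 0).1)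
    have h11 : X 1 1 = 0 := mul_left_cancel₀ h2 (by linear_combination (hent 1 1).1)
    have h10 : X 1 0 = -X 0 1 := by linear_combination (hent 0 1).1
    exact ⟨X 0 1, by ext i j; fin_cases i <;> fin_cases j <;> simp [altTwo, h00, h11, h10]⟩
  have hJu : IsUnit (altTwo F).det := by simp [altTwo, Matrix.det_fin_two]
  -- the two blocks are proportional
  have hprop : ∀ (C E : M₂) (x : F), C.det ≠ 0 → Cᵀ * altTwo F * E = x • altTwo F → E = (x / C.det) • C := by
    intro C E x hC h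
    have hu : IsUnit (Cᵀ * altTwo F).det := by
      rw [Matrix.det_mul, Matrix.det_transpose]
      exact (isUnit_iff_ne_zero.2 hC).mul hJu
    have h' : Cᵀ * altTwo F * E = Cᵀ * altTwo F * ((x / C.det) • C) := by
      rw [h, Matrix.mul_smul, altTwo_congr, smul_smul, div_mul_cancel₀ _ hC]
    exact ((Matrix.isUnit_iff_isUnit_det _).2 hu).mul_left_cancel h'
  have hcases : ∃ (a : M₂) (u v : F), a.det ≠ 0 ∧ M = a ⊗ₖ (u • (1 : M₂) + v • altTwo F) := by
    by_cases hA0 : A.det = 0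
    · have hB0 : B.det ≠ 0 := by rw [hA0, zero_add] at hdet; rw [hdet]; exact one_ne_zero
      have h : Bᵀ * altTwo F * A = c • altTwo F := by
        rw [hXt, hc', Matrix.transpose_smul, altTwo_transpose, smul_comm, neg_one_smul, neg_neg]
      refine ⟨B, c / B.det, 1, hB0, ?_⟩
      rw [hdec, hprop B A c hB0 h, Matrix.kronecker_add, one_smul, Matrix.kronecker_smul, Matrix.smul_kronecker]
    · refine ⟨A, 1, c / A.det, hA0, ?_⟩
      rw [hdec, hprop A B c hA0 hc', Matrix.kronecker_add, one_smul, Matrix.kronecker_smul, Matrix.smul_kronecker]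
  obtain ⟨a, u, v, ha, hMa⟩ := hcases
  refine ⟨a, u, v, ha, fun h0 => ?_, hMa⟩
  have h1 := congrArg Matrix.det hM
  rw [hdec] at hMa
  have hzero : (A ⊗ₖ (1 : M₂) + B ⊗ₖ altTwo F).det = 0 := by
    rw [hMa, Matrix.det_kronecker, h0]; simp
  have hM' : (A ⊗ₖ (1 : M₂) + B ⊗ₖ altTwo F)ᵀ * (altTwo F ⊗ₖ (1 : M₂)) * (A ⊗ₖ (1 : M₂) + B ⊗ₖ altTwo F) =
      altTwo F ⊗ₖ (1 : M₂) := by
    rw [Matrix.transpose_add, ← Matrix.kroneckerMap_transpose, ← Matrix.kroneckerMap_transpose,
      Matrix.transpose_one, Matrix.add_mul, Matrix.add_mul, Matrix.mul_add, Matrix.mul_add,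
      ← Matrix.mul_kronecker_mul, ← Matrix.mul_kronecker_mul, ← Matrix.mul_kronecker_mul,
      ← Matrix.mul_kronecker_mul, ← Matrix.mul_kronecker_mul, ← Matrix.mul_kronecker_mul]
    simp only [one_mul, mul_one, hJo, altTwo_congr, hXt, ← hX]
    exact hM
  have h2det := congrArg Matrix.det hM'
  rw [Matrix.det_mul, hzero, mul_zero, Matrix.det_kronecker] at h2det
  simp [altTwo, Matrix.det_fin_two] at h2det

end Cfsg.Agent.Aschbacher
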