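/-
In Sp_4(3) the normaliser of a hermitian structure lies in a normaliser of symplectic type.
-/
import Mathlib
import Cfsg.Agent.Aschbacher.Sp.Lists.UnitaryCoord
import Cfsg.Agent.Aschbacher.Sp.Lists.UnitaryMatrices
import Cfsg.Agent.Aschbacher.Sp.Lists.CubeF3

set_option autoImplicit false
set_option linter.style.haveILetI false

namespace Cfsg.Agent.Aschbacher

open Matrix
open Cfsg.Geo
open scoped Kronecker

variable {F : Type*} [Field F] [Fintype F]

local notation "ι" => Fin 2 ⊕ Fin 2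
local notation "κ" => Fin 2 × Fin 2
local notation "M₂" => Matrix (Fin 2) (Fin 2) F

lemma mem_subgroupNormalizer_of_conj {ι' : Type} [Fintype ι'] [DecidableEq ι'] {N : Subgroup (GL ι' F)}
    {g : GL ι' F} (h : ∀ x ∈ N, g * x * g⁻¹ ∈ N) : g ∈ subgroupNormalizer N := by
  show g ∈ Subgroup.normalizer (N : Set (GL ι' F))
  rw [Subgroup.mem_normalizer_iff]
  intro x
  refine ⟨h x, fun hx => ?_⟩
  obtain ⟨⟨y, hy⟩, hyx⟩ := (Finite.injective_iff_surjective (f := fun y : N => (⟨g * y * g⁻¹, h y y.2⟩ : N))).1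
    (fun a b hab => Subtype.ext (by simpa using congrArg Subtype.val hab)) ⟨_, hx⟩
  rwa [show x = y by simpa using (congrArg Subtype.val hyx).symm]

/-- The Kronecker product of units as a homomorphism. -/
noncomputable def kronUnits (F : Type*) [Field F] : GL (Fin 2) F × GL (Fin 2) F →* GL (Fin 2 × Fin 2) F :=
  (Units.map
    ({ toFun := fun p => p.1 ⊗ₖ p.2
       map_one' := Matrix.one_kronecker_one
       map_mul' := fun p q => Matrix.mul_kronecker_mul p.1 q.1 p.2 q.2 } :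
      Matrix (Fin 2) (Fin 2) F × Matrix (Fin 2) (Fin 2) F →* Matrix (Fin 2 × Fin 2) (Fin 2 × Fin 2) F)).comp
    MulEquiv.prodUnits.symm.toMonoidHom

set_option maxHeartbeats 1600000 in
/-- The normaliser of a hermitian structure over three elements lies in a normaliser of symplectic type. -/
theorem exists_symplecticType_of_unitary (hq : Fintype.card F = 3)
    {K : Subalgebra F (Matrix ι ι F)} (hK : IsFieldSubalgebra 2 K)
    (hadj : IsAdjointClosedFor (Cfsg.sympForm 2 F) K) (hns : ¬ IsSelfAdjointFor (Cfsg.sympForm 2 F) K) :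
    ∃ (R : Subgroup (GL ι F)) (p k : ℕ), IsSpMember 2 F (subgroupNormalizer R) ∧ IsSymplecticTypeGroup 2 R ∧
      ActsAbsolutelyIrreducibly (matrixSet R) ∧ R ≤ similarityGroup (Cfsg.sympForm 2 F) ∧ p.Prime ∧ Odd p ∧
      Fintype.card F = p ∧ Nat.card R = 2 ^ (1 + 2 * k) ∧ Nat.card (Subgroup.center R) = 2 ∧
      IsOfMinusType k R ∧ 2 * 2 = 2 ^ k ∧
      subalgebraNormalizer K ⊓ Cfsg.spGL 2 F ≤ subgroupNormalizer R := by
  classical
  have h3 := three_eq_zero_of_card hq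
  have h20 : (2 : F) ≠ 0 := fun h => one_ne_zero (α := F) (by linear_combination h3 - h)
  obtain ⟨z, hz, hz2, hza, hspan⟩ := exists_imaginary_three (by norm_num) hq hK hadj hns
  let e : ι ≃ κ := Fintype.equivOfCardEq (by simp)
  obtain ⟨P, hpull, hzP⟩ := exists_unitary_coord hq e hz2 hza
  set Ψ : GL (Fin 2) F × GL (Fin 2) F →* GL ι F :=
    ((MulAut.conj P).toMonoidHom.comp (Cfsg.Geo.glReindex e.symm).toMonoidHom).comp (kronUnits F) with hΨdef
  have hΨ : ∀ a b : GL (Fin 2) F, (glCoord e P (Ψ (a, b)) : Matrix κ κ F) = (a : M₂) ⊗ₖ (b : M₂) := fun a b => by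
    show ((glCoord e P ((MulAut.conj P) (Cfsg.Geo.glReindex e.symm (kronUnits F (a, b)))) : GL κ F) :
      Matrix κ κ F) = _
    rw [glCoord_of_reindex]
    rfl
  have hext : ∀ g h : GL ι F, (glCoord e P g : Matrix κ κ F) = (glCoord e P h : Matrix κ κ F) → g = h :=
    fun g h hgh => by rw [← conj_glReindex_glCoord e P g, ← conj_glReindex_glCoord e P h, Units.ext hgh]
  have hmul : ∀ a b : GL ι F, glCoord e P (a * b) = glCoord e P a * glCoord e P b := fun a b => by
    simp only [glCoord, ← map_mul]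
    congr 1
    group
  set Q := quatGroup (F := F) hq with hQ
  set Dh := dihGroup F with hDh
  set N : Subgroup (GL ι F) := (Q.prod Dh).map Ψ with hN
  have hmemN : ∀ g, g ∈ N ↔ ∃ a b, a ∈ Q ∧ b ∈ Dh ∧ Ψ (a, b) = g := fun g => by
    rw [hN, Subgroup.mem_map]
    exact ⟨fun ⟨p, hp, h⟩ => ⟨p.1, p.2, hp.1, hp.2, h⟩, fun ⟨a, b, ha, hb, h⟩ => ⟨(a, b), ⟨ha, hb⟩, h⟩⟩
  set Z := scalars ι F with hZ
  have hscalcoord : ∀ a : Fˣ, (glCoord e P (scalarUnit ι F a) : Matrix κ κ F) = (a : F) • 1 := fun a => by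
    rw [glCoord, coe_glReindex, Units.val_mul, Units.val_mul, scalarUnit_coe, Matrix.mul_smul, mul_one,
      Matrix.smul_mul, Units.inv_mul, Matrix.submatrix_smul]
    simp
  have hscalar : ∀ (a b : GL (Fin 2) F), (∃ c : F, (a : M₂) = c • 1) → (∃ c : F, (b : M₂) = c • 1) →
      Ψ (a, b) ∈ Z := by
    rintro a b ⟨c, hc⟩ ⟨d, hd⟩
    have hc0 : c ≠ 0 := fun h => a.ne_zero (by rw [hc, h, zero_smul])
    have hd0 : d ≠ 0 := fun h => b.ne_zero (by rw [hd, h, zero_smul])
    rw [show Ψ (a, b) = scalarUnit ι F (Units.mk0 (c * d) (mul_ne_zero hc0 hd0)) from hext _ _ (by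
      rw [hΨ, hscalcoord, hc, hd, Matrix.smul_kronecker, Matrix.kronecker_smul, smul_smul,
        Matrix.one_kronecker_one, Units.val_mk0])]
    exact scalarUnit_mem _
  have hqdet : ∀ k : Fin 4, (quatRep F k).det = 1 := fun k => by
    by_cases hk : k = 0
    · subst hk; simp [quatRep]
    · exact (quatRep_trace_det hq hk).2
  have hddet : ∀ k : Fin 4, (dihRep F k).det ≠ 0 := fun k h0 => by
    have h1 := congrArg Matrix.det (dihRep_orth (F := F) k)
    rw [Matrix.det_mul, h0, mul_zero, Matrix.det_one] at h1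
    exact zero_ne_one h1
  let qU : Fin 4 → GL (Fin 2) F := fun k =>
    Matrix.GeneralLinearGroup.mkOfDetNeZero (quatRep F k) (by rw [hqdet]; exact one_ne_zero)
  let dU : Fin 4 → GL (Fin 2) F := fun k => Matrix.GeneralLinearGroup.mkOfDetNeZero (dihRep F k) (hddet k)
  have hqU : ∀ k, qU k ∈ Q := fun k => ⟨1, k, by rw [one_smul]; rfl⟩
  have hdU : ∀ k, dU k ∈ Dh := fun k => ⟨1, k, by rw [one_smul]; rfl⟩
  -- every element is a scalar times a representative
  have hrep : ∀ x ∈ N, ∃ (c : Fˣ) (k l : Fin 4), x = scalarUnit ι F c * Ψ (qU k, dU l) := by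
    intro x hx
    obtain ⟨a, b, ⟨c, k, hc⟩, ⟨d, l, hd⟩, rfl⟩ := (hmemN x).1 hx
    have hc0 : c ≠ 0 := fun h => a.ne_zero (by rw [hc, h, zero_smul])
    have hd0 : d ≠ 0 := fun h => b.ne_zero (by rw [hd, h, zero_smul])
    refine ⟨Units.mk0 (c * d) (mul_ne_zero hc0 hd0), k, l, hext _ _ ?_⟩
    rw [hmul, Units.val_mul, hscalcoord, hΨ, hΨ, hc, hd, Matrix.smul_kronecker, Matrix.kronecker_smul, smul_smul,
      Units.val_mk0, Matrix.smul_mul, one_mul]
    rfl
  have hZN : Z ≤ N := by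
    intro w hw
    obtain ⟨a, rfl⟩ := mem_scalars_iff_scalarUnit.1 hw
    refine (hmemN _).2 ⟨scalarUnit (Fin 2) F a, 1, ⟨a, 0, by rw [scalarUnit_coe]; rfl⟩, Dh.one_mem, hext _ _ ?_⟩
    rw [hΨ, hscalcoord, scalarUnit_coe, Units.val_one, Matrix.smul_kronecker, Matrix.one_kronecker_one]
  -- isometries
  have hG : ∀ g : GL ι F, (glCoord e P g : Matrix κ κ F)ᵀ * (altTwo F ⊗ₖ (1 : M₂)) *
      (glCoord e P g : Matrix κ κ F) = altTwo F ⊗ₖ (1 : M₂) → g ∈ Cfsg.spGL 2 F := fun g h =>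
    mem_spGL_of_coord e P (by rw [hpull]; exact h)
  have hΨsp : ∀ a b : GL (Fin 2) F, (a : M₂).det = 1 → (b : M₂)ᵀ * (b : M₂) = 1 → Ψ (a, b) ∈ Cfsg.spGL 2 F := by
    intro a b ha hb
    refine hG _ ?_
    rw [hΨ, ← Matrix.kroneckerMap_transpose, ← Matrix.mul_kronecker_mul, ← Matrix.mul_kronecker_mul, mul_one,
      altTwo_congr, ha, one_smul, hb]
  set H := subgroupNormalizer N ⊓ Cfsg.spGL 2 F with hH
  have hnorm : ∀ g ∈ H, ∀ x ∈ N, g * x * g⁻¹ ∈ N := fun g hg x hx =>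
    (Subgroup.mem_normalizer_iff.1 (show g ∈ Subgroup.normalizer (N : Set (GL ι F)) from hg.1) x).1 hx
  have hNH : N ≤ H ⊔ Z := by
    intro x hx
    obtain ⟨c, k, l, rfl⟩ := hrep x hx
    refine mul_mem (Subgroup.mem_sup_right (scalarUnit_mem c)) (Subgroup.mem_sup_left ⟨?_, ?_⟩)
    · refine mem_subgroupNormalizer_of_conj fun y hy => ?_
      have hm : Ψ (qU k, dU l) ∈ N := (hmemN _).2 ⟨_, _, hqU k, hdU l, rfl⟩
      exact mul_mem (mul_mem hm hy) (inv_mem hm)
    · exact hΨsp _ _ (hqdet k) (dihRep_orth l)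
  have hns' : ¬ N ≤ Z := by
    intro hle
    obtain ⟨d, hd⟩ := mem_scalars_iff_scalarUnit.1 (hle ((hmemN _).2 ⟨qU 1, 1, hqU 1, Dh.one_mem, rfl⟩))
    have h1 := hΨ (qU 1) 1
    rw [← hd, hscalcoord] at h1
    have h2 := congrFun (congrFun h1 (0, 0)) (1, 0)
    simp [qU, quatRep, altTwo] at h2
  have htop : Algebra.adjoin F (matrixSet N) = ⊤ := by
    rw [eq_top_iff]
    intro X _
    set A := Algebra.adjoin F (matrixSet N) with hA
    let Θ : Matrix κ κ F →ₐ[F] Matrix ι ι F :=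
      (conjMat P : Matrix ι ι F →ₐ[F] Matrix ι ι F).comp (Matrix.reindexAlgEquiv F F e.symm).toAlgHom
    have hΘ : ∀ g : GL ι F, Θ (glCoord e P g : Matrix κ κ F) = (g : Matrix ι ι F) :=
      fun g => congrArg Units.val (conj_glReindex_glCoord e P g)
    have hbase : ∀ k l, quatRep F k ⊗ₖ dihRep F l ∈ A.comap Θ := fun k l => by
      show Θ _ ∈ A
      have h1 : (glCoord e P (Ψ (qU k, dU l)) : Matrix κ κ F) = quatRep F k ⊗ₖ dihRep F l := hΨ _ _
      rw [← h1, hΘ]
      exact Algebra.subset_adjoin (mem_matrixSet ((hmemN _).2 ⟨_, _, hqU k, hdU l, rfl⟩))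
    have hall : ∀ a b : M₂, a ⊗ₖ b ∈ A.comap Θ := by
      intro a b
      obtain ⟨c, rfl⟩ := (Submodule.mem_span_range_iff_exists_fun F).1 (mem_span_quatRep hq a)
      obtain ⟨d, rfl⟩ := (Submodule.mem_span_range_iff_exists_fun F).1 (mem_span_dihRep h20 b)
      simp only [Fin.sum_univ_four, Matrix.add_kronecker, Matrix.kronecker_add, Matrix.smul_kronecker,
        Matrix.kronecker_smul]
      repeat' first
        | apply add_mem
        | apply Subalgebra.smul_mem
        | exact hbase _ _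
    have hmat : ∀ Y, Y ∈ A.comap Θ := fun Y => by
      rw [Matrix.matrix_eq_sum_single Y]
      refine sum_mem fun f _ => sum_mem fun g _ => ?_
      rw [show Matrix.single f g (Y f g) = Y f g • (Matrix.single f.1 g.1 (1 : F) ⊗ₖ Matrix.single f.2 g.2 (1 : F)) by
        rw [Matrix.single_kronecker_single]; simp]
      exact Subalgebra.smul_mem _ (hall _ _) _
    obtain ⟨Y, rfl⟩ : ∃ Y, Θ Y = X :=
      ⟨((conjMat P).symm X).submatrix e.symm e.symm, by simp [Θ, Matrix.submatrix_submatrix]⟩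
    exact hmat Y
  have hqswap : ∀ k l : Fin 4, ∃ t : F, quatRep F k * quatRep F l = t • (quatRep F l * quatRep F k) := by
    intro k l
    refine ⟨![![1, 1, 1, 1], ![1, 1, -1, -1], ![1, -1, 1, -1], ![1, -1, -1, 1]] k l, ?_⟩
    fin_cases k <;> fin_cases l <;> ext i j <;> fin_cases i <;> fin_cases j <;>
      simp [quatRep, altTwo, Matrix.mul_apply, Fin.sum_univ_two]
  have hcomm : ∀ x ∈ N, ∀ y ∈ N, x * y * x⁻¹ * y⁻¹ ∈ Z := by
    intro x hx y hy
    obtain ⟨a, b, ⟨c, k, hc⟩, ⟨d, l, hd⟩, rfl⟩ := (hmemN x).1 hx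
    obtain ⟨a', b', ⟨c', k', hc'⟩, ⟨d', l', hd'⟩, rfl⟩ := (hmemN y).1 hy
    rw [← map_inv, ← map_inv, ← map_mul, ← map_mul, ← map_mul]
    have hscal : ∀ (u v : GL (Fin 2) F) (s t r : F) (U V : M₂), (u : M₂) = s • U → (v : M₂) = t • V →
        U * V = r • (V * U) → ∃ w : F, ((u * v * u⁻¹ * v⁻¹ : GL (Fin 2) F) : M₂) = w • 1 := by
      intro u v s t r U V hu hv hUV
      refine ⟨r, ?_⟩
      have h1 : ((u * v : GL (Fin 2) F) : M₂) = r • ((v * u : GL (Fin 2) F) : M₂) := by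
        rw [Units.val_mul, Units.val_mul, hu, hv, smul_mul_smul_comm, smul_mul_smul_comm, hUV, smul_smul, smul_smul]
        congr 1
        ring
      rw [Units.val_mul, Units.val_mul, h1, Matrix.smul_mul, Matrix.smul_mul, ← Units.val_mul, ← Units.val_mul]
      simp [mul_assoc]
    obtain ⟨r, hr⟩ := hqswap k k'
    obtain ⟨r', hr'⟩ := dihRep_swap (F := F) l l'
    exact hscalar _ _ (hscal _ _ _ _ _ _ _ hc hc' hr) (hscal _ _ _ _ _ _ _ hd hd' hr')
  -- the mixing isometries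
  have hmixex : ∀ j : Fin 4, (dihRep F j)ᵀ = dihRep F j → dihRep F j * dihRep F j = 1 → ∃ g ∈ H,
      (glCoord e P g : Matrix κ κ F) = mixMat (dihRep F j) := by
    intro j hjs hj2
    have hiso := mixMat_isometry hq hjs hj2
    have hdet : (mixMat (dihRep F j)).det ≠ 0 := fun h0 => by
      have h1 := congrArg Matrix.det hiso
      rw [Matrix.det_mul, h0, mul_zero, Matrix.det_kronecker] at h1
      simp [altTwo, Matrix.det_fin_two] at h1
    set u : GL κ F := Matrix.GeneralLinearGroup.mkOfDetNeZero _ hdet with hu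
    set g := (MulAut.conj P) (Cfsg.Geo.glReindex e.symm u) with hg
    have hgc : (glCoord e P g : Matrix κ κ F) = mixMat (dihRep F j) := by rw [hg, glCoord_of_reindex]; rfl
    refine ⟨g, ⟨mem_subgroupNormalizer_of_conj ?_, hG _ (by rw [hgc]; exact hiso)⟩, hgc⟩
    have key : ∀ a b : GL (Fin 2) F, (∃ a' b' : GL (Fin 2) F, a' ∈ Q ∧ b' ∈ Dh ∧
        mixMat (dihRep F j) * ((a : M₂) ⊗ₖ (b : M₂)) = ((a' : M₂) ⊗ₖ (b' : M₂)) * mixMat (dihRep F j)) →
        g * Ψ (a, b) * g⁻¹ ∈ N := by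
      rintro a b ⟨a', b', ha', hb', h⟩
      refine (hmemN _).2 ⟨a', b', ha', hb', ?_⟩
      rw [eq_mul_inv_iff_mul_eq]
      refine hext _ _ ?_
      rw [hmul, hmul, Units.val_mul, Units.val_mul, hgc, hΨ, hΨ, h]
    intro x hx
    obtain ⟨c, k, l, rfl⟩ := hrep x hx
    have hsplit : Ψ (qU k, dU l) = Ψ (qU k, 1) * Ψ (1, dU l) := by
      rw [← map_mul, Prod.mk_mul_mk, mul_one, one_mul]
    have h1 : g * scalarUnit ι F c * g⁻¹ ∈ N := by
      rw [scalarUnit_comm, mul_assoc, mul_inv_cancel, mul_one]; exact hZN (scalarUnit_mem c)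
    have h2 : g * Ψ (qU k, 1) * g⁻¹ ∈ N := by
      refine key _ _ ⟨scalarUnit (Fin 2) F (![1, -1, -1, 1] k) * qU k, ![1, 1, dU j, dU j] k, ?_, ?_, ?_⟩
      · exact mul_mem ⟨_, 0, by rw [scalarUnit_coe]; rfl⟩ (hqU k)
      · fin_cases k
        · exact Dh.one_mem
        · exact Dh.one_mem
        · exact hdU j
        · exact hdU j
      · rw [Units.val_one, show (qU k : M₂) = quatRep F k from rfl, mixMat_left hj2 k, Units.val_mul, scalarUnit_coe]
        rw [Matrix.smul_mul (![1, -1, -1, 1] k : Fˣ).val (1 : M₂), one_mul, Matrix.smul_kronecker]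
        fin_cases k <;> simp [qU, dU]
    have h3 : g * Ψ (1, dU l) * g⁻¹ ∈ N := by
      obtain ⟨t, ht⟩ := dihRep_swap (F := F) j l
      have ht2 : t * t = 1 := sq_eq_one_three hq fun h0 => by
        have h1 := congrArg Matrix.det ht
        rw [h0, zero_smul, Matrix.det_mul] at h1
        rw [Matrix.det_zero] at h1
        exact mul_ne_zero (hddet j) (hddet l) h1
      rcases mul_self_eq_one_iff.1 ht2 with rfl | rfl
      · rw [one_smul] at ht
        exact key _ _ ⟨1, dU l, Q.one_mem, hdU l, by rw [Units.val_one]; exact mixMat_comm ht⟩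
      · rw [neg_one_smul] at ht
        refine key _ _ ⟨qU 1, dU j * dU l, hqU 1, mul_mem (hdU j) (hdU l), ?_⟩
        rw [Units.val_one, Units.val_mul]
        exact mixMat_anticomm hj2 ht
    rw [hsplit, show g * (scalarUnit ι F c * (Ψ (qU k, 1) * Ψ (1, dU l))) * g⁻¹ =
      (g * scalarUnit ι F c * g⁻¹) * ((g * Ψ (qU k, 1) * g⁻¹) * (g * Ψ (1, dU l) * g⁻¹)) by group]
    exact mul_mem h1 (mul_mem h2 h3)
  have hds : ∀ j : Fin 4, j = 2 ∨ j = 3 → (dihRep F j)ᵀ = dihRep F j ∧ dihRep F j * dihRep F j = 1 := by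
    rintro j (rfl | rfl) <;> constructor <;> ext a b <;> fin_cases a <;> fin_cases b <;>
      simp [dihRep, Matrix.mul_apply, Fin.sum_univ_two]
  have hmin : ∀ M : Subgroup (GL ι F), Z ≤ M → M ≤ N → (∀ g ∈ H, ∀ x ∈ M, g * x * g⁻¹ ∈ M) → M = Z ∨ M = N := by
    intro M hZM hMN hM
    by_cases hMZ : M ≤ Z
    · exact Or.inl (le_antisymm hMZ hZM)
    refine Or.inr (le_antisymm hMN ?_)
    have hrotH : Ψ (quatRot F, 1) ∈ H := by
      refine ⟨mem_subgroupNormalizer_of_conj fun x hx => ?_, hΨsp _ _ (by simp [quatRot, Matrix.det_fin_two])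
        (by simp)⟩
      obtain ⟨a, b, ha, hb, rfl⟩ := (hmemN x).1 hx
      rw [← map_inv, ← map_mul, ← map_mul]
      exact (hmemN _).2 ⟨_, _, conj_mem_quatGroup hq _ ha, by simpa using hb, rfl⟩
    -- an element with a non-scalar first factor
    have hex : ∃ a b, a ∈ Q ∧ b ∈ Dh ∧ Ψ (a, b) ∈ M ∧ ¬ ∃ c : F, (a : M₂) = c • 1 := by
      obtain ⟨x, hxM, hxZ⟩ := SetLike.not_le_iff_exists.1 hMZ
      obtain ⟨c, k, l, rfl⟩ := hrep x (hMN hxM)
      have hy : Ψ (qU k, dU l) ∈ M := by simpa using mul_mem (inv_mem (hZM (scalarUnit_mem c))) hxM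
      have hqns : ∀ k : Fin 4, k ≠ 0 → ¬ ∃ c : F, (qU k : M₂) = c • 1 := by
        rintro k hk ⟨d, hd⟩
        have e0 := congrFun (congrFun hd 0) 1
        fin_cases k <;> simp [qU, quatRep, altTwo] at hk e0
      by_cases hk : k = 0
      swap
      · exact ⟨_, _, hqU k, hdU l, hy, hqns k hk⟩
      subst hk
      have hl : l ≠ 0 := by
        rintro rfl
        exact hxZ (mul_mem (scalarUnit_mem c) (hscalar _ _ ⟨1, by simp [qU, quatRep]⟩ ⟨1, by simp [dU, dihRep]⟩))
      -- conjugate by a mixing element anticommuting with the second factor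
      obtain ⟨j, hj, hanti⟩ : ∃ j : Fin 4, (j = 2 ∨ j = 3) ∧ dihRep F j * dihRep F l = -(dihRep F l * dihRep F j) := by
        refine ⟨![2, 2, 3, 2] l, ?_, ?_⟩
        · fin_cases l <;> simp
        · fin_cases l <;> simp at hl <;> ext a b <;> fin_cases a <;> fin_cases b <;>
            simp [dihRep, altTwo, Matrix.mul_apply, Fin.sum_univ_two]
      obtain ⟨g, hg, hgc⟩ := hmixex j (hds j hj).1 (hds j hj).2
      refine ⟨qU 1, dU j * dU l, hqU 1, mul_mem (hdU j) (hdU l), ?_, hqns 1 (by decide)⟩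
      have heq : g * Ψ (qU 0, dU l) * g⁻¹ = Ψ (qU 1, dU j * dU l) := by
        rw [mul_inv_eq_iff_eq_mul]
        refine hext _ _ ?_
        rw [hmul, hmul, Units.val_mul, Units.val_mul, hgc, hΨ, hΨ, Units.val_mul]
        exact mixMat_anticomm (hds j hj).2 hanti
      rw [← heq]
      exact hM g hg _ hy
    obtain ⟨a, b, ha, hb, habM, hans⟩ := hex
    let slot : Subgroup (GL (Fin 2) F) := M.comap (Ψ.comp (MonoidHom.inl _ _))
    have hslot : quatGroup hq ≤ slot := by
      have hc : Ψ (quatRot F * a * (quatRot F)⁻¹ * a⁻¹, 1) ∈ M := by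
        have h1 : Ψ (quatRot F, 1) * Ψ (a, b) * (Ψ (quatRot F, 1))⁻¹ * (Ψ (a, b))⁻¹ ∈ M :=
          mul_mem (hM _ hrotH _ habM) (inv_mem habM)
        rw [← map_inv, ← map_inv, ← map_mul, ← map_mul, ← map_mul] at h1
        simpa using h1
      refine quatGroup_le hq (fun y hy => hZM (hscalar _ _ hy ⟨1, by simp⟩)) (fun y hy => ?_) hc
        (mul_mem (conj_mem_quatGroup hq _ ha) (inv_mem ha)) (quatRot_comm_not_scalar hq ha hans)
      have h1 := hM _ hrotH _ hy
      show Ψ (quatRot F * y * (quatRot F)⁻¹, 1) ∈ M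
      have h2 : Ψ (quatRot F, 1) * Ψ (y, 1) * (Ψ (quatRot F, 1))⁻¹ ∈ M := h1
      rw [← map_inv, ← map_mul, ← map_mul] at h2
      simpa using h2
    have hrs : ∀ j : Fin 4, j = 2 ∨ j = 3 → Ψ (1, dU j) ∈ M := by
      intro j hj
      obtain ⟨g, hg, hgc⟩ := hmixex j (hds j hj).1 (hds j hj).2
      have h0 : Ψ (qU 2, 1) ∈ M := hslot (hqU 2)
      have heq : g * Ψ (qU 2, 1) * g⁻¹ = scalarUnit ι F (-1) * Ψ (qU 2, dU j) := by
        rw [mul_inv_eq_iff_eq_mul]
        refine hext _ _ ?_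
        rw [hmul, hmul, hmul, Units.val_mul, Units.val_mul, Units.val_mul, hgc, hΨ, hΨ, hscalcoord,
          Units.val_one, Matrix.smul_mul, one_mul]
        exact mixMat_left (hds j hj).2 2
      have h1 := hM g hg _ h0
      rw [heq] at h1
      have h2 : Ψ (qU 2, dU j) ∈ M := by simpa using mul_mem (inv_mem (hZM (scalarUnit_mem (-1)))) h1
      have h3 := mul_mem (inv_mem h0) h2
      rw [← map_inv, ← map_mul] at h3
      simpa using h3
    have hslot' : ∀ l, Ψ (1, dU l) ∈ M := by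
      intro l
      fin_cases l
      · exact hZM (hscalar _ _ ⟨1, by simp⟩ ⟨1, by simp [dU, dihRep]⟩)
      · have h1 := mul_mem (hrs 2 (Or.inl rfl)) (hrs 3 (Or.inr rfl))
        rw [← map_mul, Prod.mk_mul_mk, one_mul] at h1
        convert h1 using 4
        ext i k
        fin_cases i <;> fin_cases k <;> simp [dU, dihRep, altTwo, Matrix.mul_apply, Fin.sum_univ_two]
      · exact hrs 2 (Or.inl rfl)
      · exact hrs 3 (Or.inr rfl)
    intro x hx
    obtain ⟨c, k, l, rfl⟩ := hrep x hx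
    refine mul_mem (hZM (scalarUnit_mem c)) ?_
    rw [show Ψ (qU k, dU l) = Ψ (qU k, 1) * Ψ (1, dU l) by rw [← map_mul, Prod.mk_mul_mk, mul_one, one_mul]]
    exact mul_mem (hslot (hqU k)) (hslot' l)
  have hle : subalgebraNormalizer K ⊓ Cfsg.spGL 2 F ≤ H := by
    rintro g ⟨hgK, hgS⟩
    refine ⟨mem_subgroupNormalizer_of_conj ?_, hgS⟩
    set Φ : Matrix κ κ F →ₐ[F] Matrix ι ι F :=
      (conjMat P : Matrix ι ι F →ₐ[F] Matrix ι ι F).comp (Matrix.reindexAlgEquiv F F e.symm).toAlgHom with hΦ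
    have hΦg : ∀ g : GL ι F, Φ (glCoord e P g : Matrix κ κ F) = (g : Matrix ι ι F) :=
      fun g => congrArg Units.val (conj_glReindex_glCoord e P g)
    have hΦinj : Function.Injective Φ :=
      (conjMat P).injective.comp (Matrix.reindexAlgEquiv F F e.symm).injective
    have hΦz : Φ ((1 : M₂) ⊗ₖ altTwo F) = z := by rw [hzP]; rfl
    obtain ⟨u, v, huv⟩ := hspan _ ((hgK z).1 hz)
    have hgz : (g : Matrix ι ι F) * z = (u • 1 + v • z) * (g : Matrix ι ι F) := by
      rw [← huv, mul_assoc, Units.inv_mul, mul_one]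
    have hA : (glCoord e P g : Matrix κ κ F) * ((1 : M₂) ⊗ₖ altTwo F) =
        (u • 1 + v • ((1 : M₂) ⊗ₖ altTwo F)) * (glCoord e P g : Matrix κ κ F) :=
      hΦinj (by simp only [map_mul, map_add, map_smul, map_one, hΦg, hΦz, hgz])
    set m := (glCoord e P g : Matrix κ κ F) with hm
    set A := (1 : M₂) ⊗ₖ altTwo F with hAdef
    have hA2 : A * A = (-1 : F) • 1 := by
      rw [hAdef, ← Matrix.mul_kronecker_mul, one_mul, altTwo_sq, Matrix.kronecker_smul, Matrix.one_kronecker_one]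
    have hmu : IsUnit m := (glCoord e P g).isUnit
    have h2 : (u * u - v * v + 1) • (1 : Matrix κ κ F) + (2 * u * v) • A = 0 := by
      have h1 : ((u • 1 + v • A) * (u • 1 + v • A)) * m = ((-1 : F) • 1) * m := by
        rw [mul_assoc, ← hA, ← mul_assoc, ← hA, mul_assoc, hA2, Matrix.mul_smul, mul_one, Matrix.smul_mul, one_mul]
      have h2 := hmu.mul_right_cancel h1
      simp only [mul_add, add_mul, smul_mul_smul_comm, one_mul, mul_one, hA2, smul_smul] at h2
      rw [← sub_eq_zero] at h2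
      rw [← h2]
      module
    have hAns : ∀ p q : F, p • (1 : Matrix κ κ F) + q • A = 0 → p = 0 ∧ q = 0 := by
      intro p q h
      have e0 := congrFun (congrFun h (0, 0)) (0, 0)
      have e1 := congrFun (congrFun h (0, 0)) (0, 1)
      simp [hAdef, altTwo, Matrix.kroneckerMap_apply] at e0 e1
      exact ⟨e0, e1⟩
    obtain ⟨hp, hq'⟩ := hAns _ _ h2
    rcases mul_eq_zero.1 hq' with h' | rfl
    swap
    · exfalso
      rw [zero_smul, add_zero, Matrix.smul_mul, one_mul] at hA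
      have h4 : m * A = m * (u • 1) := by rw [hA, Matrix.mul_smul, mul_one]
      have h5 := hmu.mul_left_cancel h4
      have := (hAns u (-1) (by rw [neg_one_smul, h5]; abel)).2
      exact neg_ne_zero.2 one_ne_zero this
    obtain rfl : u = 0 := (mul_eq_zero.1 h').resolve_left h20
    have hv : v * v = 1 := by linear_combination -hp
    rw [zero_smul, zero_add, Matrix.smul_mul] at hA
    have hiso : mᵀ * (altTwo F ⊗ₖ (1 : M₂)) * m = altTwo F ⊗ₖ (1 : M₂) := by
      rw [← hpull]; exact sympData_pull_isometry e P hgS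
    -- reduce to an element commuting with the imaginary unit
    have key : ∀ g' : GL ι F, (glCoord e P g' : Matrix κ κ F) * A = A * (glCoord e P g' : Matrix κ κ F) →
        (glCoord e P g' : Matrix κ κ F)ᵀ * (altTwo F ⊗ₖ (1 : M₂)) * (glCoord e P g' : Matrix κ κ F) =
          altTwo F ⊗ₖ (1 : M₂) → ∀ x ∈ N, g' * x * g'⁻¹ ∈ N := by
      intro g' hc hi x hx
      obtain ⟨a, p, q, ha, hb, hg'⟩ := exists_kronecker_of_unitary h20 hc hi
      let aU := Matrix.GeneralLinearGroup.mkOfDetNeZero a ha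
      let bU := Matrix.GeneralLinearGroup.mkOfDetNeZero (p • (1 : M₂) + q • altTwo F) hb
      have : g' = Ψ (aU, bU) := hext _ _ (by rw [hΨ, hg']; rfl)
      subst this
      obtain ⟨y, y', hy, hy', rfl⟩ := (hmemN x).1 hx
      rw [← map_inv, ← map_mul, ← map_mul]
      exact (hmemN _).2 ⟨_, _, conj_mem_quatGroup hq _ hy, conj_mem_dihGroup hq (b := bU) rfl hy', rfl⟩
    rcases mul_self_eq_one_iff.1 hv with rfl | rfl
    · exact key g (by rw [hA, one_smul]) hiso
    · set r := Ψ (1, dU 2) with hr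
      have hrc : (glCoord e P r : Matrix κ κ F) = (1 : M₂) ⊗ₖ dihRep F 2 := hΨ _ _
      have hrA : ((1 : M₂) ⊗ₖ dihRep F 2) * A = -(A * ((1 : M₂) ⊗ₖ dihRep F 2)) := by
        ext ⟨i, a⟩ ⟨j, b⟩
        simp only [hAdef, ← Matrix.mul_kronecker_mul, one_mul, Matrix.neg_apply, Matrix.kroneckerMap_apply]
        fin_cases a <;> fin_cases b <;> simp [dihRep, altTwo]
      have hrS : r ∈ Cfsg.spGL 2 F := hΨsp _ _ (by simp) (dihRep_orth 2)
      have hgr := key (g * r) (by
        rw [hmul, Units.val_mul, hrc, mul_assoc, hrA, mul_neg, ← mul_assoc, hA, neg_one_smul, neg_mul, neg_neg,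
          mul_assoc]) (by
        rw [← hpull]; exact sympData_pull_isometry e P (mul_mem hgS hrS))
      have hrN : r ∈ N := (hmemN _).2 ⟨_, _, Q.one_mem, hdU 2, rfl⟩
      intro x hx
      have h1 := hgr (r⁻¹ * x * r) (mul_mem (mul_mem (inv_mem hrN) hx) hrN)
      rwa [show g * r * (r⁻¹ * x * r) * (g * r)⁻¹ = g * x * g⁻¹ by group] at h1
  rcases abelian_member (by norm_num) inf_le_right hZN hns' hNH hnorm htop hcomm hmin with ⟨hnp, -⟩ |
    ⟨R, p, k, h1, h2, h3, h4, h5, h6, h7, h8, h9, h10, h11, h12, hR⟩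
  · exact absurd (hq ▸ Nat.prime_three) hnp
  · exact ⟨R, p, k, Or.inr (Or.inr (Or.inr (Or.inr (Or.inr (Or.inl
      ⟨R, p, k, h1, h2, h3, h4, h5, h6, h7, h8, h9, h10, h11, h12, rfl⟩))))), h1, h2, h3, h4, h5, h6, h7, h8, h9,
      h10, hle.trans hR⟩

end Cfsg.Agent.Aschbacher
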